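import Cfsg.Agent.C3F.Tool

/-! The automizer of `E3`: generation (for S5227).  `A = F.autGroup E3`, `T = autInducedBy ⊤ E3`. -/

set_option autoImplicit false
set_option linter.unusedSimpArgs false

namespace Cfsg.Agent.C3F

open Subgroup Cfsg.Agent.Fus Cfsg.FusionSystem Cfsg.Agent.SpF

variable {F : FusionSystem (⊤ : Subgroup S)}

theorem ωf_Ec0 (k : K) {x : S} (hx : x ∈ Ec 0) : ωf k x = x := by
  obtain ⟨-, b, c, d⟩ := hx
  rw [zero_mul] at c d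
  refine S.ext9 ?_ ?_ ?_ ?_ ?_ ?_ ?_ ?_ ?_ <;> simp [ωf, b, c, d]
theorem ωf_comm (k : K) {x : S} (hx : x ∈ E3) : ωf k x * x⁻¹ ∈ Ec 0 := by
  rw [mem_E3] at hx
  refine ⟨?_, ?_, ?_, ?_⟩ <;> simp [ωf, act, hx]
theorem ωf_J5 {x : S} (hx : x ∈ up J5) : ωf 1 x ∈ Ec (-1) := by
  obtain ⟨a, -⟩ := hx
  refine ⟨?_, ?_, ?_, ?_⟩ <;> simp [ωf, a]
theorem ωf_J5' {x : S} (hx : x ∈ Ec (-1)) : ωf (-1) x ∈ up J5 := by
  obtain ⟨a, b, c, d⟩ := hx
  refine ⟨Hs.ext ?_ ?_ ?_, ?_⟩ <;> simp [ωf, a, b, c, d]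

theorem a3_J5 : up J5 ≤ E3 := fun _ h => mem_J5.1 h.2
theorem a3_Ec (k : K) : Ec k ≤ E3 := fun _ h => h.2.1

theorem afn_ω0_inv {x : S} (hx : x ∈ E3) : afn ω0⁻¹ x = ωf (-1) x := by rw [afn_apply _ hx]; rfl

theorem a3_card (α : MulAut E3) {X : Subgroup S} (h : X ≤ E3) : Nat.card (img X (afn α)) = Nat.card X :=
  card_img_of_injOn ((homOn_afn α).mono h) ((afn_injOn α).mono h)

theorem a3_inv {α : MulAut E3} {X Y : Subgroup S} (hX : X ≤ E3) (h : img X (afn α⁻¹) = Y) : ∀ y ∈ Y, afn α y ∈ X := by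
  intro y hy
  obtain ⟨x, hx, rfl⟩ := ((homOn_afn α⁻¹).mem_img_of_le hX).1 (h.ge hy)
  rwa [afn_afn_inv α (hX hx)]

/-- Conjugation by an element of `S`. -/
theorem a3_cj (g : S) : ∃ β ∈ autInducedBy ⊤ E3, ∀ x ∈ E3, afn β x = g * x * g⁻¹ :=
  have n : g ∈ normalizerIn ⊤ E3 := ⟨trivial, mem_normalizer_of_conj_mem fun _ => conj_E3 g⟩
  ⟨_, conjAut_mem_autInducedBy n, fun _ => afn_conjAut _⟩

/-- Conjugation by an element of `J` stabilizes the chain. -/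
theorem a3_chn {β : MulAut E3} {j : V} (e : ∀ x ∈ E3, afn β x = inl j * x * (inl j)⁻¹) : Chn E3 β ⊥ [up J5] := by
  refine ⟨bot_le, fun y hy hu => ?_, fun y hy => ?_⟩
  · rw [e y hy, comm_inl_eq, hu.1, act_one, sub_self]; exact one_mem _
  · rw [e y hy, comm_inl_eq]; exact ⟨rfl, by simp [act]⟩

/-- `ab5`. -/
theorem img_ab5 (α : MulAut E3) {X : Subgroup S} (h : X = up J5 ∨ ∃ k, X = Ec k) :
    img X (afn α) = up J5 ∨ ∃ k, img X (afn α) = Ec k := by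
  obtain ⟨h1, h2, h3⟩ : X ≤ E3 ∧ (∀ x ∈ X, ∀ y ∈ X, x * y = y * x) ∧ Nat.card X = 243 := by
    obtain rfl | ⟨k, rfl⟩ := h
    · exact ⟨a3_J5, fun x hx y hy => S.ext (by simp [hx.1, hy.1, act_one, add_comm]) (by simp [hx.1, hy.1]),
        (card_up _).trans card_J5⟩
    · exact ⟨a3_Ec k, Ec_comm k, card_Ec k⟩
  refine ab5 (fun a ha b hb => ?_) (img_le_iff.2 fun x hx => afn_mem α (h1 hx)) (by rw [a3_card α h1, h3])
  obtain ⟨x, hx, rfl⟩ := ((homOn_afn α).mem_img_of_le h1).1 ha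
  obtain ⟨y, hy, rfl⟩ := ((homOn_afn α).mem_img_of_le h1).1 hb
  rw [← homOn_afn α _ (h1 hx) _ (h1 hy), ← homOn_afn α _ (h1 hy) _ (h1 hx), h2 x hx y hy]

/-- `N = {β ∈ A | Chn E3 β ⊥ [up J5]}` is a `3`-group (`exists_chn`) containing the conjugations by `inl (k • ew)`; `N ⊔ Inn E3` is a `3`-group
(`Inn` is normal) containing `T` (`g = inl (g.j.w • ew) * e`, `e ∈ E3`), so equals `T` (Sylow, `sat_fullyAutomized`).  `α` normalizes `N` (`Chn.conj`) and `Inn`. -/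
theorem norm3 (hF : F.IsSaturated 3) (hE : F.IsEssential 3 E3) {α : MulAut E3} (hα : α ∈ F.autGroup E3)
    (h : ∀ x ∈ up J5, afn α x ∈ up J5) : ∀ s ∈ autInducedBy ⊤ E3, α * s * α⁻¹ ∈ autInducedBy ⊤ E3 := by
  have ha := (sat_fullyAutomized p3 hF hE.2.1).2
  have le := autInducedBy_le_autGroup F (le_top (a := E3))
  have il : Inn E3 ≤ autInducedBy ⊤ E3 := fun i hi =>
    let ⟨g, _, e⟩ := mem_Inn.1 hi; mem_autInducedBy.2 ⟨g, trivial, e⟩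
  obtain ⟨N, hN, k⟩ := exists_chn E3 (l := [up J5]) (a3_chn (j := 0) fun x _ => by
    rw [afn_one, inl_zero, one_mul, inv_one, mul_one])
  have dec : ∀ s ∈ autInducedBy ⊤ E3, ∃ n ∈ N ⊓ F.autGroup E3, ∃ i ∈ Inn E3, s = n * i := fun s hs => by
    obtain ⟨g, -, e⟩ := mem_autInducedBy.1 hs
    obtain ⟨β, h1, e1⟩ := a3_cj (inl (g.j.w • ew))
    refine ⟨β, ⟨(k _).2 (a3_chn e1), le h1⟩, β⁻¹ * s, mem_Inn.2 ⟨(inl (g.j.w • ew))⁻¹ * g, ?_, fun x hx => ?_⟩,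
      (mul_inv_cancel_left _ _).symm⟩
    · simp [act, ew]
    · have m := conj_E3 ((inl (g.j.w • ew))⁻¹ * g) hx
      rw [afn_mul _ _ hx, e x hx, ← afn_inv_afn β m, e1 _ m]
      congr 1
      group
  have e := SylIn.eq_of_le ha le (B := N ⊓ F.autGroup E3 ⊔ Inn E3)
    (hN.to_inf_left.to_sup_of_normal_right ((SylIn.isPGroup ha le).to_le il)) (fun s hs => by
      obtain ⟨n, hn, i, hi, rfl⟩ := dec s hs
      exact mul_mem (mem_sup_left hn) (mem_sup_right hi)) (sup_le inf_le_right (il.trans le))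
  intro s hs
  obtain ⟨n, hn, i, hi, rfl⟩ := dec s hs
  rw [show α * (n * i) * α⁻¹ = α * n * α⁻¹ * (α * i * α⁻¹) by group]
  have c : Chn E3 (α * n * α⁻¹) ⊥ [up J5] := ((k n).1 hn.1).conj fun L hL y _ => by
    rw [List.mem_singleton.1 hL]; exact h y
  exact e.le (mul_mem (mem_sup_left (mem_inf.2 ⟨(k _).2 c, mul_mem (mul_mem hα hn.2) (inv_mem hα)⟩))
    (mem_sup_right (Normal.conj_mem inferInstance i hi α)))

/-- `norm3`, then extend as in `RFS.lc_AS` (RFS/Fin: `sat_extend_of_centric`, `mem_Nf_afn`, `exists_AS`; `conj_E3`). -/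
theorem ext3 (hF : F.IsSaturated 3) (hE : F.IsEssential 3 E3) {α : MulAut E3} (hα : α ∈ F.autGroup E3)
    (h : ∀ x ∈ up J5, afn α x ∈ up J5) : ∃ φ ∈ AS F, ∀ x ∈ E3, φ x = afn α x := by
  obtain ⟨f, hf, e⟩ := sat_extend_of_centric (R := ⊤) p3 hF ((mem_autGroup le_top).1 hα) hE.1 fun s _ =>
    have hs : s ∈ normalizerIn ⊤ E3 := mem_normalizerIn_of_conj trivial fun _ hx => conj_E3 s hx
    mem_Nf_afn hs (norm3 hF hE hα h _ (conjAut_mem_autInducedBy hs))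
  obtain ⟨φ, h3, h4⟩ := exists_AS hf
  exact ⟨φ, h3, fun x hx => (h4 x).trans (e x hx)⟩

/-- By `not_norm` and `norm3` some `α` moves `up J5`, to some `Ec l`; compose with conjugation by `inl ((l - k) • ew)` (`conj_Ec`). -/
theorem exists_out (hF : F.IsSaturated 3) (hE : F.IsEssential 3 E3) (k : K) :
    ∃ α ∈ F.autGroup E3, img (up J5) (afn α) = Ec k := by
  have le := autInducedBy_le_autGroup F (le_top (a := E3))
  obtain ⟨α, hα, n⟩ : ∃ α ∈ F.autGroup E3, ¬ ∀ x ∈ up J5, afn α x ∈ up J5 := by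
    by_contra c
    exact not_norm p3 hF hE fun α hα => norm3 hF hE hα (by_contra fun d => c ⟨α, hα, d⟩)
  obtain ⟨l, e⟩ := (img_ab5 α (.inl rfl)).resolve_left fun e => n (img_le_iff.1 e.le)
  obtain ⟨β, h1, e1⟩ := a3_cj (inl ((l - k) • ew))
  refine ⟨β * α, mul_mem (le h1) hα, eq_of_le_of_card_ge (img_le_iff.2 fun x hx => ?_)
    (by rw [a3_card _ a3_J5, card_up, card_J5, card_Ec])⟩
  rw [afn_mul _ _ (a3_J5 hx), e1 _ (afn_mem α (a3_J5 hx))]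
  simpa [ew, -mem_Ec] using conj_Ec (inl ((l - k) • ew)) (img_le_iff.1 e.le x hx)

/-- If `α (up J5) = Ec l`, take `g = inl ((-1 - l) • ew)`, so that `c_g⁻¹ α` maps `up J5` into `Ec (-1)` and `ω0⁻¹ c_g⁻¹ α` preserves `up J5`; `ext3`. -/
theorem gen3 (hF : F.IsSaturated 3) (hE : F.IsEssential 3 E3) (hω : ω0 ∈ F.autGroup E3) {α : MulAut E3}
    (hα : α ∈ F.autGroup E3) : ∃ φ ∈ AS F, (∀ x ∈ E3, φ x ∈ E3) ∧
      ((∀ x ∈ E3, afn α x = φ x) ∨ ∃ g, ∀ x ∈ E3, afn α x = g * ωf 1 (φ x) * g⁻¹) := by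
  have le := autInducedBy_le_autGroup F (le_top (a := E3))
  obtain e | ⟨l, e⟩ := img_ab5 α (.inl rfl)
  · obtain ⟨φ, h1, h2⟩ := ext3 hF hE hα (img_le_iff.1 e.le)
    exact ⟨φ, h1, fun x hx => h2 x hx ▸ afn_mem α hx, .inl fun x hx => (h2 x hx).symm⟩
  obtain ⟨β, h1, e1⟩ := a3_cj (inl ((l + 1) • ew))
  have e2 : ∀ x ∈ E3, afn (ω0⁻¹ * (β * α)) x = ωf (-1) (inl ((l + 1) • ew) * afn α x * (inl ((l + 1) • ew))⁻¹) :=
    fun x hx => by rw [afn_mul _ _ hx, afn_ω0_inv (afn_mem _ hx), afn_mul _ _ hx, e1 _ (afn_mem α hx)]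
  obtain ⟨φ, h2, h3⟩ := ext3 hF hE (mul_mem (inv_mem hω) (mul_mem (le h1) hα)) fun x hx => by
    rw [e2 x (a3_J5 hx)]
    exact ωf_J5' (by simpa [ew, -mem_Ec] using conj_Ec (inl ((l + 1) • ew)) (img_le_iff.1 e.le x hx))
  refine ⟨φ, h2, fun x hx => h3 x hx ▸ afn_mem _ hx, .inr ⟨(inl ((l + 1) • ew))⁻¹, fun x hx => ?_⟩⟩
  rw [h3 x hx, e2 x hx, ωf_ωf, add_neg_cancel, ωf_zero (conj_E3 _ (afn_mem α hx))]
  group

/-- `c_± = α c_{± ew} α⁻¹` with `α (up J5) = Ec 0`.  `α⁻¹ (up J5) = Ec l` (`img_ab5`; it is not `up J5`), so `c_± (up J5) = α (Ec (l ∓ 1))`; these two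
images are different from each other, from `α (Ec l) = up J5` and from `α (up J5) = Ec 0`; so one of them is `Ec (-1)`. -/
theorem exists_c (hF : F.IsSaturated 3) (hE : F.IsEssential 3 E3) : ∃ c ∈ F.autGroup E3, (∀ x ∈ Ec 0, afn c x = x) ∧
    (∀ x ∈ E3, afn c x * x⁻¹ ∈ Ec 0) ∧ ∀ x ∈ up J5, afn c x ∈ Ec (-1) := by
  have le := autInducedBy_le_autGroup F (le_top (a := E3))
  obtain ⟨α, hα, e⟩ := exists_out hF hE 0
  have z : inr zz ∈ Ec 0 := by simp [zz]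
  obtain ⟨l, el⟩ := (img_ab5 α⁻¹ (.inl rfl)).resolve_left fun c =>
    absurd (img_le_iff.2 (a3_inv a3_J5 c) (e.ge z)).1 (by decide)
  obtain ⟨m, em⟩ := (img_ab5 α⁻¹ (.inr ⟨-1, rfl⟩)).resolve_left fun c =>
    absurd (img_le_iff.2 (a3_inv (a3_Ec _) c) (e.ge z)).2.2.1 (by decide)
  obtain ⟨β, h1, e1⟩ := a3_cj (inl ((l - m) • ew))
  have hc := a3_chn e1
  refine ⟨α * β * α⁻¹, mul_mem (mul_mem hα (le h1)) (inv_mem hα), fun x hx => ?_, fun x hx => ?_, fun x hx => ?_⟩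
  · have k := a3_inv (α := α⁻¹) a3_J5 (by rwa [inv_inv]) x hx
    refine mul_inv_eq_one.1 ?_
    rw [tool_conj (a3_Ec _ hx), mem_bot.1 (hc.2.1 _ (a3_J5 k) k), (homOn_afn α).map_one]
  · rw [tool_conj hx]
    exact img_le_iff.1 e.le _ (hc.2.2 _ (afn_mem _ hx))
  · have k := afn_mem α⁻¹ (a3_J5 hx)
    rw [afn_mul _ _ (a3_J5 hx), afn_mul _ _ k, e1 _ k]
    refine a3_inv (a3_Ec _) em _ ?_
    simpa [ew, -mem_Ec] using conj_Ec (inl ((l - m) • ew)) (img_le_iff.1 el.le x hx)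

end Cfsg.Agent.C3F
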