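import Cfsg.Agent.C3F.A3a

/-! The automizer of `E3` contains `ω0` (for S5227).  Let `c` be as in `exists_c` and `δ = ω0⁻¹ c`. -/

set_option autoImplicit false
set_option linter.unusedSimpArgs false

namespace Cfsg.Agent.C3F

open Subgroup Cfsg.Agent.Fus Cfsg.FusionSystem Cfsg.Agent.SpF

variable {F : FusionSystem (⊤ : Subgroup S)}

theorem a3b_ω {x : S} (hx : x ∈ E3) : afn ω0⁻¹ x = ωf (-1) x := by rw [afn_apply _ hx]; rfl

theorem a3b_dv {x y : S} (hx : x ∈ E3) (h : y * x⁻¹ ∈ Ec 0) : y.u.a = x.u.a ∧ y.j.r = x.j.r ∧ y.j.t = x.j.t := by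
  obtain ⟨e, rfl⟩ : ∃ e, y = e * x := ⟨y * x⁻¹, by group⟩
  rw [mul_inv_cancel_right, mem_Ec] at h
  simp [act, h, mem_E3.1 hx]

/-- The coordinates of `c x`. -/
theorem a3b_c {c : MulAut E3} (h1 : ∀ x ∈ Ec 0, afn c x = x) (h2 : ∀ x ∈ E3, afn c x * x⁻¹ ∈ Ec 0)
    (h3 : ∀ x ∈ up J5, afn c x ∈ Ec (-1)) {x : S} (hx : x ∈ R13) : (afn c x).u.a = 0 ∧ (afn c x).j.w = 0 ∧
      (afn c x).j.r = x.j.r ∧ (afn c x).j.t = x.j.t ∧ (afn c x).u.b = x.u.b - x.j.t ∧ (afn c x).u.c = x.u.c - x.j.r := by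
  obtain ⟨v, hv, y, hy, rfl⟩ := R13_dec 0 hx
  have m : inl v ∈ E3 := mem_J5.1 hv
  obtain ⟨-, b, d⟩ := a3b_dv m (h2 _ m)
  obtain ⟨e1, e2, e3, e4⟩ := h3 (inl v) ⟨rfl, hv⟩
  rw [homOn_afn c _ m y hy.2.1, h1 y hy]
  rw [mem_Ec] at hy
  generalize afn c (inl v) = z at *
  simp only [inl_j] at b d
  simp only [S.mul_j, S.mul_u, V.add_r, V.add_t, V.add_w, Hs.mul_a, Hs.mul_b, Hs.mul_c, act, inl_j, inl_u, hy, e1, e2,
    Hs.one_a, Hs.one_b, Hs.one_c]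
  grind

/-- `δ` fixes `Ec 0`, `δ x x⁻¹ ∈ Ec 0` (`ωf_comm`, `ωf_Ec0`) and `δ (up J5) ≤ up J5` (`ωf_J5'`); for `x = inl v * y ∈ R13` (`R13_dec 0`),
`δ x x⁻¹ = δ (inl v) (inl v)⁻¹ ∈ up J5 ⊓ Ec 0 = up V3`. -/
theorem δ_R13 {c : MulAut E3} (h1 : ∀ x ∈ Ec 0, afn c x = x) (h2 : ∀ x ∈ E3, afn c x * x⁻¹ ∈ Ec 0)
    (h3 : ∀ x ∈ up J5, afn c x ∈ Ec (-1)) : (∀ x ∈ Ec 0, afn (ω0⁻¹ * c) x = x) ∧
      ∀ x ∈ R13, afn (ω0⁻¹ * c) x * x⁻¹ ∈ up V3 := by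
  refine ⟨fun x hx => ?_, fun x hx => ?_⟩
  · rw [afn_mul _ _ hx.2.1, h1 x hx, a3b_ω hx.2.1, ωf_Ec0 _ hx]
  · rw [afn_mul _ _ hx.2, a3b_ω (afn_mem _ hx.2)]
    obtain ⟨e1, e2, e3, e4, e5, e6⟩ := a3b_c h1 h2 h3 hx
    generalize afn c x = z at *
    rw [mem_R13] at hx
    refine ⟨Hs.ext ?_ ?_ ?_, mem_V3.2 ⟨?_, ?_, ?_⟩⟩ <;> simp [ωf, act, e1, e2, e3, e4, e5, e6, hx]

/-- On `R13` the coordinates `(r, t, b, c)` change under `c` as under `ω0`: `(r, t, b - t, c - r)`, and under conjugation by `(inl ew)⁻¹` to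
`(r + c, t + b, b, c)`.  So `λ = (c c_ew⁻¹ c)²` negates them, preserves `up J5`, and by `ext3` and `Form` is the restriction of
`conj g * tS e1 e2 e3`.  Evaluate at `inr x1` (coordinate `a` is preserved by `c`, `c_ew`): `e1 = 1`; at `inl ep`: `e3 = 1`;
at `inr x2` (coordinate `b`): `e2 = -1`. -/
theorem t3_mem (hF : F.IsSaturated 3) (hE : F.IsEssential 3 E3) (hf : Form (AS F)) : tS 1 (-1) 1 ∈ AS F := by
  obtain ⟨c, hc, h1, h2, h3⟩ := exists_c hF hE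
  obtain ⟨κ, hκ, k⟩ := exists_res_AS (E := E3) (conj_mem_AS F (inl (-ew))) fun x hx => conj_E3 _ hx
  have k1 : ∀ x ∈ E3, (afn κ x).u = x.u ∧ (afn κ x).j.r = x.j.r + x.u.c ∧ (afn κ x).j.t = x.j.t + x.u.b := fun x hx => by
    rw [k x hx, MulAut.conj_apply]
    refine ⟨by simp, ?_, ?_⟩ <;> simp [act, ew]
  have m1 : ∀ x ∈ R13, afn (c * κ * c) x ∈ R13 ∧ (afn (c * κ * c) x).j.r = x.u.c ∧ (afn (c * κ * c) x).j.t = x.u.b ∧
      (afn (c * κ * c) x).u.b = -x.j.t ∧ (afn (c * κ * c) x).u.c = -x.j.r := fun x hx => by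
    have a := a3b_c h1 h2 h3 hx
    have m := afn_mem c hx.2
    obtain ⟨b1, b2, b3⟩ := k1 _ m
    have d := a3b_c h1 h2 h3 (x := afn κ (afn c x)) ⟨show _ = _ by rw [πu_apply, b1, a.1], afn_mem κ m⟩
    rw [afn_mul _ _ hx.2, afn_mul _ _ m, mem_R13]
    rw [b1, b2, b3] at d
    simp only [a, d, true_and]
    refine ⟨?_, ?_, ?_, ?_⟩ <;> ring
  have m2 : ∀ x ∈ E3, (afn (c * κ * c) x).u.a = x.u.a := fun x hx => by
    have m := afn_mem c hx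
    rw [afn_mul _ _ hx, afn_mul _ _ m, (a3b_dv (afn_mem κ m) (h2 _ (afn_mem κ m))).1, (k1 _ m).1, (a3b_dv hx (h2 _ hx)).1]
  have m3 : afn (c * κ * c) (inl ep) = inl ep := by
    have e : inl ep ∈ Ec 0 := by simp [ep]
    rw [afn_mul _ _ e.2.1, h1 _ e, afn_mul _ _ e.2.1, k _ e.2.1, MulAut.conj_apply, conj_inl, inl_u, act_one, h1 _ e]
  have hm := mul_mem (mul_mem hc hκ) hc
  generalize c * κ * c = m at *
  obtain ⟨φ, hφ, e⟩ := ext3 hF hE (mul_mem hm hm) fun x hx => by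
    have r : x ∈ R13 := ⟨show _ = _ by rw [πu_apply, hx.1]; rfl, mem_J5.1 hx.2⟩
    obtain ⟨a1, a2, a3, -⟩ := m1 x r
    obtain ⟨b1, -, -, b2, b3⟩ := m1 _ a1
    rw [afn_mul _ _ r.2]
    exact ⟨Hs.ext b1.1 (by rw [b2, a3, hx.1]; rfl) (by rw [b3, a2, hx.1]; rfl), mem_J5.2 b1.2⟩
  obtain ⟨g, e1, e2, e3, rfl⟩ := hf φ hφ
  have a1 := congrArg (fun y : S => y.u.a) (e (inr x1) rfl)
  have a2 := congrArg (fun y : S => y.u.b) (e (inr x2) rfl)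
  have a3 := congrArg (fun y : S => y.j.p) (e (inl ep) rfl)
  have r2 : inr x2 ∈ R13 := ⟨rfl, rfl⟩
  simp only [afn_mul m m (show inr x1 ∈ E3 from rfl), m2 _ (afn_mem m (show inr x1 ∈ E3 from rfl)), m2 (inr x1) rfl] at a1
  simp only [afn_mul m m r2.2, (m1 _ (m1 _ r2).1).2.2.2.1, (m1 _ r2).2.2.1] at a2
  simp only [afn_mul m m (show inl ep ∈ E3 from rfl), m3, MulAut.mul_apply, tS_inl, MulAut.conj_apply, conj_inl] at a3
  simp [ts, x1] at a1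
  simp [ts, x2] at a2
  simp [act, tv, ep] at a3
  subst a1 a2 a3
  exact (mul_mem_cancel_left (conj_mem_AS F g)).1 hφ

/-- `y = (inr x1)⁻¹ β (inr x1)` centralizes `R13`, so `y = inl v`, `v ∈ V3`; `(inr x1 * inl v)³ = 1` gives `v.s = 0`, so `v = act x1⁻¹ v' - v'` with
`v' ∈ V3`; `E3` is generated by `R13` and `inr x1` (`x = y * inr x1 ^ i`). -/
theorem inn_of_fix {β : MulAut E3} (h : ∀ x ∈ R13, afn β x = x) : β ∈ Inn E3 := by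
  have H := homOn_afn β
  have m : inr x1 ∈ E3 := rfl
  obtain ⟨y, hy⟩ : ∃ y, afn β (inr x1) = inr x1 * y := ⟨(inr x1)⁻¹ * afn β (inr x1), by group⟩
  have w : y ∈ E3 := (mul_mem_cancel_left m).1 (hy ▸ afn_mem β m)
  have cen : ∀ x ∈ R13, y * x = x * y := fun x hx => by
    have a := H.map_conj m hx.2
    rw [h x hx, h _ ⟨by simp [mem_R13.1 hx], conj_E3 _ hx.2⟩, hy] at a
    rw [← mul_inv_eq_iff_eq_mul, ← mul_left_cancel_iff (a := inr x1), ← mul_right_cancel_iff (a := (inr x1)⁻¹), a]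
    group
  have a1 := comm_inl.1 (cen (inl er) ⟨rfl, rfl⟩)
  have a2 := comm_inl.1 (cen (inl eq') ⟨rfl, rfl⟩)
  have a3 := congrArg S.j (cen (inr x2) ⟨rfl, rfl⟩)
  have a4 := H.map_pow m 3
  rw [show inr x1 ^ 3 = 1 by decide, H.map_one, hy] at a4
  replace a4 := congrArg (fun y : S => y.j.p) a4
  obtain ⟨⟨p, q, r, s, t, w'⟩, a, b, c⟩ := y
  simp only [V.ext_iff, act, er, eq', S.mul_j, inr_j, inr_u, x2, V.add_p, V.add_q, V.add_r, V.add_s, V.add_t, V.add_w, V.zero_p,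
    V.zero_q, V.zero_r, V.zero_s, V.zero_t, V.zero_w] at a1 a2 a3
  obtain rfl : w' = 0 := w
  obtain rfl : a = 0 := by grind
  obtain rfl : b = 0 := by grind
  obtain rfl : c = 0 := by grind
  obtain rfl : r = 0 := by grind
  obtain rfl : t = 0 := by grind
  obtain rfl : s = 0 := by
    simp [pow_succ, act, x1] at a4
    grind
  let g := inl ⟨0, p + q, 0, -q, 0, 0⟩
  have k1 : afn β (inr x1) = g * inr x1 * g⁻¹ := by
    rw [hy]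
    refine S.ext9 ?_ ?_ ?_ ?_ ?_ ?_ ?_ ?_ ?_ <;> simp [g, act, x1]
    grind
  have k2 : ∀ x ∈ R13, afn β x = g * x * g⁻¹ := fun x hx => by
    rw [h x hx, eq_mul_inv_iff_mul_eq, comm_inl]
    ext <;> simp [act, mem_R13.1 hx]
  have k3 : ∀ x ∈ E3, ∀ z ∈ E3, x.u.a = z.u.a → afn β z = g * z * g⁻¹ → afn β x = g * x * g⁻¹ := fun x hx z hz e k => by
    have n := mul_mem hx (inv_mem hz)
    rw [← inv_mul_cancel_right x z, H _ n z hz, k2 _ ⟨by simp [e], n⟩, k]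
    group
  refine mem_Inn.2 ⟨g, rfl, fun x hx => ?_⟩
  rcases K3 x.u.a with e | e | e
  · exact k2 x ⟨e, hx⟩
  · exact k3 x hx _ m e k1
  · exact k3 x hx _ (inv_mem m) e (by rw [H.map_inv m, k1]; group)

/-- `τ ∈ A` the restriction of `tS 1 (-1) 1` (`exists_res_AS`) commutes with `ω0`, `τ² = 1`.  `δ' = c⁻¹ τ c τ⁻¹ = δ⁻¹ τ δ τ⁻¹ ∈ A`, and
`β = δ δ'⁻¹ = δ (τ δ⁻¹ τ⁻¹) δ` fixes `Ec 0` (preserved by `τ`) and `up J5`: with `δ (inl v) = inl (v + μ v)`, `μ v ∈ V3`, `μ` additive and zero on `V3`,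
`μ (t3 v) = -μ v`, each factor adds `μ v`.  So `β` is inner (`inn_of_fix`, `R13_dec`) and `ω0 = c δ'⁻¹ β⁻¹ ∈ A`. -/
theorem ω_mem (hF : F.IsSaturated 3) (hE : F.IsEssential 3 E3) (ht : tS 1 (-1) 1 ∈ AS F) : ω0 ∈ F.autGroup E3 := by
  obtain ⟨c, hc, h1, h2, h3⟩ := exists_c hF hE
  obtain ⟨τ, hτ, k⟩ := exists_res_AS (E := E3) ht fun x hx => by simp [ts, tv, mem_E3.1 hx]
  obtain ⟨d1, d2⟩ := δ_R13 h1 h2 h3
  have com : ω0 * τ = τ * ω0 := aut_ext fun x hx => by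
    rw [afn_mul _ _ hx, afn_mul _ _ hx, afn_ω0 (afn_mem _ hx), afn_ω0 hx, k x hx, k (ωf 1 x) rfl]
    refine S.ext9 ?_ ?_ ?_ ?_ ?_ ?_ ?_ ?_ ?_ <;> simp [ωf, ts, tv] <;> ring
  obtain ⟨δ, rfl⟩ : ∃ δ, c = ω0 * δ := ⟨ω0⁻¹ * c, by group⟩
  rw [inv_mul_cancel_left] at d1 d2
  have hβ : δ * τ * δ⁻¹ * τ⁻¹ * δ ∈ Inn E3 := inn_of_fix fun x hx => by
    have hn := d2 x hx
    obtain ⟨n, e⟩ : ∃ n, afn δ x = n * x := ⟨afn δ x * x⁻¹, by group⟩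
    rw [e, mul_inv_cancel_right, mem_up, mem_V3] at hn
    have n0 : n ∈ Ec 0 := by simp [hn]
    have nE : n ∈ E3 := n0.2.1
    have xE : x ∈ E3 := hx.2
    have yE := afn_mem τ xE
    have t1 : afn τ n = n := by
      rw [k n nE]
      refine S.ext9 ?_ ?_ ?_ ?_ ?_ ?_ ?_ ?_ ?_ <;> simp [ts, tv, hn]
    have t2 : afn τ (afn τ x) = x := by rw [k _ yE, k x xE]; exact ts_ts _ _ _ x
    have t3 : afn δ (afn τ x) = n⁻¹ * afn τ x := by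
      have a := d1 (afn τ x * x) (by rw [k x xE]; simp [ts, tv, act, mem_R13.1 hx])
      have b : afn τ x * n = n * afn τ x := by
        rw [eq_inl hn.1, comm_inl, k x xE]
        ext <;> simp [act, ts, mem_R13.1 hx, hn]
      rw [homOn_afn δ _ yE x xE, e, ← mul_assoc, mul_left_inj] at a
      rw [eq_inv_mul_iff_mul_eq, ← mul_left_inj n, mul_assoc, a, b]
    have t4 : n * n * n = 1 := by rw [eq_inl hn.1, ← inl_add, ← inl_add, V.three, inl_zero]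
    have nn := mul_mem nE nE
    have s1 : afn τ⁻¹ (n * x) = n * afn τ x := by
      rw [← afn_inv_afn τ (mul_mem nE yE), homOn_afn τ n nE _ yE, t1, t2]
    have s2 : afn δ⁻¹ (n * afn τ x) = n * n * afn τ x := by
      rw [← afn_inv_afn δ (mul_mem nn yE), homOn_afn δ _ nn _ yE, homOn_afn δ n nE n nE, d1 n n0, t3]
      group
    rw [afn_mul _ _ xE, e, afn_mul _ _ (mul_mem nE xE), s1, afn_mul _ _ (mul_mem nE yE), s2, afn_mul _ _ (mul_mem nn yE),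
      homOn_afn τ _ nn _ yE, homOn_afn τ n nE n nE, t1, t2, homOn_afn δ _ nn x xE, homOn_afn δ n nE n nE, d1 n n0, e,
      ← mul_assoc, t4, one_mul]
  have := mul_mem (mul_mem (mul_mem (inv_mem hc) (inv_mem hτ)) hc) (inv_mem (inn_le_autGroup F le_top hβ))
  rw [show (ω0 * δ)⁻¹ * τ⁻¹ * (ω0 * δ) = δ⁻¹ * ((τ * ω0)⁻¹ * ω0) * δ by group, ← com] at this
  have h := mul_mem hτ this
  rw [show τ * (δ⁻¹ * ((ω0 * τ)⁻¹ * ω0) * δ * (δ * τ * δ⁻¹ * τ⁻¹ * δ)⁻¹) = δ⁻¹ by group] at h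
  exact (mul_mem_cancel_right (inv_mem_iff.1 h)).1 hc

theorem nf_of_ess (hF : F.IsSaturated 3) (hE : F.IsEssential 3 E3) (hf : Form (AS F)) : NF F :=
  ⟨hF, hf, t3_mem hF hE hf, ω_mem hF hE (t3_mem hF hE hf)⟩

end Cfsg.Agent.C3F
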