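import Cfsg.Agent.C3F.Def

/-! Basic facts on `Hs`, `V`, `S` (for S5227).  Most are coordinate computations (`simp [act]`, `grind`, or
`decide +kernel` after `Hs.forall_iff`/`V.forall_iff`; `∀ v : V` with `decide +kernel` takes a few seconds). -/

set_option autoImplicit false
set_option linter.unusedSimpArgs false

namespace Cfsg.Agent.C3F

open Subgroup Cfsg.Agent.Fus Cfsg.FusionSystem Cfsg.Agent.SpF

theorem Hs.cube (u : Hs) : u ^ 3 = 1 := by
  rw [pow_three]; ext <;> simp <;> grind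

theorem zz_comm (u : Hs) : u * zz = zz * u := by ext <;> simp [zz, add_comm]

/-- `(act u - 1)³ = 0`, written out. -/
theorem n3_zero (u : Hs) (v : V) :
    act u (act u (act u v - v) - (act u v - v)) = act u (act u v - v) - (act u v - v) := by
  ext <;> simp [act] <;> grind

theorem act_ep (u : Hs) : act u ep = ep := by ext <;> simp [act, ep]

theorem act_sub (u : Hs) (x y : V) : act u (x - y) = act u x - act u y := map_sub (ρ u) x y

theorem act_smul (u : Hs) (k : K) (x : V) : act u (k • x) = k • act u x := map_smul (ρ u) k x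

theorem mem_Zv_iff {v : V} : v ∈ Zv ↔ v = 0 ∨ v = ep ∨ v = -ep := by
  obtain ⟨p, q, r, s, t, w⟩ := v
  simp only [mem_Zv, V.ext_iff, ep, V.zero_p, V.zero_q, V.zero_r, V.zero_s, V.zero_t, V.zero_w, V.neg_p, V.neg_q,
    V.neg_r, V.neg_s, V.neg_t, V.neg_w, neg_zero]
  have := K3 p
  tauto

theorem api_cardV {W : AddSubgroup V} (P : V → Prop) [DecidablePred P] (h : ∀ v, v ∈ W ↔ P v) :
    Nat.card W = (Finset.univ.filter P).card := Nat.subtype_card _ (by simp [h])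

theorem api_cardH {R : Subgroup Hs} (P : Hs → Prop) [DecidablePred P] (h : ∀ v, v ∈ R ↔ P v) :
    Nat.card R = (Finset.univ.filter P).card := Nat.subtype_card _ (by simp [h])

theorem card_Zv : Nat.card Zv = 3 := (api_cardV _ fun _ => mem_Zv).trans (by decide +kernel)
theorem card_Z2v : Nat.card Z2v = 9 := (api_cardV _ fun _ => mem_Z2v).trans (by decide +kernel)
theorem card_V3 : Nat.card V3 = 27 := (api_cardV _ fun _ => mem_V3).trans (by decide +kernel)
theorem card_Vp : Nat.card Vp = 27 := (api_cardV _ fun _ => mem_Vp).trans (by decide +kernel)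
theorem card_Z3v : Nat.card Z3v = 81 := (api_cardV _ fun _ => mem_Z3v).trans (by decide +kernel)
theorem card_J5 : Nat.card J5 = 243 := (api_cardV _ fun _ => mem_J5).trans (by decide +kernel)
theorem card_Aln : Nat.card Aln = 9 := (api_cardH _ fun _ => mem_Aln).trans (by decide +kernel)
theorem card_Apt : Nat.card Apt = 9 := (api_cardH _ fun _ => mem_Apt).trans (by decide +kernel)
theorem card_up (W : AddSubgroup V) : Nat.card (up W) = Nat.card W := Nat.card_congr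
  ⟨fun x => ⟨x.1.j, x.2.2⟩, fun v => ⟨inl v, rfl, v.2⟩, fun x => Subtype.ext (eq_inl x.2.1).symm, fun _ => rfl⟩
theorem card_Js : Nat.card Js = 729 := by
  rw [← V.card]
  exact Nat.card_congr ⟨fun x => x.1.j, fun v => ⟨inl v, rfl⟩, fun x => Subtype.ext (eq_inl x.2).symm, fun _ => rfl⟩
theorem card_Ec (k : K) : Nat.card (Ec k) = 243 := by
  have e : Ec k ≃ K × K × K × K × K :=
    ⟨fun x => (x.1.j.p, x.1.j.q, x.1.j.s, x.1.u.b, x.1.u.c),
      fun y => ⟨⟨⟨y.1, y.2.1, k * y.2.2.2.2, y.2.2.1, k * y.2.2.2.1, 0⟩, ⟨0, y.2.2.2.1, y.2.2.2.2⟩⟩, rfl, rfl, rfl, rfl⟩,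
      fun x => Subtype.ext (S.ext9 rfl rfl x.2.2.2.1.symm rfl x.2.2.2.2.symm x.2.2.1.symm x.2.1.symm rfl rfl),
      fun _ => rfl⟩
  rw [Nat.card_congr e]; simp

/-- `|E| = |E ∩ J| |EJ/J|` (first isomorphism theorem for `πu` restricted to `E`). -/
theorem card_eq_dn (E : Subgroup S) : Nat.card E = Nat.card (dn E) * Nat.card (E.map πu) := by
  have e : (πu.comp E.subtype).ker ≃ dn E :=
    ⟨fun x => ⟨x.1.1.j, show inl x.1.1.j ∈ E from eq_inl (x := x.1.1) x.2 ▸ x.1.2⟩, fun v => ⟨⟨inl v, v.2⟩, rfl⟩,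
      fun x => Subtype.ext (Subtype.ext (eq_inl (x := x.1.1) x.2).symm), fun _ => rfl⟩
  rw [← card_mul_index (πu.comp E.subtype).ker, index_ker, MonoidHom.range_comp, range_subtype, Nat.card_congr e]

/-- Orders of subspaces are powers of three (`V.three`, or Lagrange with `V.card`). -/
theorem card_sub (W : AddSubgroup V) : ∃ n ≤ 6, Nat.card W = 3 ^ n := by
  have := AddSubgroup.card_addSubgroup_dvd_card W
  rw [V.card, show 729 = 3 ^ 6 from rfl] at this
  exact (Nat.dvd_prime_pow Nat.prime_three).1 this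

theorem api_fix {u : Hs} {v : V} : act u v = v ↔
    2 * u.a * v.q + 2 * u.c * v.r + u.a ^ 2 * v.s + 2 * u.a * u.c * v.t + u.c ^ 2 * v.w = 0 ∧
    u.b * v.r + u.a * v.s + (u.a * u.b + u.c) * v.t + u.b * u.c * v.w = 0 ∧ u.a * v.t + u.c * v.w = 0 ∧
    2 * u.b * v.t + u.b ^ 2 * v.w = 0 ∧ u.b * v.w = 0 := by
  simp only [V.ext_iff, act, add_assoc, add_eq_left, and_true]

theorem api_le {X : Type} [AddGroup X] [Finite X] {W : AddSubgroup V} (f : V → X) (hf : ∀ x y, f (x + y) = f x + f y)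
    (h : ∀ v ∈ W, f v = 0 → v = 0) : Nat.card W ≤ Nat.card X :=
  Nat.card_le_card_of_injective ((AddMonoidHom.mk' f hf).comp W.subtype)
    ((injective_iff_map_eq_zero _).2 fun v k => Subtype.ext (h v v.2 k))

/-- A subspace fixed by a nontrivial element has order at most `27`: by cases on `u` (`b ≠ 0`: `w = 0`, ...), or count
by `decide +kernel` the `26` fixed spaces. -/
theorem card_fix {u : Hs} (hu : u ≠ 1) {W : AddSubgroup V} (h : ∀ v ∈ W, act u v = v) : Nat.card W ≤ 27 := by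
  have c : Nat.card (K × K × K) = 27 := by simp
  rw [← c]
  by_cases hb : u.b = 0
  · by_cases ha : u.a = 0
    · have hc : u.c ≠ 0 := fun k => hu (Hs.ext ha hb k)
      refine api_le (fun v => (v.p, v.q, v.s)) (fun _ _ => rfl) fun v hv k => ?_
      have := api_fix.1 (h v hv)
      simp only [Prod.mk_eq_zero] at k
      ext <;> simp <;> grind
    · refine api_le (fun v => (v.p, v.r, v.w)) (fun _ _ => rfl) fun v hv k => ?_
      have := api_fix.1 (h v hv)
      simp only [Prod.mk_eq_zero] at k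
      ext <;> simp <;> grind
  · refine api_le (fun v => (v.p, v.q, v.s)) (fun _ _ => rfl) fun v hv k => ?_
    have := api_fix.1 (h v hv)
    simp only [Prod.mk_eq_zero] at k
    ext <;> simp <;> grind

/-- For `a ≠ 0`, `b ≠ 0` the fixed space has order `9`. -/
theorem card_fix_reg {u : Hs} (ha : u.a ≠ 0) (hb : u.b ≠ 0) {W : AddSubgroup V} (h : ∀ v ∈ W, act u v = v) :
    Nat.card W ≤ 9 := by
  have c : Nat.card (K × K) = 9 := by simp
  rw [← c]
  refine api_le (fun v => (v.p, v.s)) (fun _ _ => rfl) fun v hv k => ?_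
  have := api_fix.1 (h v hv)
  simp only [Prod.mk_eq_zero] at k
  ext <;> simp <;> grind

theorem api_Aln {u : Hs} (h : u ∈ Aln) {v : V} (hv : v ∈ V3) : act u v = v := by
  rw [mem_Aln] at h; rw [mem_V3] at hv; simp [api_fix, h, hv]

theorem api_zz {v : V} : act zz v = v ↔ v ∈ V3 := ⟨fun h => by
  have := api_fix.1 h
  simp only [zz] at this
  rw [mem_V3]; grind, api_Aln rfl⟩

theorem api_Zv (u : Hs) {v : V} (hv : v ∈ Zv) : act u v = v := by
  rw [mem_Zv] at hv; simp [api_fix, hv]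

theorem api_zz_a {u : Hs} (ha : u.a ≠ 0) {v : V} (h1 : act zz v = v) (h2 : act u v = v) : v ∈ Zv := by
  have k1 := mem_V3.1 (api_zz.1 h1)
  have k2 := api_fix.1 h2
  rw [mem_Zv]; grind

theorem fix_Aln {v : V} : (∀ u ∈ Aln, act u v = v) ↔ v ∈ V3 := ⟨fun h => api_zz.1 (h zz rfl), fun h _ hu => api_Aln hu h⟩
theorem fix_Apt {v : V} : (∀ u ∈ Apt, act u v = v) ↔ v ∈ Zv :=
  ⟨fun h => api_zz_a (u := x1) one_ne_zero (h zz rfl) (h x1 rfl), fun h u _ => api_Zv u h⟩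
theorem fix_zz {v : V} : act zz v = v ↔ v ∈ V3 := api_zz
/-- Every nontrivial element of `Aln` has fixed space `V3`. -/
theorem fix_of_Aln {u : Hs} (h : u ∈ Aln) (hu : u ≠ 1) {v : V} : act u v = v ↔ v ∈ V3 := by
  refine ⟨fun k => ?_, api_Aln h⟩
  have k2 := api_fix.1 k
  have h1 : u.a = 0 := h
  have h2 : u.b = 0 → u.c ≠ 0 := fun a b => hu (Hs.ext h a b)
  rw [mem_V3]; grind
/-- `zz` and an element with `a ≠ 0` fix only `Zv`. -/
theorem fix_zz_a {u : Hs} (ha : u.a ≠ 0) {v : V} (h1 : act zz v = v) (h2 : act u v = v) : v ∈ Zv := api_zz_a ha h1 h2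

theorem api_w : ∀ x y : Hs, x ≠ 1 → ¬ (y = 1 ∨ y = x ∨ y = x⁻¹) → zz = x ∨ zz = x⁻¹ ∨ zz = y ∨ zz = y⁻¹ ∨
    zz = x * y ∨ zz = (x * y)⁻¹ ∨ zz = x * y⁻¹ ∨ zz = y * x⁻¹ ∨ zz = x * y * x⁻¹ * y⁻¹ ∨ zz = y * x * y⁻¹ * x⁻¹ := by
  decide +kernel

theorem api_mod {R : Subgroup Hs} (hz : zz ∈ R) {x y : Hs} (hx : x ∈ R) (ha : y.a = x.a) (hb : y.b = x.b) : y ∈ R := by
  have : y = x ∨ y = x * zz ∨ y = x * zz⁻¹ := by
    rcases K3 (y.c - x.c) with k | k | k
    · left; ext <;> grind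
    · right; left; ext <;> simp [zz] <;> grind
    · right; right; ext <;> simp [zz] <;> grind
  rcases this with rfl | rfl | rfl
  exacts [hx, mul_mem hx hz, mul_mem hx (inv_mem hz)]

theorem api_sc {R : Subgroup Hs} {x : Hs} (hx : x ∈ R) (i : K) : ∃ y ∈ R, y.a = i * x.a ∧ y.b = i * x.b := by
  rcases K3 i with rfl | rfl | rfl
  exacts [⟨1, one_mem _, by simp⟩, ⟨x, hx, by simp⟩, ⟨x⁻¹, inv_mem hx, by simp⟩]

/-- The subgroups of `Hs`: two non-commuting elements generate; a non-cyclic subgroup contains `zz`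
(if `x, y` commute and `y ∉ ⟨x⟩`, `x ≠ 1`, then `(x.a, x.b)`, `(y.a, y.b)` are dependent and some `x^i y^j` is `zz`). -/
theorem sub_cases (R : Subgroup Hs) : R = ⊥ ∨ (∃ x, x ≠ 1 ∧ ∀ u, u ∈ R ↔ u = 1 ∨ u = x ∨ u = x⁻¹) ∨ R = Aln ∨ R = Apt ∨
    (∃ e : K, e ≠ 0 ∧ ∀ u, u ∈ R ↔ u.b = e * u.a) ∨ R = ⊤ := by
  by_cases h0 : R = ⊥
  · exact .inl h0
  obtain ⟨⟨x, hx⟩, x1⟩ := ne_bot_iff_exists_ne_one.1 h0
  have x1' : x ≠ 1 := fun k => x1 (Subtype.ext k)
  have back : ∀ {x}, x ∈ R → ∀ u, u = 1 ∨ u = x ∨ u = x⁻¹ → u ∈ R := fun hx u k => by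
    rcases k with rfl | rfl | rfl
    exacts [one_mem _, hx, inv_mem hx]
  by_cases h1 : ∀ u ∈ R, u = 1 ∨ u = x ∨ u = x⁻¹
  · exact .inr (.inl ⟨x, x1', fun u => ⟨h1 u, back hx u⟩⟩)
  push Not at h1
  obtain ⟨y, hy, h1⟩ := h1
  have hz : zz ∈ R := by
    rcases api_w x y x1' (by tauto) with k | k | k | k | k | k | k | k | k | k <;> rw [k] <;>
      repeat' first | assumption | apply R.inv_mem | apply R.mul_mem
  clear h1 hy x1' x1 hx x y
  by_cases h1 : ∀ u ∈ R, u.a = 0 ∧ u.b = 0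
  · refine .inr (.inl ⟨zz, by decide, fun u => ⟨fun k => ?_, back hz u⟩⟩)
    have := h1 u k
    revert this u
    have : ∀ u : Hs, u.a = 0 ∧ u.b = 0 → u = 1 ∨ u = zz ∨ u = zz⁻¹ := by decide +kernel
    exact fun u _ => this u
  push Not at h1
  obtain ⟨x, hx, h1⟩ := h1
  right; right
  by_cases h2 : ∀ u ∈ R, u.a * x.b = u.b * x.a
  · have key : ∀ u, u ∈ R ↔ u.a * x.b = u.b * x.a := fun u => ⟨h2 u, fun k => by
      have : ∀ a b c d : K, (c = 0 → d ≠ 0) → a * d = b * c → ∃ i, a = i * c ∧ b = i * d := by decide +kernel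
      obtain ⟨i, i1, i2⟩ := this _ _ _ _ h1 k
      obtain ⟨y, hy, j1, j2⟩ := api_sc hx i
      exact api_mod hz hy (i1.trans j1.symm) (i2.trans j2.symm)⟩
    by_cases ha : x.a = 0
    · exact .inl (Subgroup.ext fun u => by rw [key, mem_Aln]; grind)
    by_cases hb : x.b = 0
    · exact .inr (.inl (Subgroup.ext fun u => by rw [key, mem_Apt]; grind))
    exact .inr (.inr (.inl ⟨x.b / x.a, div_ne_zero hb ha, fun u => by rw [key]; grind⟩))
  push Not at h2
  obtain ⟨y, hy, h2⟩ := h2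
  refine .inr (.inr (.inr (eq_top_iff.2 fun u _ => ?_)))
  have : ∀ a b c d e f : K, a * d ≠ b * c → ∃ i j, e = i * c + j * a ∧ f = i * d + j * b := by decide +kernel
  obtain ⟨i, j, i1, i2⟩ := this _ _ _ _ u.a u.b h2
  obtain ⟨x', hx', j1, j2⟩ := api_sc hx i
  obtain ⟨y', hy', j3, j4⟩ := api_sc hy j
  exact api_mod hz (mul_mem hx' hy') (by simp [i1, j1, j3]) (by simp [i2, j2, j4])

theorem card_cyc {R : Subgroup Hs} {x : Hs} (hx : x ≠ 1) (h : ∀ u, u ∈ R ↔ u = 1 ∨ u = x ∨ u = x⁻¹) : Nat.card R = 3 := by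
  rw [api_cardH _ h]
  have : ∀ x : Hs, x ≠ 1 → (Finset.univ.filter fun u => u = 1 ∨ u = x ∨ u = x⁻¹).card = 3 := by decide +kernel
  exact this _ hx
theorem card_diag {R : Subgroup Hs} {e : K} (h : ∀ u, u ∈ R ↔ u.b = e * u.a) : Nat.card R = 9 := by
  rw [api_cardH _ h]
  have : ∀ e : K, (Finset.univ.filter fun u : Hs => u.b = e * u.a).card = 9 := by decide +kernel
  exact this e

/-- A `3`-group acting on `V / W` has a nonzero fixed point: walk down the flag `V > J5 > Z3v > Vp > Z2v > Zv > 0`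
(take the smallest member `X` of the flag with `X ⊄ W`; `act u j - j` lies in the next member). -/
theorem exists_fix_mod {W : AddSubgroup V} (h : W ≠ ⊤) : ∃ j, j ∉ W ∧ ∀ u, act u j - j ∈ W := by
  by_contra k
  push Not at k
  have step : ∀ X Y : AddSubgroup V, (∀ u, ∀ j ∈ X, act u j - j ∈ Y) → Y ≤ W → X ≤ W := fun X Y a b j hj => by
    by_contra c
    obtain ⟨u, hu⟩ := k j c
    exact hu (b (a u j hj))
  have h1 := step Zv ⊥ (fun u j hj => by rw [api_Zv u hj, sub_self]; exact zero_mem _) bot_le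
  have h2 := step Z2v Zv (fun u j hj => by rw [mem_Z2v] at hj; simp [act, hj]) h1
  have h3 := step Z3v Z2v (fun u j hj => by rw [mem_Z3v] at hj; simp [act, hj]) h2
  have h4 := step J5 Z3v (fun u j hj => by rw [mem_J5] at hj; simp [act, hj]) h3
  exact h (eq_top_iff.2 (step ⊤ J5 (fun u j _ => by simp [act]) h4))

/-- A vector with `w ≠ 0` generates `V` as a `U`-module. -/
theorem span_top {W : AddSubgroup V} (h : ∀ u, ∀ v ∈ W, act u v ∈ W) {v : V} (hv : v ∈ W) (hw : v.w ≠ 0) : W = ⊤ := by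
  have d : ∀ u, ∀ x ∈ W, act u x - x ∈ W := fun u x hx => sub_mem (h u x hx) hx
  have key : ∀ x y, y ∈ W → y = v.w • x → x ∈ W := fun x y a b => by
    have := smul_mem3 v.w⁻¹ a
    rwa [b, smul_smul, inv_mul_cancel₀ hw, one_smul] at this
  have v1 := d zz v hv
  have v2 := d x2 v hv
  have h1 : ep ∈ W := key _ _ (neg_mem (d zz _ v1)) (by ext <;> simp [act, zz, ep] <;> grind)
  have h2 : eq' ∈ W := key _ _ (d x2 _ v1) (by ext <;> simp [act, zz, x2, eq'])
  have h3 : er ∈ W := key _ _ (sub_mem (sub_mem v1 (smul_mem3 (2 * v.r + v.w) h1)) (smul_mem3 v.t h2))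
    (by ext <;> simp [act, zz, ep, eq', er] <;> ring)
  have h4 : es ∈ W := key _ _ (neg_mem (d x2 _ v2)) (by ext <;> simp [act, x2, es] <;> grind)
  have h5 : et ∈ W := key _ _ (sub_mem (sub_mem v2 (smul_mem3 v.r h2)) (smul_mem3 (2 * v.t + v.w) h4))
    (by ext <;> simp [act, x2, es, eq', et] <;> ring)
  have h6 : ew ∈ W := key _ _ (sub_mem (sub_mem (sub_mem (sub_mem (sub_mem hv (smul_mem3 v.p h1)) (smul_mem3 v.q h2))
    (smul_mem3 v.r h3)) (smul_mem3 v.s h4)) (smul_mem3 v.t h5)) (by ext <;> simp [ep, eq', er, es, et, ew])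
  refine eq_top_iff.2 fun x _ => ?_
  rw [x.decomp]
  exact add_mem (add_mem (add_mem (add_mem (add_mem (smul_mem3 _ h1) (smul_mem3 _ h2)) (smul_mem3 _ h3))
    (smul_mem3 _ h4)) (smul_mem3 _ h5)) (smul_mem3 _ h6)

theorem api_comm {x : S} {v : V} : x * inl v = inl v * x ↔ act x.u v = v := by
  rw [← mul_inv_eq_iff_eq_mul, conj_inl, inl_inj.eq_iff]

theorem api_cen {x : S} (h : ∀ y ∈ Js, y * x = x * y) : x ∈ Js :=
  ρ_inj (LinearEquiv.ext fun v => (api_comm.1 (h _ (inl_mem v)).symm).trans (act_one v).symm)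

/-- The centre of `S`. -/
theorem center_iff {x : S} : (∀ y, y * x = x * y) ↔ x ∈ up Zv := by
  constructor
  · intro h
    have k := api_cen fun y _ => h y
    have h1 := h (inr zz)
    have h2 := h (inr x1)
    rw [eq_inl k, api_comm, inr_u] at h1 h2
    exact ⟨k, api_zz_a (u := x1) one_ne_zero h1 h2⟩
  · intro h y
    rw [eq_inl h.1]
    exact api_comm.2 (api_Zv _ h.2)

/-- A nontrivial normal subgroup of the `3`-group `S` meets the centre. -/
theorem ep_mem {N : Subgroup S} (hN : ∀ g, ∀ x ∈ N, g * x * g⁻¹ ∈ N) (h : N ≠ ⊥) : inl ep ∈ N := by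
  have := PLocal.Amb.inf_centralizer_ne_bot p3 (isPGroup_S.to_subgroup N)
    (by have : N.Normal := ⟨fun x hx g => hN g x hx⟩
        exact normalizer_eq_top_iff.2 this ▸ le_rfl) h
  obtain ⟨⟨x, hx⟩, x1⟩ := ne_bot_iff_exists_ne_one.1 this
  have k := center_iff.1 fun y => (mem_inf.1 hx).2 y (mem_top y)
  have hx' := (mem_inf.1 hx).1
  rw [eq_inl k.1] at hx'
  rcases mem_Zv_iff.1 k.2 with e | e | e
  · exact absurd (Subtype.ext (S.ext e k.1)) x1
  · rwa [e] at hx'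
  · rwa [e, inl_neg, inv_mem_iff] at hx'

theorem comm_inl {x : S} {v : V} : x * inl v = inl v * x ↔ act x.u v = v := api_comm

/-- `J` is self-centralizing. -/
theorem cen_J {x : S} (h : ∀ y ∈ Js, y * x = x * y) : x ∈ Js := api_cen h

theorem api_ab {X : Subgroup S} (hc : ∀ x ∈ X, ∀ y ∈ X, x * y = y * x) {u : Hs} (hu : u ∈ X.map πu) :
    ∀ v ∈ dn X, act u v = v := fun v hv => by
  obtain ⟨x, hx, rfl⟩ := hu
  exact api_comm.1 (hc x hx _ hv)

theorem api_R {X : Subgroup S} (hc : ∀ x ∈ X, ∀ y ∈ X, x * y = y * x) (h : X.map πu ≠ ⊥) :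
    Nat.card (dn X) ≤ 27 ∧ Nat.card (X.map πu) ≤ 9 ∧ (9 ≤ Nat.card (X.map πu) → zz ∈ X.map πu) := by
  obtain ⟨⟨u, hu⟩, u1⟩ := ne_bot_iff_exists_ne_one.1 h
  refine ⟨card_fix (fun k => u1 (Subtype.ext k)) (api_ab hc hu), ?_⟩
  rcases sub_cases (X.map πu) with e | ⟨x, x1, e⟩ | e | e | ⟨k, -, e⟩ | e
  · exact absurd e h
  · rw [card_cyc x1 e]; omega
  · rw [e, card_Aln]; exact ⟨le_rfl, fun _ => rfl⟩
  · rw [e, card_Apt]; exact ⟨le_rfl, fun _ => rfl⟩
  · rw [card_diag e]; exact ⟨le_rfl, fun _ => (e _).2 (by simp [zz])⟩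
  · obtain ⟨x, hx, e1⟩ : x1 ∈ X.map πu := e ▸ mem_top _
    obtain ⟨y, hy, e2⟩ : x2 ∈ X.map πu := e ▸ mem_top _
    have := congrArg πu (hc x hx y hy)
    rw [map_mul, map_mul, e1, e2] at this
    exact absurd this (by decide)

theorem api_bot {X : Subgroup S} (h : X.map πu = ⊥) : X ≤ Js := (Subgroup.map_eq_bot_iff X).1 h

/-- `J` is the unique abelian subgroup of order `3⁶`: with `R = X.map πu` abelian, `|X| = |dn X| |R|` (`card_eq_dn`),
`|R| ≤ 9` and `|dn X| ≤ 27` unless `R = ⊥` (`card_fix`). -/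
theorem J_uniq {X : Subgroup S} (hc : ∀ x ∈ X, ∀ y ∈ X, x * y = y * x) (h : 729 ≤ Nat.card X) : X = Js := by
  by_cases k : X.map πu = ⊥
  · exact eq_of_le_of_card_ge (api_bot k) (card_Js ▸ h)
  · obtain ⟨h1, h2, -⟩ := api_R hc k
    have := Nat.mul_le_mul h1 h2
    rw [← card_eq_dn] at this
    omega

/-- Injective homomorphisms defined on `J` map `J` to `J` (apply `J_uniq` to `img Js f`). -/
theorem map_J {P : Subgroup S} {f : S → S} (hP : Js ≤ P) (hf : HomOn P f) (hi : Set.InjOn f P) {x : S} (hx : x ∈ Js) :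
    f x ∈ Js := by
  have hf' := hf.mono hP
  have := J_uniq (X := img Js f) (fun a ha b hb => by
    obtain ⟨a, ha', rfl⟩ := hf'.mem_img.1 ha
    obtain ⟨b, hb', rfl⟩ := hf'.mem_img.1 hb
    rw [← hf' a ha' b hb', ← hf' b hb' a ha', eq_inl ha', eq_inl hb', ← inl_add, ← inl_add, add_comm])
    (by rw [card_img_of_injOn hf' (hi.mono hP), card_Js])
  exact this ▸ mem_img_of_mem f hx

theorem afn_J {E : Subgroup S} (hE : Js ≤ E) (α : MulAut E) {x : S} (hx : x ∈ Js) : afn α x ∈ Js := map_J hE (homOn_afn α)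
  (fun a ha b hb k => by rw [← afn_inv_afn α ha, k, afn_inv_afn α hb]) hx

theorem aut_J (φ : MulAut S) {x : S} (hx : x ∈ Js) : φ x ∈ Js :=
  map_J le_top (fun a _ b _ => map_mul φ a b) φ.injective.injOn hx

/-- The restriction of an automorphism of `E ⊇ J` to `V` (`mkA`, as in `rj`). -/
theorem exists_resV {E : Subgroup S} (hE : Js ≤ E) : ∃ r : MulAut E →* GV, ∀ α v, inl (r α v) = afn α (inl v) := by
  have k : ∀ (α : MulAut E) v, inl (afn α (inl v)).j = afn α (inl v) := fun α v =>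
    (eq_inl (afn_J hE α (inl_mem v))).symm
  refine ⟨MonoidHom.mk' (fun α => mkA (fun v => (afn α (inl v)).j) (fun v => (afn α⁻¹ (inl v)).j)
    (fun v => by rw [k, afn_inv_afn _ (hE (inl_mem v))]; rfl)
    (fun v => by rw [k, afn_afn_inv _ (hE (inl_mem v))]; rfl)
    fun v w => inl_inj (by rw [k, inl_add, inl_add, k, k, homOn_afn α _ (hE (inl_mem v)) _ (hE (inl_mem w))]))
    fun α β => LinearEquiv.ext fun v => ?_, k⟩
  change (afn _ (inl v)).j = (afn α (inl (afn β (inl v)).j)).j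
  rw [k, afn_mul _ _ (hE (inl_mem v))]

/-- The restriction of an automorphism of `S` to `V`; it normalizes `U0` and fixes `Zv` (`center_iff`). -/
theorem exists_resS (φ : MulAut S) : ∃ g : GV, (∀ v, inl (g v) = φ (inl v)) ∧ g ep ∈ Zv ∧
    ∀ x : S, g * ρ x.u * g⁻¹ = ρ (φ x).u := by
  have k : ∀ (α : MulAut S) v, inl (α (inl v)).j = α (inl v) := fun α v => (eq_inl (aut_J α (inl_mem v))).symm
  let g : GV := mkA (fun v => (φ (inl v)).j) (fun v => (φ⁻¹ (inl v)).j)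
    (fun v => by rw [k, MulAut.inv_apply_self]; rfl) (fun v => by rw [k, MulAut.apply_inv_self]; rfl)
    fun v w => inl_inj (by rw [k, inl_add, inl_add, k, k, map_mul])
  have hg : ∀ v, inl (g v) = φ (inl v) := k φ
  refine ⟨g, hg, (center_iff.1 fun y => ?_ : inl (g ep) ∈ up Zv).2, fun x => ?_⟩
  · obtain ⟨y, rfl⟩ := φ.surjective y
    rw [hg, ← map_mul, ← map_mul, api_comm.2 (act_ep _)]
  · rw [mul_inv_eq_iff_eq_mul]
    refine LinearEquiv.ext fun v => inl_inj ?_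
    rw [GV.mul_apply, GV.mul_apply, ρ_apply, ρ_apply, hg, ← conj_inl, ← conj_inl, hg, map_mul, map_mul, map_inv]

/-- An abelian subgroup with image containing `Aln` and containing `up V3` is some `Ec k`.  Proof: lifts `(j, x2)`,
`(j', zz)` commute iff `act x2 j' - j' = act zz j - j`, i.e. `(0, r', 0, 2t' + w', w', 0) = (2r + w, t, w, 0, 0, 0)`; so
`w = w' = r = t' = 0`, `r' = t =: k`, both lifts lie in `Ec k`; every `x ∈ X` centralizes `V3` (so `a = 0`) and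
differs from a product of the lifts by an element of `J` fixed by `zz`.  Conversely `Ec k = up V3 ⟨lifts⟩ ≤ X`. -/
theorem eq_Ec {X : Subgroup S} (hc : ∀ x ∈ X, ∀ y ∈ X, x * y = y * x) (h1 : up V3 ≤ X) (h2 : Aln ≤ X.map πu) :
    ∃ k, X = Ec k := by
  obtain ⟨y, hy, ey⟩ := h2 (show x2 ∈ Aln from rfl)
  obtain ⟨z, hz, ez⟩ := h2 (show zz ∈ Aln from rfl)
  rw [πu_apply] at ey ez
  have hyz := congrArg S.j (hc y hy z hz)
  simp only [S.mul_j, ey, ez, V.ext_iff, V.add_p, V.add_q, V.add_r, V.add_s, V.add_t, V.add_w, act, x2, zz] at hyz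
  refine ⟨z.j.r, eq_of_le_of_card_ge (fun x hx => ?_) ?_⟩
  · have ha := api_fix.1 (api_comm.1 (hc x hx _ (h1 (show inl eq' ∈ up V3 from ⟨rfl, by simp [eq']⟩))))
    have hxz := congrArg S.j (hc x hx z hz)
    simp only [S.mul_j, ez, V.ext_iff, V.add_p, V.add_q, V.add_r, V.add_s, V.add_t, V.add_w, act, zz] at hxz
    simp only [eq'] at ha
    rw [mem_Ec]
    have a0 : x.u.a = 0 := by grind
    have w0 : z.j.w = 0 := by grind
    have t0 : z.j.t = 0 := by grind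
    rw [a0, w0, t0] at hxz
    grind
  · have c1 : Nat.card V3 ≤ Nat.card (dn X) := AddSubgroup.card_le_of_le fun v hv => h1 ⟨rfl, hv⟩
    have c2 := Subgroup.card_le_of_le h2
    rw [card_V3] at c1; rw [card_Aln] at c2
    rw [card_Ec, card_eq_dn X]
    exact Nat.mul_le_mul c1 c2

theorem Ec_comm (k : K) : ∀ x ∈ Ec k, ∀ y ∈ Ec k, x * y = y * x := fun x ⟨a, b, c, d⟩ y ⟨a', b', c', d'⟩ => by
  refine S.ext9 ?_ ?_ ?_ ?_ ?_ ?_ ?_ ?_ ?_ <;>
    simp only [act, S.mul_j, S.mul_u, V.add_p, V.add_q, V.add_r, V.add_s, V.add_t, V.add_w, Hs.mul_a, Hs.mul_b,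
      Hs.mul_c, a, b, c, d, a', b', c', d'] <;> ring

/-- The abelian subgroups of order `3⁵` of `E3`.  With `R = X.map πu`: `R = ⊥` gives `X ≤ up J5`; otherwise
`|dn X| ≤ 27`, so `|R| = 9`, `|dn X| = 27`, `zz ∈ R`, `dn X = V3` (`fix_zz`), `R = Aln` (`fix_zz_a`); use `eq_Ec`. -/
theorem ab5 {X : Subgroup S} (hc : ∀ x ∈ X, ∀ y ∈ X, x * y = y * x) (h1 : X ≤ E3) (h : 243 ≤ Nat.card X) :
    X = up J5 ∨ ∃ k, X = Ec k := by
  by_cases k : X.map πu = ⊥
  · refine .inl (eq_of_le_of_card_ge (fun x hx => ⟨api_bot k hx, mem_J5.2 (h1 hx)⟩) ?_)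
    rwa [card_up, card_J5]
  · obtain ⟨c1, c2, c3⟩ := api_R hc k
    rw [card_eq_dn] at h
    have d1 : 27 ≤ Nat.card (dn X) := by nlinarith
    have d2 : 9 ≤ Nat.card (X.map πu) := by nlinarith
    have e1 : dn X = V3 := AddSubgroup.eq_of_le_of_card_ge (fun v hv => api_zz.1 (api_ab hc (c3 d2) v hv))
      (card_V3 ▸ d1)
    have e2 : X.map πu = Aln := eq_of_le_of_card_ge (fun u hu => by
      have := api_fix.1 (api_ab hc hu eq' (by rw [e1]; simp [eq']))
      simp only [eq'] at this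
      rw [mem_Aln]; grind) (card_Aln ▸ d2)
    exact .inr (eq_Ec hc (fun x hx => by rw [eq_inl hx.1, ← mem_dn, e1]; exact hx.2) e2.ge)

/-- `R13 = J5 · Ec k`. -/
theorem R13_dec (k : K) {x : S} (hx : x ∈ R13) : ∃ v ∈ J5, ∃ y ∈ Ec k, x = inl v * y :=
  ⟨x.j - ⟨0, 0, k * x.u.c, 0, k * x.u.b, 0⟩, by simpa using hx.2, ⟨⟨0, 0, k * x.u.c, 0, k * x.u.b, 0⟩, x.u⟩,
    ⟨hx.1, rfl, rfl, rfl⟩, S.ext (by simp [act_one]) (by simp)⟩

theorem conj_E3 (g : S) {x : S} (hx : x ∈ E3) : g * x * g⁻¹ ∈ E3 := by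
  rw [mem_E3] at hx ⊢; simp [act, hx]

/-- Conjugation on the `Ec k`. -/
theorem conj_Ec (g : S) {k : K} {x : S} (hx : x ∈ Ec k) : g * x * g⁻¹ ∈ Ec (k - g.j.w) := by
  obtain ⟨a, b, c, d⟩ := hx
  refine ⟨?_, ?_, ?_, ?_⟩ <;> simp [act, a, b, c, d] <;> ring

theorem tV_mul (a b c a' b' c' : Kˣ) : tV a b c * tV a' b' c' = tV (a * a') (b * b') (c * c') :=
  LinearEquiv.ext fun v => by ext <;> simp [tv] <;> ring
theorem tS_mul (a b c a' b' c' : Kˣ) : tS a b c * tS a' b' c' = tS (a * a') (b * b') (c * c') :=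
  MulEquiv.ext fun v => by refine S.ext9 ?_ ?_ ?_ ?_ ?_ ?_ ?_ ?_ ?_ <;> simp [ts, tv] <;> ring
theorem tV_one : tV 1 1 1 = 1 := LinearEquiv.ext fun v => by ext <;> simp [tv]
theorem tS_one : tS 1 1 1 = 1 := MulEquiv.ext fun v => by refine S.ext9 ?_ ?_ ?_ ?_ ?_ ?_ ?_ ?_ ?_ <;> simp [ts, tv]
theorem tS_inl (a b c : Kˣ) (v : V) : tS a b c (inl v) = inl (tV a b c v) := S.ext rfl (by ext <;> simp [ts])
theorem tV_conj (a b c : Kˣ) (u : Hs) : tV a b c * ρ u * (tV a b c)⁻¹ = ρ ⟨a * u.a, b * u.b, a * b * u.c⟩ := by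
  have := usq a; have := usq b
  rw [mul_inv_eq_iff_eq_mul]
  refine LinearEquiv.ext fun v => ?_
  ext <;> simp only [GV.mul_apply, tV_apply, ρ_apply, tv, act] <;> grind
theorem tV_inj {a b c a' b' c' : Kˣ} (h : tV a b c = tV a' b' c') : a = a' ∧ b = b' ∧ c = c' := by
  have h1 := congrArg V.p (DFunLike.congr_fun h ep)
  have h2 := congrArg V.q (DFunLike.congr_fun h eq')
  have h3 := congrArg V.t (DFunLike.congr_fun h et)
  simp only [tV_apply, tv, ep, eq', et, mul_one, ← Units.val_mul, Units.val_inj] at h1 h2 h3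
  subst h1
  exact ⟨mul_right_cancel h2, mul_right_cancel h3, rfl⟩
theorem ng_comm (g : GV) : g * ng = ng * g := LinearEquiv.ext fun v => by simp only [GV.mul_apply, ng_apply, map_neg]
theorem ηV_comm_ρ (k : K) (u : Hs) : ηV k * ρ u = ρ u * ηV k :=
  LinearEquiv.ext fun v => by ext <;> simp [ηV, act] <;> ring
theorem ηV_comm_tV (k : K) (a b c : Kˣ) : ηV k * tV a b c = tV a b c * ηV k :=
  LinearEquiv.ext fun v => by ext <;> simp [ηV, tv] <;> ring
theorem ηS_comm_tS (k : K) (a b c : Kˣ) : ηS k * tS a b c = tS a b c * ηS k :=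
  MulEquiv.ext fun v => by refine S.ext9 ?_ ?_ ?_ ?_ ?_ ?_ ?_ ?_ ?_ <;> simp [ηV, ts, tv] <;> ring
theorem ηV_mul (k l : K) : ηV k * ηV l = ηV (k + l) := LinearEquiv.ext fun v => by ext <;> simp [ηV] <;> ring
theorem ηV_zero : ηV 0 = 1 := LinearEquiv.ext fun v => by ext <;> simp [ηV]
theorem units_K (e : Kˣ) : e = 1 ∨ e = -1 := by revert e; decide

end Cfsg.Agent.C3F
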