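import Cfsg.Agent.C3F.EsC

/-! Essential subgroups contain `J` or equal `E3` (for S5227). -/

set_option autoImplicit false
set_option linter.unusedSimpArgs false

namespace Cfsg.Agent.C3F

open Subgroup Cfsg.Agent.Fus Cfsg.FusionSystem Cfsg.Agent.SpF

variable {E : Subgroup S} {A H : Subgroup (MulAut E)}

/-- Case (ii) is impossible.  `LD.cases` for `α⁻¹` gives `(Jp α⁻¹).map πu = Aln`, so `Jp α⁻¹` centralizes `up V3 ≤ E`; applying `α`,
`E ⊓ Js = α (Jp α⁻¹)` centralizes `α (up V3)`; an element centralizing `W` (order `81`) has `u = 1` (`card_fix`), so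
`α (up V3) ≤ Jp α ⊓ Js`: `27 ≤ 9`. -/
theorem Es.not_ii (h : Es E A H) (hJ : ¬ Js ≤ E) {α : MulAut E} (hα : α ∈ A) (hα' : α ∉ H) (h1 : V3 ≤ dn E)
    (h2 : Nat.card (dn E) = 81) : Nat.card (dn (Jp α)) ≠ 9 := by
  intro h9
  have e := (h.ld hJ (A.inv_mem hα) (fun c => hα' (H.inv_mem_iff.1 c))).cases.1
  have k : ∀ v ∈ V3, afn α (inl v) ∈ Js := fun v hv => by
    by_contra c
    have := card_fix (W := dn E) c fun w hw => comm_inl.1 (by
      have m : afn α⁻¹ (inl w) ∈ Jp α⁻¹ := mem_Jp.2 ⟨_, hw, inl_mem w, rfl⟩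
      have c1 : afn α⁻¹ (inl w) * inl v = inl v * afn α⁻¹ (inl w) :=
        comm_inl.2 (fix_Aln.2 hv _ (e.le ⟨_, m, rfl⟩))
      have c2 := congrArg (afn α) c1
      rw [homOn_afn α _ (Jp_le _ m) _ (h1 hv), homOn_afn α _ (h1 hv) _ (Jp_le _ m), afn_afn_inv α hw] at c2
      exact c2.symm)
    omega
  let f : V3 → dn (Jp α) := fun v => ⟨(afn α (inl v)).j, by
    rw [mem_dn, ← eq_inl (k v v.2)]
    exact mem_Jp.2 ⟨_, h1 v.2, inl_mem _, rfl⟩⟩
  have fi : Function.Injective f := fun v w c => Subtype.ext (inl_inj (by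
    have c1 : afn α (inl v) = afn α (inl w) := by
      rw [eq_inl (k v v.2), eq_inl (k w w.2)]
      exact congrArg (fun z : dn (Jp α) => inl z) c
    rw [← afn_inv_afn α (h1 v.2), c1, afn_inv_afn α (h1 w.2)]))
  have := Nat.card_le_card_of_injective f fi
  rw [card_V3, h9] at this
  omega

/-- Case (iii) is impossible: every `x ∈ E` is `inl v * y` with `v ∈ V3` (central in `E1`), `y ∈ Jp α`; so `E` is abelian,
`E = Ec k` (`eq_Ec`), `not_Ec`. -/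
theorem Es.not_iii (h : Es E A H) {α : MulAut E} (h1 : E.map πu = Aln) (h2 : (Jp α).map πu = Aln) : dn E ≠ V3 := by
  intro e
  have k : ∀ v ∈ V3, ∀ x ∈ E, x * inl v = inl v * x := fun v hv x hx =>
    comm_inl.2 (fix_Aln.2 hv _ (h1.le ⟨_, hx, rfl⟩))
  have d : ∀ x ∈ E, ∃ v ∈ V3, ∃ y ∈ Jp α, x = inl v * y := fun x hx => by
    obtain ⟨y, hy, c⟩ := h2.ge (h1.le ⟨x, hx, rfl⟩)
    have m : x * y⁻¹ ∈ Js := by
      rw [mem_Js, S.mul_u, S.inv_u, show y.u = x.u from c, mul_inv_cancel]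
    refine ⟨(x * y⁻¹).j, e.le ?_, y, hy, ?_⟩
    · rw [mem_dn, ← eq_inl m]
      exact E.mul_mem hx (E.inv_mem (Jp_le α hy))
    · rw [← eq_inl m, inv_mul_cancel_right]
  obtain ⟨l, rfl⟩ := eq_Ec (X := E) (fun x hx y hy => by
      obtain ⟨v, hv, x', hx', rfl⟩ := d x hx
      obtain ⟨w, hw, y', hy', c⟩ := d y hy
      have c1 : x' * y = y * x' := by
        rw [c, ← mul_assoc, k w hw x' (Jp_le α hx'), mul_assoc, Jp_comm α x' hx' y' hy', mul_assoc]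
      rw [mul_assoc, c1, ← mul_assoc, ← k v hv y hy, mul_assoc])
    (fun x hx => by rw [eq_inl (x := x) hx.1]; exact e.ge hx.2) h1.ge
  exact not_Ec l h

/-- Case (i): `Jp α = Ec k` (`eq_Ec`), `R13 ≤ E` (`R13_dec`).  Every `g ∈ E` normalizes `Ec k`, so `g.j.w = 0` (`conj_Ec` applied to
`⟨k er, zz⟩`): `E ≤ E3`.  If `E ≠ E3` then `E = R13` (an element of `E` with `a ≠ 0` generates `E3` with `R13`), `β = c_{inr x1} ∈ T` is not inner and
preserves `Ec k = Jp α`, so `α⁻¹ β α` preserves `E ⊓ Js` and lies in `H` (`stabJ`); `tool2` gives `α⁻¹ ∈ H`. -/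
theorem Es.of_i (h : Es E A H) (hJ : ¬ Js ≤ E) {α : MulAut E} (hα : α ∈ A) (hα' : α ∉ H) (h1 : dn E = J5)
    (h2 : dn (Jp α) = V3) (h3 : (Jp α).map πu = Aln) : E = E3 := by
  obtain ⟨k, hk⟩ := eq_Ec (Jp_comm α) (fun x hx => by rw [eq_inl (x := x) hx.1]; exact h2.ge hx.2) h3.ge
  have r1 : R13 ≤ E := fun x hx => by
    obtain ⟨v, hv, y, hy, rfl⟩ := R13_dec k hx
    exact E.mul_mem (h1.ge hv) (Jp_le α (hk.ge hy))
  have r2 : E ≤ E3 := fun g hg => by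
    have m : (⟨k • er, zz⟩ : S) ∈ Ec k := by simp [er, zz]
    have a1 := (hk.le (Jp_conj α g hg _ (hk.ge m))).2.2.1
    have a2 := (conj_Ec g m).2.2.1
    have a3 : (g * ⟨k • er, zz⟩ * g⁻¹).u.c = 1 := by
      rw [S.mul_u, S.mul_u, S.inv_u, zz_comm, mul_inv_cancel_right]; rfl
    rw [a1, a3, mul_one, mul_one] at a2
    exact sub_eq_self.1 a2.symm
  by_cases ha : ∃ g ∈ E, g.u.a ≠ 0
  · obtain ⟨g, hg, ha⟩ := ha
    refine le_antisymm r2 fun x hx => ?_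
    rcases (show ∀ a b : K, a ≠ 0 → b = 0 ∨ b + a = 0 ∨ b + -a = 0 by decide) _ x.u.a ha with c | c | c
    · exact r1 ⟨c, hx⟩
    · exact (E.mul_mem_cancel_right hg).1 (r1 ⟨c, E3.mul_mem hx (r2 hg)⟩)
    · exact (E.mul_mem_cancel_right (E.inv_mem hg)).1 (r1 ⟨c, E3.mul_mem hx (E3.inv_mem (r2 hg))⟩)
  exfalso
  have hb : ∀ g ∈ E, g.u.a = 0 := fun g hg => by_contra fun c => ha ⟨g, hg, c⟩
  obtain ⟨β, hβ, b1, b2⟩ := h.exists_cj (g := inr x1) fun x hx =>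
    r1 ⟨show (inr x1 * x * (inr x1)⁻¹).u.a = 0 by simp [hb x hx], conj_E3 _ (r2 hx)⟩
  refine hα' (H.inv_mem_iff.1 (h.tool2 (A.inv_mem hα) hβ (fun c => absurd (hb _ (b2 c)) (by decide)) ?_))
  rw [inv_inv]
  refine h.stabJ hJ (A.mul_mem (A.mul_mem (A.inv_mem hα) (h.le hβ)) hα) fun y hy hy' => ?_
  rw [afn_mul _ _ hy, afn_mul _ _ (afn_mem α hy), b1 _ (afn_mem α hy)]
  have m := conj_Ec (inr x1) (hk.le (mem_Jp.2 ⟨y, hy, hy', rfl⟩))
  rw [inr_j, V.zero_w, sub_zero] at m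
  exact (mem_Jp'.1 (hk.ge m)).2

theorem Es.cases (h : Es E A H) : Js ≤ E ∨ E = E3 := by
  by_cases hJ : Js ≤ E
  · exact Or.inl hJ
  obtain ⟨α, hα, hα'⟩ := SetLike.not_le_iff_exists.1 h.ne
  obtain ⟨e, c | c | c⟩ := (h.ld hJ hα hα').cases
  · exact Or.inr (h.of_i hJ hα hα' c.1 c.2 e)
  · exact absurd c.2.2.2 (h.not_ii hJ hα hα' c.1 c.2.2.1)
  · exact absurd c.2.1 (h.not_iii c.1 e)

theorem ess_cases {F : FusionSystem (⊤ : Subgroup S)} (hF : F.IsSaturated 3) (hE : F.IsEssential 3 E) :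
    Js ≤ E ∨ E = E3 := by
  obtain ⟨H, h⟩ := es_of_essential hF hE
  exact h.cases

end Cfsg.Agent.C3F
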