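import Cfsg.Agent.C3F.Glue
import Cfsg.Agent.C3F.A3a
import Cfsg.Agent.C3F.EsB

/-! Normal subgroups, and the fusion systems of the models (for S5227). -/

set_option autoImplicit false
set_option linter.unusedSimpArgs false

namespace Cfsg.Agent.C3F

open Subgroup Cfsg.Agent.Fus Cfsg.FusionSystem Cfsg.Agent.SpF

variable {F : FusionSystem (⊤ : Subgroup S)}

theorem core_ep : inl ep ∉ (⊥ : Subgroup S) := fun h =>
  absurd (congrArg (fun x : S => x.j.p) (mem_bot.1 h)) (by decide)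

/-- `J` is normal: `isNormal_of_essential` (Fus/Normal), `ess_cases`, `map_J`. -/
theorem ess_E3 (hF : F.IsSaturated 3) (hc : F.core = ⊥) : F.IsEssential 3 E3 := by
  by_contra c
  refine core_ep (hc ▸ le_core (isNormal_of_essential (Q := Js) p3 hF fun R hR => ?_) (inl_mem ep))
  have : Js ≤ R := hR.elim (fun e => e ▸ le_top) fun k => (ess_cases hF k).resolve_right fun e => c (e ▸ k)
  exact ⟨this, fun g hg _ x hx => map_J this hg.homOn hg.injOn hx⟩

/-- `up W` is normal: `isNormal_of_essential`; for `R ⊇ J` use `res_map`; for `R = E3` use `IsMap.exists_aut`, `gen3` (`φ` and conjugations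
preserve `up W` by `res_map`, `ρ_mem_Gam`; `ωf 1` fixes `up V3 ≤ Ec 0`). -/
theorem NF.core_ne (h : NF F) {W : AddSubgroup V} (h1 : ep ∈ W) (h2 : W ≤ V3) (h3 : ∀ γ ∈ Gam F, ∀ v ∈ W, γ v ∈ W) :
    F.core ≠ ⊥ := fun hc => by
  have k : ∀ {R : Subgroup S} {g : S → S}, IsMap F R g → Js ≤ R → ∀ x ∈ up W, g x ∈ up W := fun hg hR x hx => by
    obtain ⟨γ, hγ, e, -⟩ := res_map hg hR
    rw [eq_inl (x := x) hx.1, e]
    exact ⟨rfl, h3 γ hγ _ hx.2⟩
  refine core_ep (hc ▸ le_core (isNormal_of_essential (Q := up W) p3 h.sat fun R hR => ?_) ⟨rfl, h1⟩)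
  by_cases hJ : Js ≤ R
  · exact ⟨fun x hx => hJ hx.1, fun g hg _ => k hg hJ⟩
  have hE := hR.resolve_left fun e => hJ (e ▸ le_top)
  obtain rfl := (ess_cases h.sat hE).resolve_left hJ
  have le : up W ≤ E3 := fun x hx => (mem_V3.1 (h2 hx.2)).2.2
  refine ⟨le, fun g hg hi x hx => ?_⟩
  obtain ⟨α, hα, e⟩ := hg.exists_aut hi
  obtain ⟨φ, hφ, -, e' | ⟨s, e'⟩⟩ := gen3 h.sat hE h.ω hα <;> rw [← e x (le hx), e' x (le hx)]
  · exact k hφ le_top x hx
  · have m := k hφ le_top x hx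
    have v := mem_V3.1 (h2 m.2)
    rw [ωf_Ec0 1 (mem_Ec.2 ⟨by rw [m.1]; rfl, v.2.2, by simp [v.1], by simp [v.2.1]⟩)]
    exact k (conj_mem_AS F s) le_top _ m

/-- The inverse map `⟨inl v⟩ → ⟨inl ep⟩` has a central (fully centralized) image, so extends (`sat_extend_centralizer`) to a subgroup containing `J`;
`res_map` gives `γ'` with `γ' v = ep`. -/
theorem exists_gam (hF : F.IsSaturated 3) {P : Subgroup S} {f : S → S} (hf : IsMap F P f) (hP : inl ep ∈ P) {v : V}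
    (hv : f (inl ep) = inl v) : ∃ γ ∈ Gam F, γ ep = v := by
  have hf' := hf.mono (zpowers_le.2 hP)
  obtain ⟨g, hg, hi, e, -⟩ := hf'.exists_inv' rfl
  have c : F.IsFullyCentralized (zpowers (inl ep)) :=
    sat_fullyCentralized p3 hF (fullyNormalized_of_le_normalizer F le_top fun s _ =>
      mem_normalizer_of_conj_mem (by
        rintro _ ⟨n, rfl⟩
        rw [← conj_zpow, conj_inl, act_ep]
        exact zpow_mem_zpowers _ n))
  obtain ⟨k, hk, e'⟩ := sat_extend_centralizer p3 hF hg (hi.symm ▸ c)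
  obtain ⟨γ, hγ, e'', -⟩ := res_map hk (le_sup_of_le_right fun x hx => ⟨trivial, fun y hy => esa_comm (by
    obtain ⟨_, ⟨n, rfl⟩, rfl⟩ := hf'.mem_img.1 hy
    rw [hf'.homOn.map_zpow (mem_zpowers _), hv]
    exact zpow_mem (inl_mem v) n) hx⟩)
  refine ⟨γ⁻¹, inv_mem hγ, ?_⟩
  have : γ v = ep := inl_inj (by
    rw [← e'', ← hv, e' _ (mem_img_of_mem f (mem_zpowers _)), e _ (mem_zpowers _)])
  rw [← this, GV.inv_apply_self]

/-- As in `RFS.real_of` (RFS/Fin): `j = f.comp (⊤ : Subgroup S).subtype`, `gIso_of_injective`, `exists_fIso`, `isRealizedBy_of_fIso`,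
`saturated_of_isRealizedBy`, `isRealizable_of_isRealizedBy`, `IsRealizedBy_exists_conj`; for the last part `IsRealizedBy_exists_isMap` (Fus/ModelUniq) with
`P = zpowers x`. -/
theorem exists_fs {G : Type} [Group G] [Finite G] {f : S →* G} (hi : Function.Injective f) (hs : ¬ 3 ∣ f.range.index) :
    ∃ F : FusionSystem (⊤ : Subgroup S), F.IsSaturated 3 ∧ F.IsRealizable 3 ∧
      (∀ P φ, IsMap F P φ → ∃ g, ∀ x ∈ P, f (φ x) = g * f x * g⁻¹) ∧
      (∀ (P : Subgroup S) (φ : S → S) (g : G), (∀ x ∈ P, f (φ x) = g * f x * g⁻¹) → IsMap F P φ) ∧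
      ∀ g x y, g * f x * g⁻¹ = f y → ∃ φ, IsMap F (zpowers x) φ ∧ φ x = y := by
  let j := f.comp (⊤ : Subgroup S).subtype
  have hr : j.range = f.range := by rw [MonoidHom.range_comp, range_subtype, ← MonoidHom.range_eq_map]
  obtain ⟨b, hb⟩ := gIso_of_injective j (hi.comp Subtype.val_injective)
  obtain ⟨F, h⟩ := exists_fIso (groupFusionSystem j.range) hb.symm
  have h3 : F.IsRealizedBy j := isRealizedBy_of_fIso h.symm fun x => (hfn_apply j x.2).symm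
  have h4 : ∃ T : Sylow 3 G, (T : Subgroup G) = j.range :=
    ⟨(isPGroup_S.of_surjective _ f.rangeRestrict_surjective).toSylow hs, hr.symm⟩
  have e : ∀ x, hfn j x = f x := fun x => hfn_apply j (mem_top x)
  have k : ∀ (P : Subgroup S) (φ : S → S) (g : G), (∀ x ∈ P, f (φ x) = g * f x * g⁻¹) → IsMap F P φ :=
    fun P φ g hg => IsRealizedBy_isMap h3 le_top (fun _ _ => trivial) g fun z hz => by rw [e, e, hg z hz]
  refine ⟨F, saturated_of_isRealizedBy h3 h4, isRealizable_of_isRealizedBy h3 h4,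
    fun P φ hφ => by simpa only [e] using IsRealizedBy_exists_conj h3 hφ, k, fun g x y hg =>
    ⟨fun z => Function.invFun f (g * f z * g⁻¹), k _ _ g ?_, hi ((Function.invFun_eq ⟨y, hg.symm⟩).trans hg)⟩⟩
  rintro _ ⟨n, rfl⟩
  exact Function.invFun_eq ⟨y ^ n, by rw [map_zpow, map_zpow, ← hg, conj_zpow]⟩

/-- Otherwise `inl ep ∈ core` (`ep_mem`, `core_conj`), `inl v ∈ core` (strongly closed), `J ≤ core` (`span_top` for `dn core`); the map `inl v' ↦ x`
extends to a subgroup containing `J` (`IsNormal_extend`, `isNormal_core`), so `x ∈ J` (`map_J`). -/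
theorem core_bot (h1 : ∃ φ v, v.w ≠ 0 ∧ IsMap F (zpowers (inl ep)) φ ∧ φ (inl ep) = inl v)
    (h2 : ∃ φ v x, x ∉ Js ∧ IsMap F (zpowers (inl v)) φ ∧ φ (inl v) = x) : F.core = ⊥ := by
  by_contra c
  obtain ⟨φ, v, hw, hφ, e⟩ := h1
  obtain ⟨ψ, u, x, hx, hψ, e'⟩ := h2
  have m := hφ.mem_of_stronglyClosed (stronglyClosed_of_isNormal (isNormal_core F)) (mem_zpowers _)
    (ep_mem (fun g _ hx => core_conj g hx) c)
  have t := span_top (W := dn F.core) (fun u v hv => show inl (act (inr u).u v) ∈ F.core from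
    conj_inl (inr u) v ▸ core_conj (inr u) hv) (show inl v ∈ F.core from e ▸ m) hw
  obtain ⟨g, hg, k, -⟩ := IsNormal_extend (isNormal_core F) hψ
  refine hx (e' ▸ k _ (mem_zpowers _) ▸ map_J (le_sup_of_le_right fun y hy => ?_) hg.homOn hg.injOn (inl_mem u))
  rw [eq_inl hy]
  exact t.ge (AddSubgroup.mem_top y.j)

/-- The fusion system of a model. -/
theorem Md.fs {G : Type} [Group G] [Finite G] {f : S →* G} (h : Md f) :
    ∃ F : FusionSystem (⊤ : Subgroup S), F.IsSaturated 3 ∧ F.IsRealizable 3 ∧ F.core = ⊥ ∧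
      (ng ∈ Gam F ↔ ∃ g, ∀ v, g * f (inl v) * g⁻¹ = f (inl (-v))) ∧
      (Pi (Gam F) ↔ ∃ g v, (∀ u, act u v = v → u = 1) ∧ g * f (inl ep) * g⁻¹ = f (inl v)) := by
  obtain ⟨F, h1, h2, h3, h4, h5⟩ := exists_fs h.inj h.syl
  refine ⟨F, h1, h2, core_bot ?_ ?_, ⟨fun k => ?_, fun ⟨g, hg⟩ => mem_Gam.2 (h4 _ _ g fun x hx => ?_)⟩,
    fun ⟨γ, hγ, hu⟩ => ?_, fun ⟨g, v, hu, e⟩ => ?_⟩
  · obtain ⟨g, v, hw, e⟩ := h.fus
    obtain ⟨φ, a, b⟩ := h5 _ _ _ e
    exact ⟨φ, v, hw, a, b⟩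
  · obtain ⟨g, v, x, hx, e⟩ := h.out
    obtain ⟨φ, a, b⟩ := h5 _ _ _ e
    exact ⟨φ, v, x, hx, a, b⟩
  · obtain ⟨g, hg⟩ := h3 _ _ (mem_Gam.1 k)
    exact ⟨g, fun v => by rw [← hg _ (inl_mem v), ng_apply, inl_j]⟩
  · rw [ng_apply, ← hg, ← eq_inl hx]
  · obtain ⟨g, hg⟩ := h3 _ _ (mem_Gam.1 hγ)
    exact ⟨g, _, hu, (hg _ (inl_mem ep)).symm⟩
  · obtain ⟨φ, a, b⟩ := h5 _ _ _ e
    obtain ⟨γ, hγ, rfl⟩ := exists_gam h1 a (mem_zpowers _) b
    exact ⟨γ, hγ, hu⟩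

end Cfsg.Agent.C3F
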