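import Cfsg.Agent.SpF.Tools

/-!
Fusion systems on the Sylow `3`-subgroup `S = J ⋊ U` of `Co₁` (and of `Sp₆(3)`).

`V` = symmetric `3 × 3` matrices over `𝔽₃` with entries `p q r / q s t / r t w` (in monomials:
`p = e1², q = e1e2, r = e1e3, s = e2², t = e2e3, w = e3²`), `Hs` = unitriangular matrices `[[1,a,c],[0,1,b],[0,0,1]]`,
`ρ u A = u A uᵀ`, `S = V ⋊ Hs`.  `simp only [SE]`-style coordinate lemmas are tagged `@[simp]`.
Automorphisms of subgroups `E ≤ S` are evaluated through `afn` (`Fus/Fn`: `afn_mul`, `afn_mem`, `afn_inv_afn`, `aut_ext`,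
`homOn_afn`).  `rj : MulAut Js ≃* GV` is the restriction to `J`.
-/

set_option autoImplicit false
set_option linter.unusedSimpArgs false

namespace Cfsg.Agent.C3F

open Subgroup Cfsg.Agent.Fus Cfsg.FusionSystem Cfsg.Agent.SpF

/-- The field with three elements. -/
abbrev K : Type := ZMod 3

instance fact3 : Fact (Nat.Prime 3) := ⟨Nat.prime_three⟩

/-- Symmetric matrices. -/
@[ext] structure V where
  p : K
  q : K
  r : K
  s : K
  t : K
  w : K
  deriving DecidableEq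

namespace V
instance : Add V := ⟨fun x y => ⟨x.p + y.p, x.q + y.q, x.r + y.r, x.s + y.s, x.t + y.t, x.w + y.w⟩⟩
instance : Neg V := ⟨fun x => ⟨-x.p, -x.q, -x.r, -x.s, -x.t, -x.w⟩⟩
instance : Zero V := ⟨⟨0, 0, 0, 0, 0, 0⟩⟩
variable (x y : V)
@[simp] theorem add_p : (x + y).p = x.p + y.p := rfl
@[simp] theorem add_q : (x + y).q = x.q + y.q := rfl
@[simp] theorem add_r : (x + y).r = x.r + y.r := rfl
@[simp] theorem add_s : (x + y).s = x.s + y.s := rfl
@[simp] theorem add_t : (x + y).t = x.t + y.t := rfl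
@[simp] theorem add_w : (x + y).w = x.w + y.w := rfl
@[simp] theorem neg_p : (-x).p = -x.p := rfl
@[simp] theorem neg_q : (-x).q = -x.q := rfl
@[simp] theorem neg_r : (-x).r = -x.r := rfl
@[simp] theorem neg_s : (-x).s = -x.s := rfl
@[simp] theorem neg_t : (-x).t = -x.t := rfl
@[simp] theorem neg_w : (-x).w = -x.w := rfl
@[simp] theorem zero_p : (0 : V).p = 0 := rfl
@[simp] theorem zero_q : (0 : V).q = 0 := rfl
@[simp] theorem zero_r : (0 : V).r = 0 := rfl
@[simp] theorem zero_s : (0 : V).s = 0 := rfl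
@[simp] theorem zero_t : (0 : V).t = 0 := rfl
@[simp] theorem zero_w : (0 : V).w = 0 := rfl
instance addGroup : AddGroup V := AddGroup.ofLeftAxioms (fun _ _ _ => by ext <;> simp [add_assoc])
  (fun _ => by ext <;> simp) (fun _ => by ext <;> simp)
instance : AddCommGroup V := { addGroup with add_comm := fun _ _ => by ext <;> simp [add_comm] }
@[simp] theorem sub_p : (x - y).p = x.p - y.p := by simp [sub_eq_add_neg]
@[simp] theorem sub_q : (x - y).q = x.q - y.q := by simp [sub_eq_add_neg]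
@[simp] theorem sub_r : (x - y).r = x.r - y.r := by simp [sub_eq_add_neg]
@[simp] theorem sub_s : (x - y).s = x.s - y.s := by simp [sub_eq_add_neg]
@[simp] theorem sub_t : (x - y).t = x.t - y.t := by simp [sub_eq_add_neg]
@[simp] theorem sub_w : (x - y).w = x.w - y.w := by simp [sub_eq_add_neg]
/-- Coordinates. -/
def eqv : V ≃ K × K × K × K × K × K where
  toFun x := (x.p, x.q, x.r, x.s, x.t, x.w)
  invFun x := ⟨x.1, x.2.1, x.2.2.1, x.2.2.2.1, x.2.2.2.2.1, x.2.2.2.2.2⟩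
  left_inv _ := rfl
  right_inv _ := rfl
instance : Fintype V := Fintype.ofEquiv _ eqv.symm
theorem card : Nat.card V = 729 := by rw [Nat.card_congr eqv]; simp
theorem forall_iff {P : V → Prop} : (∀ x, P x) ↔ ∀ p q r s t w, P ⟨p, q, r, s, t, w⟩ :=
  ⟨fun h _ _ _ _ _ _ => h _, fun h x => h x.p x.q x.r x.s x.t x.w⟩
theorem three (x : V) : x + x + x = 0 := by
  have : ∀ a : K, a + a + a = 0 := by decide
  ext <;> simp [this]
instance : SMul K V := ⟨fun k x => ⟨k * x.p, k * x.q, k * x.r, k * x.s, k * x.t, k * x.w⟩⟩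
variable (k : K)
@[simp] theorem smul_p : (k • x).p = k * x.p := rfl
@[simp] theorem smul_q : (k • x).q = k * x.q := rfl
@[simp] theorem smul_r : (k • x).r = k * x.r := rfl
@[simp] theorem smul_s : (k • x).s = k * x.s := rfl
@[simp] theorem smul_t : (k • x).t = k * x.t := rfl
@[simp] theorem smul_w : (k • x).w = k * x.w := rfl
instance : Module K V where
  one_smul _ := by ext <;> simp
  mul_smul _ _ _ := by ext <;> simp [mul_assoc]
  smul_zero _ := by ext <;> simp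
  smul_add _ _ _ := by ext <;> simp [mul_add]
  add_smul _ _ _ := by ext <;> simp [add_mul]
  zero_smul _ := by ext <;> simp
end V

theorem K3 (k : K) : k = 0 ∨ k = 1 ∨ k = -1 := by revert k; decide

theorem smul_mem3 {W : AddSubgroup V} (k : K) {x : V} (h : x ∈ W) : k • x ∈ W := by
  rcases K3 k with rfl | rfl | rfl
  · rw [zero_smul]; exact W.zero_mem
  · rwa [one_smul]
  · rw [neg_smul, one_smul]; exact W.neg_mem h

theorem map_sm {f : V → V} (h : ∀ x y, f (x + y) = f x + f y) (k : K) (x : V) : f (k • x) = k • f x := by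
  let g : V →+ V := AddMonoidHom.mk' f h
  change g (k • x) = k • g x
  rcases K3 k with rfl | rfl | rfl <;> simp

/-- The basis vectors `e1², e1e2, e1e3, e2², e2e3, e3²`. -/
def ep : V := ⟨1, 0, 0, 0, 0, 0⟩
/-- basis -/
def eq' : V := ⟨0, 1, 0, 0, 0, 0⟩
/-- basis -/
def er : V := ⟨0, 0, 1, 0, 0, 0⟩
/-- basis -/
def es : V := ⟨0, 0, 0, 1, 0, 0⟩
/-- basis -/
def et : V := ⟨0, 0, 0, 0, 1, 0⟩
/-- basis -/
def ew : V := ⟨0, 0, 0, 0, 0, 1⟩

theorem V.decomp (x : V) : x = x.p • ep + x.q • eq' + x.r • er + x.s • es + x.t • et + x.w • ew := by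
  ext <;> simp [ep, eq', er, es, et, ew]

/-- `GL(V)`. -/
abbrev GV : Type := V ≃ₗ[K] V

@[simp] theorem GV.mul_apply (f g : GV) (x : V) : (f * g) x = f (g x) := rfl
@[simp] theorem GV.one_apply (x : V) : (1 : GV) x = x := rfl
theorem GV.inv_apply (f : GV) (x : V) : f⁻¹ x = f.symm x := rfl
@[simp] theorem GV.inv_apply_self (f : GV) (x : V) : f⁻¹ (f x) = x := f.symm_apply_apply x
@[simp] theorem GV.apply_inv_self (f : GV) (x : V) : f (f⁻¹ x) = x := f.apply_symm_apply x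
instance : Finite GV := Finite.of_injective (fun f : GV => (f : V → V)) DFunLike.coe_injective

/-- Linear automorphisms are determined by the basis. -/
theorem aut_ext6 {f g : GV} (h1 : f ep = g ep) (h2 : f eq' = g eq') (h3 : f er = g er) (h4 : f es = g es)
    (h5 : f et = g et) (h6 : f ew = g ew) : f = g := LinearEquiv.ext fun x => by
  rw [x.decomp]
  simp only [map_add, map_smul, h1, h2, h3, h4, h5, h6]

/-- Unitriangular matrices. -/
@[ext] structure Hs where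
  a : K
  b : K
  c : K
  deriving DecidableEq

namespace Hs
instance : Mul Hs := ⟨fun x y => ⟨x.a + y.a, x.b + y.b, x.c + y.c + x.a * y.b⟩⟩
instance : Inv Hs := ⟨fun x => ⟨-x.a, -x.b, x.a * x.b - x.c⟩⟩
instance : One Hs := ⟨⟨0, 0, 0⟩⟩
variable (x y : Hs)
@[simp] theorem mul_a : (x * y).a = x.a + y.a := rfl
@[simp] theorem mul_b : (x * y).b = x.b + y.b := rfl
@[simp] theorem mul_c : (x * y).c = x.c + y.c + x.a * y.b := rfl
@[simp] theorem inv_a : x⁻¹.a = -x.a := rfl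
@[simp] theorem inv_b : x⁻¹.b = -x.b := rfl
@[simp] theorem inv_c : x⁻¹.c = x.a * x.b - x.c := rfl
@[simp] theorem one_a : (1 : Hs).a = 0 := rfl
@[simp] theorem one_b : (1 : Hs).b = 0 := rfl
@[simp] theorem one_c : (1 : Hs).c = 0 := rfl
instance : Group Hs := Group.ofLeftAxioms (fun _ _ _ => by ext <;> simp <;> ring)
  (fun _ => by ext <;> simp) (fun _ => by ext <;> simp)
/-- Coordinates. -/
def eqv : Hs ≃ K × K × K where
  toFun x := (x.a, x.b, x.c)
  invFun x := ⟨x.1, x.2.1, x.2.2⟩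
  left_inv _ := rfl
  right_inv _ := rfl
instance : Fintype Hs := Fintype.ofEquiv _ eqv.symm
theorem card : Nat.card Hs = 27 := by rw [Nat.card_congr eqv]; simp
theorem forall_iff {P : Hs → Prop} : (∀ x, P x) ↔ ∀ a b c, P ⟨a, b, c⟩ :=
  ⟨fun h _ _ _ => h _, fun h x => h x.a x.b x.c⟩
end Hs

/-- The action `A ↦ u A uᵀ`. -/
def act (u : Hs) (x : V) : V where
  p := x.p + 2 * u.a * x.q + 2 * u.c * x.r + u.a ^ 2 * x.s + 2 * u.a * u.c * x.t + u.c ^ 2 * x.w
  q := x.q + u.b * x.r + u.a * x.s + (u.a * u.b + u.c) * x.t + u.b * u.c * x.w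
  r := x.r + u.a * x.t + u.c * x.w
  s := x.s + 2 * u.b * x.t + u.b ^ 2 * x.w
  t := x.t + u.b * x.w
  w := x.w

theorem act_add (u : Hs) (x y : V) : act u (x + y) = act u x + act u y := by ext <;> simp [act] <;> ring
theorem act_mul (u v : Hs) (x : V) : act (u * v) x = act u (act v x) := by ext <;> simp [act] <;> ring
theorem act_one (x : V) : act 1 x = x := by ext <;> simp [act]

/-- An additive automorphism from a function and its inverse. -/
def mkA (f g : V → V) (h1 : ∀ x, g (f x) = x) (h2 : ∀ x, f (g x) = x) (h3 : ∀ x y, f (x + y) = f x + f y) : GV where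
  toFun := f
  invFun := g
  left_inv := h1
  right_inv := h2
  map_add' := h3
  map_smul' := map_sm h3

@[simp] theorem mkA_apply {f g : V → V} {h1 h2 h3} (x : V) : mkA f g h1 h2 h3 x = f x := rfl
@[simp] theorem mkA_inv_apply {f g : V → V} {h1 h2 h3} (x : V) : (mkA f g h1 h2 h3)⁻¹ x = g x := rfl

/-- The action as a homomorphism. -/
def ρ : Hs →* GV where
  toFun u := mkA (act u) (act u⁻¹) (fun x => by rw [← act_mul, inv_mul_cancel, act_one])
    (fun x => by rw [← act_mul, mul_inv_cancel, act_one]) (act_add u)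
  map_one' := LinearEquiv.ext act_one
  map_mul' u v := LinearEquiv.ext (act_mul u v)

@[simp] theorem ρ_apply (u : Hs) (x : V) : ρ u x = act u x := rfl

theorem ρ_inj : Function.Injective ρ := (injective_iff_map_eq_one ρ).2 fun u h => by
  have a := congrArg V.q (DFunLike.congr_fun h es)
  have b := congrArg V.t (DFunLike.congr_fun h ew)
  have c := congrArg V.r (DFunLike.congr_fun h ew)
  simp [act, es, ew] at a b c
  ext <;> simp [a, b, c]

/-- The group `S = V ⋊ Hs`. -/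
@[ext] structure S where
  j : V
  u : Hs
  deriving DecidableEq

namespace S
instance : Mul S := ⟨fun x y => ⟨x.j + act x.u y.j, x.u * y.u⟩⟩
instance : Inv S := ⟨fun x => ⟨-act x.u⁻¹ x.j, x.u⁻¹⟩⟩
instance : One S := ⟨⟨0, 1⟩⟩
variable (x y : S)
@[simp] theorem mul_j : (x * y).j = x.j + act x.u y.j := rfl
@[simp] theorem mul_u : (x * y).u = x.u * y.u := rfl
@[simp] theorem inv_j : x⁻¹.j = -act x.u⁻¹ x.j := rfl
@[simp] theorem inv_u : x⁻¹.u = x.u⁻¹ := rfl
@[simp] theorem one_j : (1 : S).j = 0 := rfl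
@[simp] theorem one_u : (1 : S).u = 1 := rfl
instance : Group S := Group.ofLeftAxioms
  (fun _ _ _ => S.ext (by simp [act_add, act_mul, add_assoc]) (by simp [mul_assoc]))
  (fun _ => S.ext (by simp [act_one]) (by simp)) (fun _ => S.ext (by simp) (by simp))
/-- Coordinates. -/
def eqv : S ≃ V × Hs where
  toFun x := (x.j, x.u)
  invFun x := ⟨x.1, x.2⟩
  left_inv _ := rfl
  right_inv _ := rfl
instance : Fintype S := Fintype.ofEquiv _ eqv.symm
theorem card : Nat.card S = 3 ^ 9 := by rw [Nat.card_congr eqv, Nat.card_prod, V.card, Hs.card]; norm_num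
theorem ext9 {x y : S} (h1 : x.j.p = y.j.p) (h2 : x.j.q = y.j.q) (h3 : x.j.r = y.j.r) (h4 : x.j.s = y.j.s)
    (h5 : x.j.t = y.j.t) (h6 : x.j.w = y.j.w) (h7 : x.u.a = y.u.a) (h8 : x.u.b = y.u.b) (h9 : x.u.c = y.u.c) : x = y :=
  S.ext (V.ext h1 h2 h3 h4 h5 h6) (Hs.ext h7 h8 h9)
end S

theorem isPGroup_S : IsPGroup 3 S := IsPGroup.of_card S.card
theorem p3 : IsPGroup 3 (⊤ : Subgroup S) := isPGroup_S.to_subgroup _

/-- The element of `J`. -/
def inl (v : V) : S := ⟨v, 1⟩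
/-- The element of the complement. -/
def inr (u : Hs) : S := ⟨0, u⟩
@[simp] theorem inl_j (v : V) : (inl v).j = v := rfl
@[simp] theorem inl_u (v : V) : (inl v).u = 1 := rfl
@[simp] theorem inr_j (u : Hs) : (inr u).j = 0 := rfl
@[simp] theorem inr_u (u : Hs) : (inr u).u = u := rfl
theorem act_zero (u : Hs) : act u 0 = 0 := by ext <;> simp [act]
theorem act_neg (u : Hs) (x : V) : act u (-x) = -act u x := map_neg (ρ u) x
theorem inl_add (v w : V) : inl (v + w) = inl v * inl w := S.ext (by simp [act_one]) (by simp)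
theorem inl_zero : inl 0 = 1 := rfl
theorem inl_neg (v : V) : inl (-v) = (inl v)⁻¹ := S.ext (by simp [act_one]) (by simp)
theorem inr_mul (u v : Hs) : inr (u * v) = inr u * inr v := S.ext (by simp [act_zero]) (by simp)
theorem inl_mul_inr (x : S) : inl x.j * inr x.u = x := S.ext (by simp [act_zero]) (by simp)
theorem conj_inl (x : S) (v : V) : x * inl v * x⁻¹ = inl (act x.u v) :=
  S.ext (by simp [act_neg, ← act_mul, act_one]) (by simp)
theorem inl_inj : Function.Injective inl := fun _ _ h => congrArg S.j h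

/-- The projection to `Hs`. -/
def πu : S →* Hs := ⟨⟨S.u, rfl⟩, fun _ _ => rfl⟩
@[simp] theorem πu_apply (x : S) : πu x = x.u := rfl

/-! ### Subgroups of `Hs` and of `V` -/

/-- generator `x1` (root `e1 - e2`) -/
def x1 : Hs := ⟨1, 0, 0⟩
/-- generator `x2` (root `e2 - e3`) -/
def x2 : Hs := ⟨0, 1, 0⟩
/-- the central element (root `e1 - e3`) -/
def zz : Hs := ⟨0, 0, 1⟩

/-- Transvections with axis `⟨e1, e2⟩`. -/
def Aln : Subgroup Hs where
  carrier := {u | u.a = 0}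
  mul_mem' := fun {x y} (h : x.a = 0) (k : y.a = 0) => show (x * y).a = 0 by simp [h, k]
  one_mem' := rfl
  inv_mem' := fun {x} (h : x.a = 0) => show x⁻¹.a = 0 by simp [h]
@[simp] theorem mem_Aln {u : Hs} : u ∈ Aln ↔ u.a = 0 := Iff.rfl

/-- Transvections with centre `e1`. -/
def Apt : Subgroup Hs where
  carrier := {u | u.b = 0}
  mul_mem' := fun {x y} (h : x.b = 0) (k : y.b = 0) => show (x * y).b = 0 by simp [h, k]
  one_mem' := rfl
  inv_mem' := fun {x} (h : x.b = 0) => show x⁻¹.b = 0 by simp [h]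
@[simp] theorem mem_Apt {u : Hs} : u ∈ Apt ↔ u.b = 0 := Iff.rfl

/-- Coordinate subspace: the coordinates flagged `true` vanish. -/
def cs (bq br bs bt bw : Bool) : AddSubgroup V where
  carrier := {x | (bq → x.q = 0) ∧ (br → x.r = 0) ∧ (bs → x.s = 0) ∧ (bt → x.t = 0) ∧ (bw → x.w = 0)}
  add_mem' := fun ⟨a, b, c, d, e⟩ ⟨a', b', c', d', e'⟩ => ⟨fun h => by simp [a h, a' h], fun h => by simp [b h, b' h],
    fun h => by simp [c h, c' h], fun h => by simp [d h, d' h], fun h => by simp [e h, e' h]⟩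
  zero_mem' := by simp
  neg_mem' := fun ⟨a, b, c, d, e⟩ => ⟨fun h => by simp [a h], fun h => by simp [b h],
    fun h => by simp [c h], fun h => by simp [d h], fun h => by simp [e h]⟩

/-- `⟨e1²⟩` -/
def Zv : AddSubgroup V := cs true true true true true
/-- `⟨e1², e1e2⟩` -/
def Z2v : AddSubgroup V := cs false true true true true
/-- `S²⟨e1, e2⟩` -/
def V3 : AddSubgroup V := cs false true false true true
/-- `e1 · 𝔽₃³` -/
def Vp : AddSubgroup V := cs false false true true true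
/-- `V3 + Vp` -/
def Z3v : AddSubgroup V := cs false false false true true
/-- `⟨e1, e2⟩ · 𝔽₃³` -/
def J5 : AddSubgroup V := cs false false false false true
@[simp] theorem mem_Zv {x : V} : x ∈ Zv ↔ x.q = 0 ∧ x.r = 0 ∧ x.s = 0 ∧ x.t = 0 ∧ x.w = 0 := by simp [Zv, cs, ← SetLike.mem_coe]
@[simp] theorem mem_Z2v {x : V} : x ∈ Z2v ↔ x.r = 0 ∧ x.s = 0 ∧ x.t = 0 ∧ x.w = 0 := by simp [Z2v, cs, ← SetLike.mem_coe]
@[simp] theorem mem_V3 {x : V} : x ∈ V3 ↔ x.r = 0 ∧ x.t = 0 ∧ x.w = 0 := by simp [V3, cs, ← SetLike.mem_coe]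
@[simp] theorem mem_Vp {x : V} : x ∈ Vp ↔ x.s = 0 ∧ x.t = 0 ∧ x.w = 0 := by simp [Vp, cs, ← SetLike.mem_coe]
@[simp] theorem mem_Z3v {x : V} : x ∈ Z3v ↔ x.t = 0 ∧ x.w = 0 := by simp [Z3v, cs, ← SetLike.mem_coe]
@[simp] theorem mem_J5 {x : V} : x ∈ J5 ↔ x.w = 0 := by simp [J5, cs, ← SetLike.mem_coe]

/-! ### Subgroups of `S` -/

/-- The subgroup of `J` given by a subspace. -/
def up (W : AddSubgroup V) : Subgroup S where
  carrier := {x | x.u = 1 ∧ x.j ∈ W}
  mul_mem' := fun ⟨a, b⟩ ⟨c, d⟩ => ⟨by simp [a, c], by simpa [a, act_one] using W.add_mem b d⟩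
  one_mem' := ⟨rfl, W.zero_mem⟩
  inv_mem' := fun ⟨a, b⟩ => ⟨by simp [a], by simpa [a, act_one] using b⟩
@[simp] theorem mem_up {W : AddSubgroup V} {x : S} : x ∈ up W ↔ x.u = 1 ∧ x.j ∈ W := Iff.rfl

/-- The subspace `E ∩ J`. -/
def dn (E : Subgroup S) : AddSubgroup V where
  carrier := {v | inl v ∈ E}
  add_mem' := fun {v w} (h : inl v ∈ E) (k : inl w ∈ E) => show inl (v + w) ∈ E from inl_add v w ▸ E.mul_mem h k
  zero_mem' := E.one_mem
  neg_mem' := fun {v} (h : inl v ∈ E) => show inl (-v) ∈ E from inl_neg v ▸ E.inv_mem h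
@[simp] theorem mem_dn {E : Subgroup S} {v : V} : v ∈ dn E ↔ inl v ∈ E := Iff.rfl

/-- `J`. -/
def Js : Subgroup S := πu.ker
@[simp] theorem mem_Js {x : S} : x ∈ Js ↔ x.u = 1 := Iff.rfl
theorem inl_mem (v : V) : inl v ∈ Js := rfl
theorem eq_inl {x : S} (h : x ∈ Js) : x = inl x.j := S.ext rfl h
instance : Js.Normal := inferInstanceAs πu.ker.Normal

/-- `E₁ = J Aln`. -/
def E1 : Subgroup S := Aln.comap πu
@[simp] theorem mem_E1 {x : S} : x ∈ E1 ↔ x.u.a = 0 := Iff.rfl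
/-- `E₂ = J Apt`. -/
def E2 : Subgroup S := Apt.comap πu
@[simp] theorem mem_E2 {x : S} : x ∈ E2 ↔ x.u.b = 0 := Iff.rfl
/-- `E₃`. -/
def E3 : Subgroup S where
  carrier := {x | x.j.w = 0}
  mul_mem' := fun {x y} (h : x.j.w = 0) (k : y.j.w = 0) => show (x * y).j.w = 0 by simp [act, h, k]
  one_mem' := rfl
  inv_mem' := fun {x} (h : x.j.w = 0) => show x⁻¹.j.w = 0 by simp [act, h]
@[simp] theorem mem_E3 {x : S} : x ∈ E3 ↔ x.j.w = 0 := Iff.rfl
/-- `R₁₃ = E₁ ∩ E₃`. -/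
def R13 : Subgroup S := E1 ⊓ E3
@[simp] theorem mem_R13 {x : S} : x ∈ R13 ↔ x.u.a = 0 ∧ x.j.w = 0 := Iff.rfl
/-- The three abelian subgroups of order `3⁵` of `R₁₃` other than `up J5`. -/
def Ec (k : K) : Subgroup S where
  carrier := {x | x.u.a = 0 ∧ x.j.w = 0 ∧ x.j.r = k * x.u.c ∧ x.j.t = k * x.u.b}
  mul_mem' := fun {x y} ⟨a, b, c, d⟩ ⟨a', b', c', d'⟩ => by
    simp only [Set.mem_ofPred_eq, S.mul_j, S.mul_u, V.add_w, V.add_r, V.add_t, act, Hs.mul_a, Hs.mul_b, Hs.mul_c, a, b, c,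
      d, a', b', c', d']
    refine ⟨by ring, by ring, by ring, by ring⟩
  one_mem' := by simp
  inv_mem' := fun {x} ⟨a, b, c, d⟩ => by
    simp only [Set.mem_ofPred_eq, S.inv_j, S.inv_u, V.neg_w, V.neg_r, V.neg_t, act, Hs.inv_a, Hs.inv_b, Hs.inv_c, a, b, c, d]
    refine ⟨by ring, by ring, by ring, by ring⟩
@[simp] theorem mem_Ec {k : K} {x : S} :
    x ∈ Ec k ↔ x.u.a = 0 ∧ x.j.w = 0 ∧ x.j.r = k * x.u.c ∧ x.j.t = k * x.u.b := Iff.rfl

/-! ### Automorphisms -/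

theorem usq (e : Kˣ) : (e : K) * e = 1 := by revert e; decide

/-- The torus on `V`. -/
def tv (e1 e2 e3 : K) (x : V) : V := ⟨e3 * x.p, e1 * e3 * x.q, e1 * e2 * e3 * x.r, e3 * x.s, e2 * e3 * x.t, e3 * x.w⟩
/-- The torus on `S`. -/
def ts (e1 e2 e3 : K) (x : S) : S := ⟨tv e1 e2 e3 x.j, ⟨e1 * x.u.a, e2 * x.u.b, e1 * e2 * x.u.c⟩⟩

theorem tv_tv (e1 e2 e3 : Kˣ) (x : V) : tv e1 e2 e3 (tv e1 e2 e3 x) = x := by
  have := usq e1; have := usq e2; have := usq e3
  ext <;> simp only [tv] <;> grind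

theorem ts_ts (e1 e2 e3 : Kˣ) (x : S) : ts e1 e2 e3 (ts e1 e2 e3 x) = x := by
  have := usq e1; have := usq e2
  refine S.ext (tv_tv _ _ _ _) ?_
  ext <;> simp only [ts] <;> grind

/-- The torus as automorphisms of `V`: signs `e1 e2 e3` on the simple roots `x1`, `x2`, `e3²`. -/
def tV (e1 e2 e3 : Kˣ) : GV := mkA (tv e1 e2 e3) (tv e1 e2 e3) (tv_tv _ _ _) (tv_tv _ _ _)
  fun x y => by ext <;> simp [tv] <;> ring

/-- The torus as automorphisms of `S`. -/
def tS (e1 e2 e3 : Kˣ) : MulAut S where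
  toFun := ts e1 e2 e3
  invFun := ts e1 e2 e3
  left_inv := ts_ts _ _ _
  right_inv := ts_ts _ _ _
  map_mul' x y := by
    have := usq e1; have := usq e2
    refine S.ext9 ?_ ?_ ?_ ?_ ?_ ?_ ?_ ?_ ?_ <;>
      simp only [ts, tv, act, S.mul_j, S.mul_u, V.add_p, V.add_q, V.add_r, V.add_s, V.add_t, V.add_w, Hs.mul_a, Hs.mul_b,
        Hs.mul_c] <;> grind

@[simp] theorem tV_apply (e1 e2 e3 : Kˣ) (x : V) : tV e1 e2 e3 x = tv e1 e2 e3 x := rfl
@[simp] theorem tS_apply (e1 e2 e3 : Kˣ) (x : S) : tS e1 e2 e3 x = ts e1 e2 e3 x := rfl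

/-- `diag(-1, 1, 1)` -/
def t2 : GV := tV (-1) 1 1
/-- `diag(1, 1, -1)` -/
def t3 : GV := tV 1 (-1) 1
/-- `-1` -/
def ng : GV := tV 1 1 (-1)
theorem ng_apply (x : V) : ng x = -x := by ext <;> simp [ng, tv]

/-- The central automorphism `e3² ↦ e3² + k e1²` on `V`. -/
def ηV (k : K) : GV := mkA (fun x => { x with p := x.p + k * x.w }) (fun x => { x with p := x.p - k * x.w })
  (fun x => by ext <;> simp) (fun x => by ext <;> simp) fun x y => by ext <;> simp; ring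

/-- The central automorphism of `S`. -/
def ηS (k : K) : MulAut S where
  toFun x := ⟨ηV k x.j, x.u⟩
  invFun x := ⟨(ηV k)⁻¹ x.j, x.u⟩
  left_inv x := S.ext ((ηV k).symm_apply_apply x.j) rfl
  right_inv x := S.ext ((ηV k).apply_symm_apply x.j) rfl
  map_mul' x y := S.ext (by ext <;> simp [ηV, act]; ring) rfl

@[simp] theorem ηS_j (k : K) (x : S) : (ηS k x).j = ηV k x.j := rfl
@[simp] theorem ηS_u (k : K) (x : S) : (ηS k x).u = x.u := rfl

/-- `A ↦ g A gᵀ` for `g = 1 + E₂₁`. -/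
def y1 : GV := mkA (fun x => ⟨x.p, x.p + x.q, x.r, x.p + 2 * x.q + x.s, x.r + x.t, x.w⟩)
  (fun x => ⟨x.p, x.q - x.p, x.r, x.p - 2 * x.q + x.s, x.t - x.r, x.w⟩)
  (fun x => by ext <;> simp; ring) (fun x => by ext <;> simp; ring) fun x y => by ext <;> simp <;> ring

/-- `A ↦ g A gᵀ` for `g = 1 + E₃₂`. -/
def y2 : GV := mkA (fun x => ⟨x.p, x.q, x.q + x.r, x.s, x.s + x.t, x.s + 2 * x.t + x.w⟩)
  (fun x => ⟨x.p, x.q, x.r - x.q, x.s, x.t - x.s, x.s - 2 * x.t + x.w⟩)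
  (fun x => by ext <;> simp; ring) (fun x => by ext <;> simp; ring) fun x y => by ext <;> simp <;> ring

/-- The twisted `y1`. -/
def c1 (k : K) : GV := ηV k * y1 * (ηV k)⁻¹

/-- The opposite root automorphism on `E₃` (with parameter `k`). -/
def ωf (k : K) (x : S) : S :=
  ⟨⟨x.j.p - k * x.j.r ^ 2, x.j.q - k * x.j.r * x.j.t, x.j.r, x.j.s - k * x.j.t ^ 2, x.j.t, 0⟩,
    ⟨x.u.a, x.u.b - k * x.j.t, x.u.c - k * x.j.r⟩⟩

theorem ωf_mul (k : K) {x y : S} (hx : x ∈ E3) (hy : y ∈ E3) : ωf k (x * y) = ωf k x * ωf k y := by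
  rw [mem_E3] at hx hy
  refine S.ext9 ?_ ?_ ?_ ?_ ?_ ?_ ?_ ?_ ?_ <;>
    simp only [ωf, act, S.mul_j, S.mul_u, V.add_p, V.add_q, V.add_r, V.add_s, V.add_t, V.add_w, Hs.mul_a, Hs.mul_b,
      Hs.mul_c, hx, hy] <;> ring

theorem ωf_ωf (k l : K) {x : S} : ωf k (ωf l x) = ωf (k + l) x := by
  refine S.ext9 ?_ ?_ ?_ ?_ ?_ ?_ ?_ ?_ ?_ <;> simp only [ωf] <;> ring

theorem ωf_zero {x : S} (hx : x ∈ E3) : ωf 0 x = x := by
  rw [mem_E3] at hx
  refine S.ext9 ?_ ?_ ?_ ?_ ?_ ?_ ?_ ?_ ?_ <;> simp [ωf, hx]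

/-- The opposite root automorphism of `E₃`. -/
def ω0 : MulAut E3 where
  toFun x := ⟨ωf 1 x, rfl⟩
  invFun x := ⟨ωf (-1) x, rfl⟩
  left_inv x := Subtype.ext (by simp only [ωf_ωf, neg_add_cancel, ωf_zero x.2])
  right_inv x := Subtype.ext (by simp only [ωf_ωf, add_neg_cancel, ωf_zero x.2])
  map_mul' x y := Subtype.ext (ωf_mul 1 x.2 y.2)

theorem afn_ω0 {x : S} (hx : x ∈ E3) : afn ω0 x = ωf 1 x := by rw [afn_apply _ hx]; rfl

theorem inl_afn_j (α : MulAut Js) (v : V) : inl (afn α (inl v)).j = afn α (inl v) :=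
  (eq_inl (afn_mem α (inl_mem v))).symm

/-- Restriction to `V`. -/
noncomputable def rj : MulAut Js ≃* GV where
  toFun α := mkA (fun v => (afn α (inl v)).j) (fun v => (afn α⁻¹ (inl v)).j)
    (fun v => by rw [inl_afn_j, afn_inv_afn _ (inl_mem v)]; rfl)
    (fun v => by rw [inl_afn_j, afn_afn_inv _ (inl_mem v)]; rfl)
    fun v w => inl_inj (by rw [inl_afn_j, inl_add, inl_add, inl_afn_j, inl_afn_j, homOn_afn α _ (inl_mem v) _ (inl_mem w)])
  invFun γ :=
    { toFun := fun x => ⟨inl (γ x.1.j), rfl⟩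
      invFun := fun x => ⟨inl (γ⁻¹ x.1.j), rfl⟩
      left_inv := fun x => Subtype.ext (by simpa using (eq_inl x.2).symm)
      right_inv := fun x => Subtype.ext (by simpa using (eq_inl x.2).symm)
      map_mul' := fun x y => Subtype.ext (by
        have : x.1.u = 1 := x.2
        simp [this, act_one, inl_add]) }
  left_inv α := MulEquiv.ext fun x => Subtype.ext (by
    change inl (afn α (inl x.1.j)).j = _
    rw [inl_afn_j, ← eq_inl x.2, afn_apply _ x.2])
  right_inv γ := LinearEquiv.ext fun v => by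
    change (afn _ (inl v)).j = _
    rw [afn_apply _ (inl_mem v)]; rfl
  map_mul' α β := LinearEquiv.ext fun v => by
    change (afn _ (inl v)).j = (afn α (inl (afn β (inl v)).j)).j
    rw [inl_afn_j, afn_mul _ _ (inl_mem v)]

theorem inl_rj (α : MulAut Js) (v : V) : inl (rj α v) = afn α (inl v) := inl_afn_j α v

/-- The image of `U` in `GL(V)`. -/
def U0 : Subgroup (GV) := ρ.range

/-- The automizer of `J`. -/
noncomputable def Gam (F : FusionSystem (⊤ : Subgroup S)) : Subgroup (GV) := (F.autGroup Js).map rj.toMonoidHom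

theorem mem_Gam {F : FusionSystem (⊤ : Subgroup S)} {γ : GV} :
    γ ∈ Gam F ↔ IsMap F Js fun x => inl (γ x.j) := by
  constructor
  · rintro ⟨α, h, rfl⟩
    exact ((mem_autGroup le_top).1 h).congr fun x hx => by
      rw [MulEquiv.coe_toMonoidHom, inl_rj, ← eq_inl hx]
  · intro h
    refine ⟨rj.symm γ, mem_autGroup_of_isMap h fun x hx => ?_, rj.apply_symm_apply γ⟩
    rw [eq_inl hx, ← inl_rj, rj.apply_symm_apply]; rfl

/-- `SL₃(3)` -/
def ΓL : Subgroup (GV) := closure {ρ x1, ρ x2, y1, y2}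
/-- `SL₃(3) × 2` -/
def ΓL2 : Subgroup (GV) := closure {ρ x1, ρ x2, y1, y2, ng}
/-- `2.M₁₂` -/
def ΓM : Subgroup (GV) := closure {ρ x1, ρ x2, c1 1, y2}

/-- The standing hypotheses on `Γ = Aut_F(J)`. -/
structure GH (Γ : Subgroup (GV)) : Prop where
  le : U0 ≤ Γ
  syl : SylIn 3 U0 Γ
  t3 : t3 ∈ Γ
  bor : ∀ γ ∈ Γ, (∀ u ∈ U0, γ * u * γ⁻¹ ∈ U0) → ∃ (u : Hs) (e1 e2 e3 : Kˣ), γ = ρ u * tV e1 e2 e3

/-- Normal form of the automizer of `S`. -/
def Form (A₀ : Subgroup (MulAut S)) : Prop :=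
  ∀ φ ∈ A₀, ∃ (g : S) (e1 e2 e3 : Kˣ), φ = MulAut.conj g * tS e1 e2 e3

/-- Normal form of a fusion system. -/
structure NF (F : FusionSystem (⊤ : Subgroup S)) : Prop where
  sat : F.IsSaturated 3
  form : Form (AS F)
  t3 : tS 1 (-1) 1 ∈ AS F
  ω : ω0 ∈ F.autGroup E3

/-- Some conjugate of `e1²` has a regular `U`-orbit. -/
def Pi (Γ : Subgroup (GV)) : Prop := ∃ γ ∈ Γ, ∀ u : Hs, act u (γ ep) = γ ep → u = 1

/-- The data of an essential subgroup: `A` its automizer, `H` the strongly embedded subgroup. -/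
structure Es (E : Subgroup S) (A H : Subgroup (MulAut E)) : Prop where
  cen : ∀ x, (∀ y ∈ E, y * x = x * y) → x ∈ E
  le : autInducedBy ⊤ E ≤ A
  syl : SylIn 3 (autInducedBy ⊤ E) A
  ne : ¬ A ≤ H
  se : ∀ α ∈ A, ∀ β ∈ autInducedBy ⊤ E, β ∉ Inn E → α * β * α⁻¹ ∈ autInducedBy ⊤ E → α ∈ H

/-- The linear data attached to an essential subgroup `E` not containing `J` and `α ∈ A \ H`: `W = E ∩ J`, `R = EJ/J`,
`R' = α(W) J/J`, `D = W ∩ α(W)`. -/
structure LD (W D : AddSubgroup V) (R R' : Subgroup Hs) : Prop where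
  cen : ∀ v, (∀ u ∈ R, act u v = v) → v ∈ W
  invW : ∀ u ∈ R, ∀ v ∈ W, act u v ∈ W
  invD : ∀ u ∈ R, ∀ v ∈ D, act u v ∈ D
  le : D ≤ W
  leR : R' ≤ R
  nrm : ∀ u ∈ R, ∀ x ∈ R', u * x * u⁻¹ ∈ R'
  comm : ∀ x ∈ R', ∀ y ∈ R', x * y = y * x
  fix : ∀ x ∈ R', ∀ v ∈ D, act x v = v
  cm : ∀ x ∈ R', ∀ v ∈ W, act x v - v ∈ D
  card : Nat.card W = Nat.card D * Nat.card R'
  ne : W ≠ ⊤
  hF : ∀ j, j ∉ W → (∀ u ∈ R, act u j - j ∈ W) → ∃ x ∈ R', act x j - j ∉ D
  hT : ∀ j1 j2, (∀ u ∈ R, act u j1 - j1 ∈ W) → (∀ u ∈ R, act u j2 - j2 ∈ W) →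
    j1 ∉ W → j2 ∉ W → j1 + j2 ∉ W → j1 - j2 ∉ W → ∀ x ∈ R', x ≠ 1 → act x j1 - j1 ∉ D
  hK : ∀ j, j ∉ W → ∃ u ∈ R, act u j - j ∉ AddSubgroup.closure {y | ∃ x ∈ R, ∃ v ∈ W, y = act x v - v}

/-- The orbit `± Γ e1²`. -/
def Orb (Γ : Subgroup GV) : Set V := {v | ∃ γ ∈ Γ, v = γ ep ∨ v = -γ ep}

/-- `γ` normalizes `ρ R`. -/
def Nm (R : Subgroup Hs) (γ : GV) : Prop := ∀ u ∈ R, ∃ u' ∈ R, γ * ρ u * γ⁻¹ = ρ u'

/-- The parabolic subgroup fixing `e1`. -/
def PZ : Subgroup GV := closure {ρ x1, ρ x2, y2, t2, t3}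

/-- The square `(a e1 + b e2 + c e3)²`. -/
def sq (a b c : K) : V := ⟨a * a, a * b, a * c, b * b, b * c, c * c⟩

/-- Labels of the orbits of `⟨U, t3, -1⟩` on `V`.  Representatives `p q r s t w` (number of points):
0: 000001 (9), 1: 000010 (27), 2: 000011 (27), 3: 000100 (3), 4: 000101 (27), 5: 001000 (9), 6: 001001 (9), 7: 001100 (18),
8: 001101 (27), 9: 001102 (27), 10: 001110 (54), 11: 001111 (27), 12: 001112 (27), 13: 001121 (27), 14: 010000 (3),
15: 010011 (27), 16: 010100 (3), 17: 100000 (1), 18: 100001 (9), 19: 100100 (3), 20: the zero vector. -/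
def lab (v : V) : ℕ :=
  (0x919ad6ad6b5ad60919ad6b5ad5ad723008c4208c411882308c4208c2310462188209e97a44f489e9109e97a44913d227bd225ad60919ad682466b5ab5adad6ad6b918082308c4208c2310823104611882310c411e9109e97a4427a5e913d22489e913de91208c41184621046208c231046208c431047a44f4884f4bd227a4427a5227a44f7a44d6b56b582466b5ab5ac12335ad5ad7230088630882218c220886110c6110c2210c235ad900cb5ae4032d6b6b5ab5adad69a404bc4f1252f13c494bc49788497892f4bc4c220886110c2218c2208863088611086124032d6b6b5ad6b64032d6b5ad6d6b4d203c494bc497892f13c494bc424bc497a5e24bc49789e24a5e24bc4f124497892f4bc444308863088221844318443088611086116b5b5ad900cb5adad6c8065ad6d6b4d20054a5282a0a94a0854a5054a5054a0a9415282a0a82a5282a528215294a0a9415282a0a82a529410a94a0a94a0a9415282a5054a0854a505415294a0a82a5282a5054a0a82a528215294a0a82a0a94a5054a0a9410a94a0a94a0a82a0a94a5054a0a9415282739ce739ce739ce739ce738e701ce1380ce739ce739ce739ce739ce798e131c213194a5294a5294a5294a5294ae739ce74634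
    >>> (5 * (v.p.val + 3 * v.q.val + 9 * v.r.val + 27 * v.s.val + 81 * v.t.val + 243 * v.w.val))) % 32

/-- Labels of `Orb ΓL` (the Veronese surface, `13` points). -/
def LL : List ℕ := [0, 3, 17]
/-- Labels of `Orb ΓM` (`220` points). -/
def LM : List ℕ := [0, 3, 4, 7, 9, 10, 11, 13, 15, 17]

/-- `f` embeds `S` as a Sylow subgroup of `G`, with enough fusion to make the core trivial. -/
structure Md {G : Type} [Group G] (f : S →* G) : Prop where
  inj : Function.Injective f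
  syl : ¬ 3 ∣ f.range.index
  fus : ∃ g v, v.w ≠ 0 ∧ g * f (inl ep) * g⁻¹ = f (inl v)
  out : ∃ g v x, x ∉ Js ∧ g * f (inl v) * g⁻¹ = f x

end Cfsg.Agent.C3F
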