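import Cfsg.Agent.C3F.Tool

/-! The linear data of an essential subgroup not containing `J` (for S5227).
Notation: `J_E = E ⊓ Js = up W`, `J' = Jp α = α(J_E)` (abelian, normal in `E`, of the same order), `D = dn J'`,
`R = E.map πu`, `R' = J'.map πu`.  For `j` with `act u j - j ∈ W` for all `u ∈ R`, `inl j` normalizes `E` (`comm_inl_eq`)
and `Es.exists_cj` gives `c_j ∈ T`, not inner if `j ∉ W`; `[E, c_j] ≤ J_E`, `[J_E, c_j] = 1`, hence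
`[E, α c_j α⁻¹] ≤ J'`, `[J', α c_j α⁻¹] = 1`. -/

set_option autoImplicit false
set_option linter.unusedSimpArgs false

namespace Cfsg.Agent.C3F

open Subgroup Cfsg.Agent.Fus Cfsg.FusionSystem Cfsg.Agent.SpF

variable {E : Subgroup S} {A H : Subgroup (MulAut E)}

/-- The image of `E ∩ J`. -/
noncomputable def Jp (α : MulAut E) : Subgroup S := img (E ⊓ Js) (afn α)

theorem esa_comm {a b : S} (ha : a ∈ Js) (hb : b ∈ Js) : a * b = b * a := by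
  rw [eq_inl ha, eq_inl hb, ← inl_add, add_comm, inl_add]

theorem esa_cm (y : S) (v : V) : inl (act y.u v - v) = y * inl v * y⁻¹ * (inl v)⁻¹ := by
  rw [conj_inl, ← inl_neg, ← inl_add, sub_eq_add_neg]

theorem esa_neg {X : Subgroup S} {a b : V} (h : a - b ∈ dn X) : inl (b - a) ∈ X :=
  neg_sub a b ▸ (dn X).neg_mem h

theorem mem_Jp {α : MulAut E} {y : S} : y ∈ Jp α ↔ ∃ x ∈ E, x ∈ Js ∧ afn α x = y :=
  ((homOn_afn α).mem_img_of_le inf_le_left).trans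
    ⟨fun ⟨x, hx, e⟩ => ⟨x, hx.1, hx.2, e⟩, fun ⟨x, a, b, e⟩ => ⟨x, ⟨a, b⟩, e⟩⟩
theorem mem_Jp' {α : MulAut E} {y : S} : y ∈ Jp α ↔ y ∈ E ∧ afn α⁻¹ y ∈ Js :=
  mem_Jp.trans ⟨fun ⟨x, a, b, e⟩ => e ▸ ⟨afn_mem α a, (afn_inv_afn α a).symm ▸ b⟩,
    fun h => ⟨_, afn_mem _ h.1, h.2, afn_afn_inv α h.1⟩⟩
theorem Jp_le (α : MulAut E) : Jp α ≤ E := fun _ h => (mem_Jp'.1 h).1
theorem Jp_comm (α : MulAut E) : ∀ x ∈ Jp α, ∀ y ∈ Jp α, x * y = y * x := fun x hx y hy => by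
  obtain ⟨a, ha, ha', rfl⟩ := mem_Jp.1 hx
  obtain ⟨b, hb, hb', rfl⟩ := mem_Jp.1 hy
  rw [← homOn_afn α a ha b hb, esa_comm ha' hb', homOn_afn α b hb a ha]
theorem Jp_conj (α : MulAut E) : ∀ g ∈ E, ∀ x ∈ Jp α, g * x * g⁻¹ ∈ Jp α := fun g hg x hx => by
  obtain ⟨a, b⟩ := mem_Jp'.1 hx
  refine mem_Jp'.2 ⟨mul_mem (mul_mem hg a) (inv_mem hg), ?_⟩
  rw [(homOn_afn _).map_conj hg a]
  exact Normal.conj_mem inferInstance _ b _
theorem card_Jp (α : MulAut E) : Nat.card (Jp α) = Nat.card (dn E) := by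
  rw [Jp, card_img_of_injOn ((homOn_afn α).mono inf_le_left) fun x hx y hy e => by
    rw [← afn_inv_afn α hx.1, e, afn_inv_afn α hy.1], ← card_up]
  congr 2
  ext x
  exact ⟨fun h => ⟨h.2, show inl x.j ∈ E from eq_inl h.2 ▸ h.1⟩,
    fun h => ⟨eq_inl (x := x) h.1 ▸ h.2, h.1⟩⟩

/-- `[J_E, J'] ≤ J_E ∩ J'`. -/
theorem Jp_cm (α : MulAut E) : ∀ x ∈ (Jp α).map πu, ∀ v ∈ dn E, act x v - v ∈ dn (Jp α) := by
  rintro _ ⟨y, hy, rfl⟩ v hv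
  rw [mem_dn, πu_apply, esa_cm, mul_assoc, mul_assoc, ← mul_assoc (inl v)]
  exact mul_mem hy (Jp_conj α _ hv _ (inv_mem hy))

/-- The automorphisms `c_j` and their conjugates. -/
theorem Es.cj (h : Es E A H) {j : V} (hj : ∀ u ∈ E.map πu, act u j - j ∈ dn E) (hj' : j ∉ dn E) (α : MulAut E) :
    ∃ β ∈ autInducedBy ⊤ E, β ∉ Inn E ∧ (∀ x ∈ E, afn β x * x⁻¹ = inl (j - act x.u j)) ∧
      (∀ x ∈ E, afn (α * β * α⁻¹) x * x⁻¹ ∈ Jp α) ∧ ∀ x ∈ Jp α, afn (α * β * α⁻¹) x = x := by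
  have m : ∀ x ∈ E, inl (j - act x.u j) ∈ E := fun x hx => esa_neg (hj _ ⟨x, hx, rfl⟩)
  obtain ⟨β, h1, h2, h3⟩ := h.exists_cj (g := inl j) fun x hx =>
    (mul_mem_cancel_right (inv_mem hx)).1 (comm_inl_eq j x ▸ m x hx)
  have e : ∀ x ∈ E, afn β x * x⁻¹ = inl (j - act x.u j) := fun x hx => by rw [h2 x hx, comm_inl_eq]
  refine ⟨β, h1, fun c => hj' (h3 c), e, fun x hx => ?_, fun x hx => ?_⟩
  · have y := afn_mem α⁻¹ hx
    refine mem_Jp.2 ⟨_, m _ y, inl_mem _, ?_⟩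
    rw [← e _ y, homOn_afn α _ (afn_mem β y) _ (inv_mem y), (homOn_afn α).map_inv y, afn_afn_inv α hx,
      afn_mul _ _ hx, afn_mul _ _ y]
  · obtain ⟨a, ha, ha', rfl⟩ := mem_Jp.1 hx
    rw [afn_mul _ _ (afn_mem α ha), afn_inv_afn α ha, afn_mul _ _ ha, h2 a ha, esa_comm (inl_mem j) ha',
      mul_inv_cancel_right]

/-- `hF`: otherwise `β = c_j` and `α β α⁻¹` both stabilize the chain `[J' ⊓ Js, J', M]`, `M = {x ∈ S | x.u ∈ R'} = R'.comap πu`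
(for `x ∈ E ∩ M`, `β x x⁻¹ = inl (j - act x.u j) ∈ up D`); `chn_pgroup`, `tool3`. -/
theorem Es.hF (h : Es E A H) {α : MulAut E} (hα : α ∈ A) (hα' : α ∉ H) {j : V} (hj' : j ∉ dn E)
    (hj : ∀ u ∈ E.map πu, act u j - j ∈ dn E) : ∃ x ∈ (Jp α).map πu, act x j - j ∉ dn (Jp α) := by
  by_contra! c
  obtain ⟨β, h1, h2, h3, h4, h5⟩ := h.cj hj hj' α
  refine hα' (h.tool3 hα h1 h2 h1 h2 (chn_pgroup (l := [Jp α ⊓ Js, Jp α, ((Jp α).map πu).comap πu])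
    ⟨bot_le, fun y hy k => ?_, inf_le_left, fun y hy k => ?_, le_comap_map _ _, fun y hy k => ?_, fun y hy => ?_⟩
    ⟨bot_le, fun y hy k => ?_, inf_le_left, fun y hy k => ?_, le_comap_map _ _, fun y hy _ => h4 y hy,
      fun y hy => le_comap_map _ _ (h4 y hy)⟩))
  · rw [h3 y hy, mem_Js.1 k.2, act_one, sub_self]; exact one_mem _
  · rw [h3 y hy]; exact ⟨esa_neg (c _ ⟨y, k, rfl⟩), inl_mem _⟩
  · rw [h3 y hy]; exact esa_neg (c _ k)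
  · rw [h3 y hy]; exact one_mem ((Jp α).map πu)
  · rw [h5 y k.1, mul_inv_cancel]; exact one_mem _
  · rw [h5 y k, mul_inv_cancel]; exact one_mem _

/-- `hK`: otherwise `c_j` is trivial on `E/E'` (`inl (act x v - v)` is a commutator in `E`); `Es.burn`. -/
theorem Es.hK (h : Es E A H) {j : V} (hj' : j ∉ dn E) : ∃ u ∈ E.map πu,
    act u j - j ∉ AddSubgroup.closure {y | ∃ x ∈ E.map πu, ∃ v ∈ dn E, y = act x v - v} := by
  by_contra! c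
  have k : AddSubgroup.closure {y | ∃ x ∈ E.map πu, ∃ v ∈ dn E, y = act x v - v} ≤ dn ⁅E, E⁆ := by
    rw [AddSubgroup.closure_le]
    rintro _ ⟨_, ⟨x, hx, rfl⟩, v, hv, rfl⟩
    exact show inl (act x.u v - v) ∈ ⁅E, E⁆ from esa_cm x v ▸ commutator_mem_commutator hx hv
  obtain ⟨β, h1, h2, h3, -⟩ := h.cj (fun u hu => (commutator_le.2 fun a ha b hb =>
    mul_mem (mul_mem (mul_mem ha hb) (inv_mem ha)) (inv_mem hb) : ⁅E, E⁆ ≤ E) (k (c u hu))) hj' 1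
  exact h.burn h1 h2 fun y hy => h3 y hy ▸ esa_neg (k (c _ ⟨y, hy, rfl⟩))

end Cfsg.Agent.C3F
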