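import Cfsg.Agent.C3F.LA1

/-! Linear algebra for `LD`, the case `R' = ⟨x⟩` of order `3` (for S5227).  `n v = act x v - v`,
`N = {j | ∀ u ∈ R, act u j - j ∈ W}`; `|W| = 3 |D|`, `n D = 0`, `n W ≤ D`, and by `hF` (if `n j ∈ D` then also
`act x⁻¹ j - j ∈ D`, `invD`) `n j ∉ D` for `j ∈ N \ W`.  `x` is central in `R` (`nrm`: `u x u⁻¹` has the same `a, b`, and
`u x u⁻¹ = x⁻¹` is impossible). -/

set_option autoImplicit false
set_option linter.unusedSimpArgs false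
set_option linter.unusedVariables false

namespace Cfsg.Agent.C3F

open Subgroup Cfsg.Agent.Fus Cfsg.FusionSystem Cfsg.Agent.SpF

variable {W D : AddSubgroup V} {R R' : Subgroup Hs} {x : Hs}

/-- `D + K d` -/
def la2_adj (D : AddSubgroup V) (d : V) : AddSubgroup V where
  carrier := {v | ∃ k : K, v - k • d ∈ D}
  zero_mem' := ⟨0, by simp⟩
  add_mem' := fun ⟨k, a⟩ ⟨l, b⟩ => ⟨k + l, by convert add_mem a b using 1; rw [add_smul]; abel⟩
  neg_mem' := fun ⟨k, a⟩ => ⟨-k, by convert neg_mem a using 1; rw [neg_smul]; abel⟩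

theorem la2_adj_le (D : AddSubgroup V) (d : V) : Nat.card (la2_adj D d) ≤ 3 * Nat.card D := by
  have c : Nat.card (K × D) = 3 * Nat.card D := by simp
  rw [← c]
  refine Nat.card_le_card_of_surjective (fun y : K × D => (⟨y.2 + y.1 • d, y.1, by simp⟩ : la2_adj D d)) ?_
  rintro ⟨v, k, hk⟩
  exact ⟨(k, ⟨_, hk⟩), Subtype.ext (by simp)⟩

theorem la2_sq {a : K} (h : a ≠ 0) : a * a = 1 := by revert a; decide

theorem LD.la2_x (h : LD W D R R') (hR : ∀ u, u ∈ R' ↔ u = 1 ∨ u = x ∨ u = x⁻¹) : x ∈ R :=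
  h.leR ((hR x).2 (.inr (.inl rfl)))

theorem LD.la2_dec (h : LD W D R R') (hx : x ≠ 1) (hR : ∀ u, u ∈ R' ↔ u = 1 ∨ u = x ∨ u = x⁻¹) {d : V} (h1 : d ∈ W)
    (h2 : d ∉ D) {v : V} (hv : v ∈ W) : ∃ k : K, v - k • d ∈ D := by
  have c := h.card
  rw [card_cyc hx hR] at c
  have l1 : D ≤ la2_adj D d := fun v hv => ⟨0, by simpa using hv⟩
  have l2 : la2_adj D d ≤ W := fun v ⟨k, hk⟩ => by simpa using add_mem (h.le hk) (smul_mem3 k h1)
  have l3 : Nat.card D < Nat.card (la2_adj D d) := lt_of_le_of_ne (AddSubgroup.card_le_of_le l1) fun e =>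
    h2 (AddSubgroup.eq_of_le_of_card_ge l1 e.ge ▸ (⟨1, by simp⟩ : d ∈ la2_adj D d))
  obtain ⟨a, -, ha⟩ := card_sub D
  obtain ⟨b, -, hb⟩ := card_sub (la2_adj D d)
  rw [ha, hb] at l3
  have l4 := Nat.pow_le_pow_right (show 0 < 3 by norm_num) (Nat.succ_le_of_lt ((Nat.pow_lt_pow_iff_right (by norm_num)).1 l3))
  have e : la2_adj D d = W := AddSubgroup.eq_of_le_of_card_ge l2 (by rw [c, ha, hb]; exact l4)
  rw [← e] at hv
  exact hv

theorem LD.nD (h : LD W D R R') (hR : ∀ u, u ∈ R' ↔ u = 1 ∨ u = x ∨ u = x⁻¹) {j : V} (h1 : j ∉ W)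
    (h2 : ∀ u ∈ R, act u j - j ∈ W) : act x j - j ∉ D := fun k => by
  obtain ⟨y, hy, k'⟩ := h.hF j h1 h2
  rcases (hR y).1 hy with rfl | rfl | rfl
  · exact k' (by rw [act_one, sub_self]; exact zero_mem _)
  · exact k' k
  · have := neg_mem (h.invD _ (h.leR hy) _ k)
    rw [act_sub, ← act_mul, inv_mul_cancel, act_one, neg_sub] at this
    exact k' this

/-- `N/W` has order at most `3`: `n j1, n j2 ∈ W \ D` and `|W : D| = 3`, so `n (j1 + j2)` or `n (j1 - j2)` lies in `D`. -/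
theorem LD.two (h : LD W D R R') (hx : x ≠ 1) (hR : ∀ u, u ∈ R' ↔ u = 1 ∨ u = x ∨ u = x⁻¹) {j1 j2 : V}
    (h1 : ∀ u ∈ R, act u j1 - j1 ∈ W) (h2 : ∀ u ∈ R, act u j2 - j2 ∈ W) :
    j1 ∈ W ∨ j2 ∈ W ∨ j1 + j2 ∈ W ∨ j1 - j2 ∈ W := by
  by_contra k
  push Not at k
  obtain ⟨a, b, c, d⟩ := k
  have xR := h.la2_x hR
  obtain ⟨k, hk⟩ := h.la2_dec hx hR (h1 x xR) (h.nD hR a h1) (h2 x xR)
  rcases K3 k with rfl | rfl | rfl
  · rw [zero_smul, sub_zero] at hk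
    exact h.nD hR b h2 hk
  · refine h.nD hR d (fun u hu => ?_) ?_
    · have := sub_mem (h1 u hu) (h2 u hu)
      rw [act_sub]; convert this using 1; abel
    · have := neg_mem hk
      rw [act_sub]; convert this using 1; rw [one_smul]; abel
  · refine h.nD hR c (fun u hu => ?_) ?_
    · have := add_mem (h1 u hu) (h2 u hu)
      rw [act_add]; convert this using 1; abel
    · rw [act_add]; convert hk using 1; rw [neg_smul, one_smul]; abel

/-- If `d ∈ W \ D` then `W = D + ⟨d⟩`. -/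
theorem LD.dec (h : LD W D R R') (hx : x ≠ 1) (hR : ∀ u, u ∈ R' ↔ u = 1 ∨ u = x ∨ u = x⁻¹) {d : V} (h1 : d ∈ W)
    (h2 : d ∉ D) {v : V} (hv : v ∈ W) : ∃ k : K, v - k • d ∈ D := h.la2_dec hx hR h1 h2 hv

theorem LD.la2_N (h : LD W D R R') (hx : x ≠ 1) (hR : ∀ u, u ∈ R' ↔ u = 1 ∨ u = x ∨ u = x⁻¹) {j v : V}
    (h0 : j ∉ W) (h1 : ∀ u ∈ R, act u j - j ∈ W) (h2 : ∀ u ∈ R, act u v - v ∈ W) : ∃ k : K, v - k • j ∈ W := by
  rcases h.two hx hR h1 h2 with k | k | k | k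
  · exact absurd k h0
  · exact ⟨0, by rwa [zero_smul, sub_zero]⟩
  · exact ⟨-1, by rwa [neg_smul, one_smul, sub_neg_eq_add, add_comm]⟩
  · exact ⟨1, by rw [one_smul, ← neg_sub]; exact neg_mem k⟩

theorem LD.la2_card (h : LD W D R R') (hx : x ≠ 1) (hR : ∀ u, u ∈ R' ↔ u = 1 ∨ u = x ∨ u = x⁻¹) {X : AddSubgroup V}
    (hX : ∀ v ∈ X, ∀ u ∈ R, act u v - v ∈ W) : Nat.card X ≤ 9 * Nat.card D := by
  have c := h.card
  rw [card_cyc hx hR] at c
  by_cases k : X ≤ W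
  · have := AddSubgroup.card_le_of_le k
    omega
  · obtain ⟨j, hj, k⟩ := SetLike.not_le_iff_exists.1 k
    have h1 := AddSubgroup.card_le_of_le (show X ≤ la2_adj W j from fun v hv => h.la2_N hx hR k (hX j hj) (hX v hv))
    have h2 := la2_adj_le W j
    omega

theorem LD.la2_fix (h : LD W D R R') (hx : x ≠ 1) (hR : ∀ u, u ∈ R' ↔ u = 1 ∨ u = x ∨ u = x⁻¹) : Nat.card D ≤ 27 :=
  card_fix hx (h.fix x ((hR x).2 (.inr (.inl rfl))))

theorem LD.la2_all (h : LD W D R R') (hx : x ≠ 1) (hR : ∀ u, u ∈ R' ↔ u = 1 ∨ u = x ∨ u = x⁻¹) :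
    ¬ ∀ v, ∀ u ∈ R, act u v - v ∈ W := fun k => by
  have h1 := h.la2_card hx hR (X := ⊤) fun v _ => k v
  have h2 := h.la2_fix hx hR
  rw [AddSubgroup.card_top, V.card] at h1
  omega

theorem LD.la2_cen (h : LD W D R R') (hx : x ≠ 1) (hR : ∀ u, u ∈ R' ↔ u = 1 ∨ u = x ∨ u = x⁻¹) {u : Hs} (hu : u ∈ R) :
    u.a * x.b = u.b * x.a :=
  (by decide +kernel : ∀ u x : Hs, x ≠ 1 → (u * x * u⁻¹ = 1 ∨ u * x * u⁻¹ = x ∨ u * x * u⁻¹ = x⁻¹) →
    u.a * x.b = u.b * x.a) u x hx ((hR _).1 (h.nrm u hu x ((hR x).2 (.inr (.inl rfl)))))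

theorem LD.la2_ep (h : LD W D R R') : ep ∈ W := h.cen _ fun u _ => act_ep u

theorem la2_wit : ∀ x : Hs, x ≠ 1 → ∃ j1 ∈ [eq', er, et, et + es, et - es], ∃ j2 ∈ [eq', er, et, et + es, et - es],
    act x (act x j1 - j1) = act x j1 - j1 ∧ act x (act x j2 - j2) = act x j2 - j2 ∧ act x j1 ≠ j1 ∧ act x j2 ≠ j2 ∧
      act x (j1 + j2) ≠ j1 + j2 ∧ act x (j1 - j2) ≠ j1 - j2 := by decide +kernel

theorem la2_unit {D : AddSubgroup V} {k : K} (hk : k ≠ 0) {v : V} (h : k • v ∈ D) : v ∈ D := by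
  have := smul_mem3 k⁻¹ h
  rwa [smul_smul, inv_mul_cancel₀ hk, one_smul] at this

/-- `R = ⟨x⟩`: `D ≤ ker n ≤ W` (`cen`), so (`dec`) `ker n = W` or `ker n = D`.  If `ker n = W`: there are `j1, j2 ∈ ker n²` with
`j1, j2, j1 ± j2 ∉ ker n` (`decide +kernel` over the `26` elements; or witnesses by cases), contradicting `two`.
If `ker n = D`: `|W| ≤ 81` (`card_fix`), and `N = n⁻¹ W ≠ V` (else `two` shows `|V : W| ≤ 3`; concretely `V` would be the union of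
three cosets of `W`); take `v ∉ N` with `n v ∈ N` (`n³ = 0`, `n3_zero`); `j = n v ∈ N \ W` and `n j ∈ ker n = D`, contradicting `nD`. -/
theorem LD.not_cyc1 (h : LD W D R R') (hx : x ≠ 1) (hR : ∀ u, u ∈ R' ↔ u = 1 ∨ u = x ∨ u = x⁻¹) : R ≠ R' := by
  rintro rfl
  have xR := h.la2_x hR
  have cen : ∀ v, act x v = v → v ∈ W := fun v k => h.cen v fun u hu => by
    rcases (hR u).1 hu with rfl | rfl | rfl
    exacts [act_one v, k, by conv_lhs => rw [← k, ← act_mul, inv_mul_cancel, act_one]]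
  have hN : ∀ v, act x v - v ∈ W → ∀ u ∈ R, act u v - v ∈ W := fun v k u hu => by
    rcases (hR u).1 hu with rfl | rfl | rfl
    · rw [act_one, sub_self]; exact zero_mem _
    · exact k
    · have := neg_mem (h.invW _ hu _ k)
      rwa [act_sub, ← act_mul, inv_mul_cancel, act_one, neg_sub] at this
  by_cases k : ∀ d, act x d = d → d ∈ D
  · refine h.la2_all hx hR fun v => hN v (by_contra fun c => ?_)
    have := k _ (n3_zero x v)
    exact h.nD hR c (hN _ (h.le this)) this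
  · push Not at k
    obtain ⟨d, d1, d2⟩ := k
    have fx : ∀ v ∈ W, act x v = v := fun v hv => by
      obtain ⟨k, hk⟩ := h.dec hx hR (cen d d1) d2 hv
      have := h.fix x xR _ hk
      rwa [act_sub, act_smul, d1, sub_left_inj] at this
    obtain ⟨j1, -, j2, -, a1, a2, b1, b2, b3, b4⟩ := la2_wit x hx
    rcases h.two hx hR (hN j1 (cen _ a1)) (hN j2 (cen _ a2)) with k | k | k | k
    exacts [b1 (fx _ k), b2 (fx _ k), b3 (fx _ k), b4 (fx _ k)]

/-- `R` non-cyclic (`zz ∈ R`, `ep ∈ W`), case `eq' ∉ W`: `eq' ∈ N`, `n eq' = 2 a ep ∉ D`, so `a ≠ 0`, `ep ∉ D`.  `D` is invariant under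
`zz` and `x` and fixed by `x`; if `D ≠ 0`, applying `[·, zz]` gives a nonzero vector of `D` fixed by both, in `Zv` (`fix_zz_a`); so `D = 0`,
`W = Zv`.  `R ≠ ⊤` (`x` central, `a ≠ 0`), `R ≠ Aln`; for `R = Apt` resp. `{b = e a}`, `two` fails for `eq'` and `er` resp. `er - e es`. -/
theorem LD.caseA (h : LD W D R R') (hx : x ≠ 1) (hR : ∀ u, u ∈ R' ↔ u = 1 ∨ u = x ∨ u = x⁻¹) (hz : zz ∈ R)
    (hn : ∃ u ∈ R, u.a ≠ 0 ∨ u.b ≠ 0) : eq' ∈ W := by
  by_contra c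
  have xR' : x ∈ R' := (hR x).2 (.inr (.inl rfl))
  have e1 : ∀ u, act u eq' - eq' = (2 * u.a) • ep := fun u => by ext <;> simp [act, eq', ep]
  have n1 : ∀ u ∈ R, act u eq' - eq' ∈ W := fun u _ => e1 u ▸ smul_mem3 _ h.la2_ep
  have n2 := h.nD hR c n1
  rw [e1] at n2
  have ha : x.a ≠ 0 := fun k => n2 (by rw [k, mul_zero, zero_smul]; exact zero_mem _)
  have hp : ep ∉ D := fun k => n2 (smul_mem3 _ k)
  have k1 : ∀ v ∈ D, act zz v = v → v = 0 := fun v hv k => by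
    rcases mem_Zv_iff.1 (fix_zz_a ha k (h.fix x xR' v hv)) with e | e | e
    exacts [e, absurd (e ▸ hv) hp, absurd (neg_mem_iff.1 (e ▸ hv)) hp]
  have k2 : ∀ v ∈ D, v = 0 := fun v hv => by
    have v1 := sub_mem (h.invD zz hz v hv) hv
    have v2 := sub_mem (h.invD zz hz _ v1) v1
    exact k1 v hv (sub_eq_zero.1 (k1 _ v1 (sub_eq_zero.1 (k1 _ v2 (n3_zero zz v)))))
  have k3 : ∀ v ∈ W, v.r = 0 := fun v hv => by
    obtain ⟨k, hk⟩ := h.dec hx hR h.la2_ep hp hv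
    simpa [ep] using congrArg V.r (k2 _ hk)
  have n3 : ∀ u ∈ R, act u (er - (x.b * x.a) • es) - (er - (x.b * x.a) • es) ∈ W := fun u hu => by
    have := h.la2_cen hx hR hu
    have e : act u (er - (x.b * x.a) • es) - (er - (x.b * x.a) • es) = (2 * u.c - x.b * x.a * u.a ^ 2) • ep := by
      have := la2_sq ha
      ext <;> simp [act, er, es, ep] <;> grind
    exact e ▸ smul_mem3 _ h.la2_ep
  rcases h.two hx hR n1 n3 with k | k | k | k
  · exact c k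
  all_goals simpa [er, es, eq'] using k3 _ k

/-- Case `Z2v ≤ W`, `Z3v ⊄ W`.  `Z3v ≤ N`.  Take `j ∈ Z3v \ W`: `n j ∈ Z2v \ D`.
`R = Aln`: `V3 ≤ W`, `er ∉ W`, so `W ≤ J5` (else `[v, zz]` gives `er`); `J5 ≤ N`, by `two` (`er`, `et`) `et + k er ∈ W`, `|W| ≥ 81`,
`|D| ≥ 27`, `D ≤ V3` (`fix_of_Aln`) so `D = V3 ≥ Z2v`, absurd.
`R ≠ Aln` (some `u ∈ R` has `a ≠ 0`): `ep ∈ D`, `eq' ∉ D` (by `dec` with `d = n j`, `ep` or some `k eq' + l ep`, `k ≠ 0`, is in `D`;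
in the second case `[·, u]` gives `ep ∈ D`; and `Z2v ⊄ D`).  By `two` (`er`, `es`) some `g = λ er + μ es ≠ 0` is in `W`, by `dec` with
`d = eq'` some `g + ν eq' ∈ D`; invariance gives `b λ + a μ = 0` for all `u ∈ R` (the `q`-coordinate of `[g + ν eq', u] ∈ D ∩ Z2v = Zv`).
`R = ⊤`: absurd.  `R = Apt`: `μ = 0`, `Vp ≤ W`, `N = V`, so by `two` `|W| ≥ 243`, `|D| ≥ 81`, against `card_fix`.
`R = {b = e a}`: `f = er - e es ∈ W`, so `es ∉ W`, `n es ∉ D` gives `x.a ≠ 0`; `et ∈ N`, by `two` `et + κ es ∈ W`, so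
`et + κ es + ν eq' ∈ D` is fixed by `x`, but its `r`-coordinate moves by `x.a`. -/
theorem LD.caseB (h : LD W D R R') (hx : x ≠ 1) (hR : ∀ u, u ∈ R' ↔ u = 1 ∨ u = x ∨ u = x⁻¹) (hz : zz ∈ R)
    (hn : ∃ u ∈ R, u.a ≠ 0 ∨ u.b ≠ 0) (h2 : Z2v ≤ W) : Z3v ≤ W := by
  by_contra c
  have xR' : x ∈ R' := (hR x).2 (.inr (.inl rfl))
  have xR := h.leR xR'
  have z3 : ∀ j ∈ Z3v, ∀ u, act u j - j ∈ Z2v := fun j hj u => by rw [mem_Z3v] at hj; simp [act, hj]
  have n3 : ∀ j ∈ Z3v, ∀ u ∈ R, act u j - j ∈ W := fun j hj u _ => h2 (z3 j hj u)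
  have z2 : ¬ Z2v ≤ D := fun k => by
    obtain ⟨j, hj, c⟩ := SetLike.not_le_iff_exists.1 c
    exact h.nD hR c (n3 j hj) (k (z3 j hj x))
  by_cases ha : ∀ u ∈ R, u.a = 0
  · have v3 : V3 ≤ W := fun v hv => h.cen v fun u hu => api_Aln (ha u hu) hv
    have c1 := h.la2_card hx hR (X := J5) fun v hv u hu => v3 (by rw [mem_J5] at hv; simp [act, hv, ha u hu])
    rw [card_J5] at c1
    have e : D = V3 := AddSubgroup.eq_of_le_of_card_ge
      (fun v hv => (fix_of_Aln (ha x xR) hx).1 (h.fix x xR' v hv)) (by rw [card_V3]; omega)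
    exact z2 fun v hv => by rw [e]; rw [mem_Z2v] at hv; simp [hv]
  push Not at ha
  obtain ⟨u₁, hu₁, ha⟩ := ha
  have hq : eq' ∈ W := h2 (by simp [eq'])
  have hp : ep ∈ D := by
    by_contra hp
    obtain ⟨k, hk⟩ := h.dec hx hR h.la2_ep hp hq
    have := sub_mem (h.invD _ hu₁ _ hk) hk
    rw [show act u₁ (eq' - k • ep) - (eq' - k • ep) = (-u₁.a) • ep by ext <;> simp [act, eq', ep]; grind] at this
    exact hp (la2_unit (neg_ne_zero.2 ha) this)
  have hq' : eq' ∉ D := fun k => z2 fun v hv => by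
    rw [mem_Z2v] at hv
    rw [show v = v.p • ep + v.q • eq' by ext <;> simp [ep, eq', hv]]
    exact add_mem (smul_mem3 _ hp) (smul_mem3 _ k)
  have key : ∀ l m : K, l • er + m • es ∈ W → ∀ u ∈ R, u.b * l + u.a * m = 0 := fun l m k u hu => by
    obtain ⟨k, hk⟩ := h.dec hx hR hq hq' k
    have := sub_mem (sub_mem (h.invD _ hu _ hk) hk) (smul_mem3 (2 * u.c * l + u.a ^ 2 * m - 2 * u.a * k) hp)
    rw [show act u (l • er + m • es - k • eq') - (l • er + m • es - k • eq') -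
      (2 * u.c * l + u.a ^ 2 * m - 2 * u.a * k) • ep = (u.b * l + u.a * m) • eq' by
        ext <;> simp [act, eq', ep, er, es] <;> ring] at this
    by_contra c
    exact hq' (la2_unit c this)
  have hs : es ∉ W := fun k => ha (by simpa using key 0 1 (by simpa using k) u₁ hu₁)
  have n4 := n3 es (by simp [es])
  obtain ⟨m, hm⟩ := h.la2_N hx hR hs n4 (n3 er (by simp [er]))
  have hb := key 1 (-m) (by rwa [one_smul, neg_smul, ← sub_eq_add_neg])
  have xa : x.a ≠ 0 := fun k => h.nD hR hs n4 (by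
    rw [show act x es - es = 0 by ext <;> simp [act, es, k]]; exact zero_mem _)
  have n5 : ∀ u ∈ R, act u et - et ∈ W := fun u hu => by
    have := hb u hu
    rw [show act u et - et = (act u et - et - u.a • (er - m • es)) + u.a • (er - m • es) by abel]
    exact add_mem (h2 (by simp [act, et, er, es]; grind)) (smul_mem3 _ hm)
  obtain ⟨k, hk⟩ := h.la2_N hx hR hs n4 n5
  obtain ⟨l, hl⟩ := h.dec hx hR hq hq' hk
  exact xa (by simpa [act, et, es, eq'] using congrArg V.r (h.fix x xR' _ hl))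

/-- Case `Z3v ≤ W`: `|D| ≥ 27`, so `|D| = 27`, `W = Z3v` (`card_fix`).  `R = Apt`: `two` fails for `et, ew`.  Otherwise `x ∈ Aln`
(`R = ⊤`: central; `R = {b = e a}`: `card_fix_reg`), `D = V3` (`fix_of_Aln`), and `nD` fails for `j = et`. -/
theorem LD.caseC (h : LD W D R R') (hx : x ≠ 1) (hR : ∀ u, u ∈ R' ↔ u = 1 ∨ u = x ∨ u = x⁻¹) (hz : zz ∈ R)
    (hn : ∃ u ∈ R, u.a ≠ 0 ∨ u.b ≠ 0) : ¬ Z3v ≤ W := fun h3 => by
  have xR' : x ∈ R' := (hR x).2 (.inr (.inl rfl))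
  have c := h.card
  rw [card_cyc hx hR] at c
  have c1 := AddSubgroup.card_le_of_le h3
  have c2 := h.la2_fix hx hR
  rw [card_Z3v] at c1
  have e : Z3v = W := AddSubgroup.eq_of_le_of_card_ge h3 (by rw [card_Z3v]; omega)
  by_cases ha : x.a = 0
  · have e' : D = V3 := AddSubgroup.eq_of_le_of_card_ge
      (fun v hv => (fix_of_Aln ha hx).1 (h.fix x xR' v hv)) (by rw [card_V3]; omega)
    exact h.nD hR (j := et) (by rw [← e]; simp [et]) (fun u _ => h3 (by simp [act, et])) (by rw [e']; simp [act, et, ha])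
  · have hb : x.b = 0 := by
      by_contra hb
      have := card_fix_reg ha hb (h.fix x xR')
      omega
    refine h.la2_all hx hR fun v u hu => h3 ?_
    have := h.la2_cen hx hR hu
    rw [hb, mul_zero, eq_comm, mul_eq_zero] at this
    simp [act, this.resolve_right ha]

/-- `sub_cases` for `R'`, and for `R` when `R'` is cyclic. -/
theorem LD.cases (h : LD W D R R') : R' = Aln ∧ ((W = J5 ∧ D = V3) ∨
    (V3 ≤ W ∧ W ≤ J5 ∧ Nat.card W = 81 ∧ Nat.card D = 9) ∨ (R = Aln ∧ W = V3 ∧ Nat.card D = 3)) := by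
  rcases sub_cases R' with e | ⟨x, hx, hR⟩ | e | e | ⟨e, he, k⟩ | e
  · exact absurd e h.not_bot
  · exfalso
    have key : zz ∈ R → (∃ u ∈ R, u.a ≠ 0 ∨ u.b ≠ 0) → False := fun hz hn => by
      have hq := h.caseA hx hR hz hn
      refine h.caseC hx hR hz hn (h.caseB hx hR hz hn fun v hv => ?_)
      rw [mem_Z2v] at hv
      rw [show v = v.p • ep + v.q • eq' by ext <;> simp [ep, eq', hv]]
      exact add_mem (smul_mem3 _ h.la2_ep) (smul_mem3 _ hq)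
    rcases sub_cases R with e | ⟨y, hy, k⟩ | e | e | ⟨e, -, k⟩ | e
    · exact hx (mem_bot.1 (e ▸ h.la2_x hR))
    · exact h.not_cyc1 hx hR (eq_of_le_of_card_ge h.leR (by rw [card_cyc hx hR, card_cyc hy k])).symm
    · exact key (e ▸ (rfl : zz.a = 0)) ⟨x2, e ▸ (rfl : x2.a = 0), .inr one_ne_zero⟩
    · exact key (e ▸ (rfl : zz.b = 0)) ⟨x1, e ▸ (rfl : x1.b = 0), .inl one_ne_zero⟩
    · exact key ((k _).2 (by simp [zz])) ⟨⟨1, e, 0⟩, (k _).2 (by simp), .inl one_ne_zero⟩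
    · exact key (e ▸ mem_top _) ⟨x1, e ▸ mem_top _, .inl one_ne_zero⟩
  · exact ⟨e, h.of_Aln e⟩
  · exact absurd e h.not_Apt
  · exact absurd k (h.not_diag he)
  · exact absurd e h.not_top

end Cfsg.Agent.C3F
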