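import Cfsg.Agent.C3F.EsT
import Cfsg.Agent.C3F.LA2

/-! The subgroups `Ec k` are not essential (for S5227). -/

set_option autoImplicit false
set_option linter.unusedSimpArgs false

namespace Cfsg.Agent.C3F

open Subgroup Cfsg.Agent.Fus Cfsg.FusionSystem Cfsg.Agent.SpF

theorem ec_spread {G ι : Type*} [Group G] [Finite G] [Fintype ι] (hG : Nat.card G = 243)
    (hι : Fintype.card ι = 10) (X : ι → Subgroup G) {D Y : Subgroup G} (hX : ∀ i, Nat.card (X i) = 27)
    (hD : ∀ i, D ≤ X i) (h3 : ∀ i j, i ≠ j → Nat.card ↥(X i ⊓ X j) = 3) (cD : Nat.card D = 3)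
    (hY : Nat.card Y = 27) (hYX : ∀ i, Nat.card ↥(Y ⊓ X i) = 3) : False := by
  classical
  have := Fintype.ofFinite G
  let s : Subgroup G → Finset G := fun Z => Finset.univ.filter (· ∈ Z)
  have ms : ∀ {Z x}, x ∈ s Z ↔ x ∈ Z := by simp [s]
  have cs : ∀ Z, (s Z).card = Nat.card Z := fun Z => by
    rw [Nat.card_eq_fintype_card, Fintype.card_subtype]
  have h1 : (Finset.univ.biUnion fun i => s (X i) \ s D).card = 240 := by
    rw [Finset.card_biUnion, Finset.sum_congr rfl (g := fun _ => 24) fun i _ => by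
      rw [Finset.card_sdiff_of_subset fun x hx => ms.2 (hD i (ms.1 hx)), cs, cs, hX, cD]]
    · simp [hι]
    · intro i _ j _ hij
      refine Finset.disjoint_left.2 fun x hi hj => (Finset.mem_sdiff.1 hi).2 (ms.2 ?_)
      rw [eq_of_le_of_card_ge (le_inf (hD i) (hD j)) (by rw [h3 i j hij, cD])]
      exact ⟨ms.1 (Finset.mem_sdiff.1 hi).1, ms.1 (Finset.mem_sdiff.1 hj).1⟩
  have h2 : (Finset.univ.biUnion fun i => s (X i) \ s D) = Finset.univ \ s D :=
    Finset.eq_of_subset_of_card_le (fun x hx => by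
      obtain ⟨i, -, hi⟩ := Finset.mem_biUnion.1 hx
      exact Finset.mem_sdiff.2 ⟨Finset.mem_univ _, (Finset.mem_sdiff.1 hi).2⟩) (by
      rw [h1, Finset.card_univ_sdiff, cs, cD, ← Nat.card_eq_fintype_card, hG])
  obtain ⟨i₀⟩ : Nonempty ι := Fintype.card_pos_iff.1 (by omega)
  have h4 : (s Y).erase 1 ⊆ Finset.univ.biUnion fun i => (s (Y ⊓ X i)).erase 1 := fun x hx => by
    obtain ⟨a, b⟩ := Finset.mem_erase.1 hx
    obtain ⟨i, hi⟩ : ∃ i, x ∈ X i := by
      by_cases e : x ∈ D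
      · exact ⟨i₀, hD _ e⟩
      · obtain ⟨i, -, hi⟩ := Finset.mem_biUnion.1 (h2 ▸ Finset.mem_sdiff.2 ⟨Finset.mem_univ x, mt ms.1 e⟩)
        exact ⟨i, ms.1 (Finset.mem_sdiff.1 hi).1⟩
    exact Finset.mem_biUnion.2 ⟨i, Finset.mem_univ _, Finset.mem_erase.2 ⟨a, ms.2 ⟨ms.1 b, hi⟩⟩⟩
  have h5 := (Finset.card_le_card h4).trans Finset.card_biUnion_le
  rw [Finset.card_erase_of_mem (ms.2 (one_mem _)), cs, hY, Finset.sum_congr rfl (g := fun _ => 2) fun i _ => by
    rw [Finset.card_erase_of_mem (ms.2 (one_mem _)), cs, hYX]] at h5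
  simp [hι] at h5

theorem dn_Ec (k : K) : dn (Ec k) = V3 := by
  ext v
  simp; tauto

/-- `E = Ec k` is abelian with `E ⊓ Js = up V3`, `Inn E = 1`.  (*) For `α ∈ A \ H`, `Es.ld` and `LD.cases` (`dn E = V3`) give
`|Jp α ⊓ Js| = 3`; so for `α, α' ∈ A` with `α⁻¹ α' ∉ H`, `|Jp α ⊓ Jp α'| = 3` (apply `α`), and `|Jp α| = 27`.
Fix `α ∈ A \ H`, `D = Jp α ⊓ Js`.  For `g ∈ E3` (normalizes `E`, `conj_Ec`) let `c_g ∈ T`; if `g ∉ E` then `α⁻¹ c_g α ∉ H` (`tool2` for `α⁻¹`).
The nine `n = c_{inl (r er + t et)}` fix `up V3` pointwise; the nine subgroups `Jp (n α)` contain `D`, meet pairwise in `D` and meet `Js` in `D`;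
so their `9 · 24 = 216 = 243 - 27` elements outside `D` are distinct and cover `E \ up V3`.  For `g = inr x1`, `Jp (c_g α)` has
`24` elements outside `Js`, but meets each `Jp (n α)` in a group of order `3`: `24 ≤ 9 · 2`, absurd. -/
theorem not_Ec (k : K) {A H : Subgroup (MulAut (Ec k))} : ¬ Es (Ec k) A H := fun h => by
  have hJ : ¬ Js ≤ Ec k := fun r => by simpa [ew] using r (inl_mem ew)
  let X : MulAut (Ec k) → Subgroup (Ec k) := fun a => (Js.subgroupOf (Ec k)).map a.toMonoidHom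
  have mX : ∀ {a x}, x ∈ X a ↔ ((a⁻¹ x : Ec k) : S) ∈ Js := fun {a x} => mem_map_equiv
  have cu : ∀ {W}, W ≤ V3 → Nat.card ((up W).subgroupOf (Ec k)) = Nat.card W := fun {W} hW => by
    rw [Nat.card_congr (subgroupOfEquivOfLe fun x hx => ?_).toEquiv, card_up]
    rw [eq_inl (x := x) hx.1, ← mem_dn, dn_Ec]
    exact hW hx.2
  have cX : ∀ a, Nat.card (X a) = 27 := fun a => by
    rw [card_map_of_injective a.injective, ← card_V3, ← cu le_rfl, ← dn_Ec k]
    congr 2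
    ext x
    exact ⟨fun r => ⟨r, mem_dn.2 (eq_inl r ▸ x.2)⟩, fun r => r.1⟩
  have c3 : ∀ a ∈ A, ∀ b ∈ A, a⁻¹ * b ∉ H → Nat.card ↥(X a ⊓ X b) = 3 := fun a ha b hb hn => by
    have l := h.ld hJ (mul_mem (inv_mem ha) hb) hn
    have e : Nat.card (dn (Jp (a⁻¹ * b))) = 3 := by
      have := card_V3
      rcases l.cases.2 with r | r | r
      · rw [← dn_Ec k, r.1, card_J5] at this; omega
      · rw [← dn_Ec k, r.2.2.1] at this; omega
      · exact r.2.2
    rw [← e, ← cu (dn_Ec k ▸ l.le), ← card_map_of_injective (f := a.toMonoidHom) (K := subgroupOf _ _) a.injective]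
    congr 2
    ext x
    rw [mem_inf, mX, mX, mem_map_equiv, mem_subgroupOf, mem_up, mem_dn]
    refine and_congr_right fun r => ?_
    change _ ↔ inl ((a⁻¹ x : Ec k) : S).j ∈ _
    rw [← eq_inl r, mem_Jp', afn_coe]
    simp
  have TH : ∀ β ∈ autInducedBy ⊤ (Ec k), β ∈ H := fun β hβ => by
    by_cases r : β ∈ Inn (Ec k)
    · obtain ⟨x, rfl⟩ := r
      rw [show MulAut.conj x = 1 from MulEquiv.ext fun y =>
        mul_inv_eq_of_eq_mul (Subtype.ext (Ec_comm k _ x.2 _ y.2))]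
      exact one_mem _
    · exact h.se β (h.le hβ) β hβ r (by simpa using hβ)
  choose c c1 c2 c4 using fun g : E3 => h.exists_cj (g := g) fun x hx => by
    simpa [mem_E3.1 g.2] using conj_Ec g hx
  obtain ⟨α, hα, hα'⟩ := SetLike.not_le_iff_exists.1 h.ne
  have mA : ∀ g, c g * α ∈ A := fun g => mul_mem (h.le (c1 g)) hα
  have k1 : ∀ g g' : E3, ((g⁻¹ * g' : E3) : S) ∉ Ec k → Nat.card ↥(X (c g * α) ⊓ X (c g' * α)) = 3 :=
    fun g g' hn => c3 _ (mA g) _ (mA g') fun r => hα' (inv_mem_iff.1 (h.tool2 (inv_mem hα) (c1 (g⁻¹ * g'))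
      (mt (c4 _) hn) (by
        have : c g * c (g⁻¹ * g') = c g' := aut_ext fun x hx => by
          rw [afn_mul _ _ hx, c2 _ _ (afn_mem _ hx), c2 _ _ hx, c2 _ _ hx]
          simp [mul_assoc]
        simpa [← this, mul_assoc] using r)))
  have k2 : ∀ g, Nat.card ↥(X 1 ⊓ X (c g * α)) = 3 := fun g => c3 _ (one_mem _) _ (mA g) fun r =>
    hα' ((mul_mem_cancel_left (TH _ (c1 g))).1 (by simpa using r))
  let n : K × K → E3 := fun p => ⟨inl ⟨0, 0, p.1, 0, p.2, 0⟩, rfl⟩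
  refine ec_spread (card_Ec k) (ι := Option (K × K)) (by simp)
    (fun i => i.elim (X 1) fun p => X (c (n p) * α)) (D := X 1 ⊓ X α) (Y := X (c ⟨inr x1, rfl⟩ * α))
    (by rintro (_ | p) <;> exact cX _) ?_ ?_ (c3 _ (one_mem _) _ hα (by simpa using hα')) (cX _) ?_
  · rintro (_ | p)
    · exact inf_le_left
    · intro x hx
      have : c (n p) x = x := Subtype.ext (by
        have : (x : S).u = 1 := mX.1 hx.1
        rw [← afn_coe, c2 _ _ x.2, mul_inv_eq_iff_eq_mul]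
        exact S.ext (by simp [n, this, act_one, add_comm]) (by simp [n]))
      refine mX.2 ?_
      rw [mul_inv_rev, MulAut.mul_apply, ← this, MulAut.inv_apply_self]
      exact mX.1 hx.2
  · rintro (_ | p) (_ | q) hij
    · exact absurd rfl hij
    · exact k2 _
    · exact inf_comm (X 1) _ ▸ k2 _
    · refine k1 _ _ fun r => hij (congrArg some ?_)
      simp [n, act] at r
      exact Prod.ext (neg_add_eq_zero.1 r.1) (neg_add_eq_zero.1 r.2)
  · rintro (_ | p)
    · exact inf_comm (X 1) _ ▸ k2 _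
    · exact k1 _ _ fun r => by simpa [n, x1] using r.1

end Cfsg.Agent.C3F
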