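import Cfsg.Agent.C3F.EsA

/-! The condition `hT` and the linear data (for S5227); notation as in `EsA`. -/

set_option autoImplicit false
set_option linter.unusedSimpArgs false

namespace Cfsg.Agent.C3F

open Subgroup Cfsg.Agent.Fus Cfsg.FusionSystem Cfsg.Agent.SpF

variable {E : Subgroup S} {A H : Subgroup (MulAut E)}

namespace EsT

set_option synthInstance.maxSize 1024 in
theorem dec : ∀ x y u : Hs, x ≠ 1 → x * y = y * x → x * u = u * x → y * u = u * y → y ∉ [1, x, x * x] →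
    ∃ a b : Fin 3, u = x ^ a.val * y ^ b.val := by
  simp only [Hs.forall_iff]
  decide +kernel

theorem four' : ∀ x e f : Hs, x ≠ 1 → x * e = e * x → x * f = f * x → e * f = f * e →
    e ∈ [1, x, x * x] ∨ f ∈ [1, x, x * x] ∨ e * f ∈ [1, x, x * x] ∨ e * f⁻¹ ∈ [1, x, x * x] := by
  simp only [Hs.forall_iff]
  decide +kernel

theorem zp {x u : Hs} (h : u ∈ [1, x, x * x]) : ∃ a : ℕ, u = x ^ a := by
  simp only [List.mem_cons, List.not_mem_nil, or_false] at h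
  rcases h with rfl | rfl | rfl
  exacts [⟨0, (pow_zero _).symm⟩, ⟨1, (pow_one _).symm⟩, ⟨2, (pow_two _).symm⟩]

theorem zp' {x u : Hs} (h : u ∈ [1, x, x * x]) : u ∈ zpowers x :=
  let ⟨a, e⟩ := zp h; e ▸ npow_mem_zpowers x a

theorem sm {α : MulAut E} {j : V} (hj : ∀ u ∈ E.map πu, act u j - j ∈ dn E) {L : Subgroup S}
    (hL : up (dn (Jp α)) ≤ L) :
    ∃ T : Submonoid Hs, ∀ u, u ∈ T ↔ u ∈ (Jp α).map πu ∧ inl (j - act u j) ∈ L := by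
  refine ⟨⟨⟨{u | u ∈ (Jp α).map πu ∧ inl (j - act u j) ∈ L}, fun {a b} ha hb => ⟨mul_mem ha.1 hb.1, ?_⟩⟩,
    one_mem _, by rw [act_one, sub_self]; exact one_mem _⟩, fun _ => Iff.rfl⟩
  have := hL (x := inl _) ⟨rfl, neg_mem (Jp_cm α a ha.1 _ (hj b (map_mono (Jp_le α) hb.1)))⟩
  rw [show j - act (a * b) j = j - act a j + (j - act b j) + -(act a (act b j - j) - (act b j - j)) by
    rw [act_mul, act_sub]; abel, inl_add, inl_add]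
  exact mul_mem (mul_mem ha.2 hb.2) this

theorem l3 {β : MulAut E} {R : Subgroup Hs} (hc : ∀ x ∈ R, ∀ y ∈ R, x * y = y * x) {x : Hs} (hx : x ∈ R) :
    ∃ L : Subgroup S, ∀ y, y ∈ L ↔ y ∈ E ∧ y.u ∈ R ∧ (afn β y * y⁻¹).u ∈ zpowers x := by
  have k : ∀ u ∈ R, ∀ c ∈ zpowers x, u * c * u⁻¹ ∈ zpowers x := fun u hu c h => by
    rwa [hc u hu c (zpowers_le.2 hx h), mul_inv_cancel_right]
  refine ⟨⟨⟨⟨{y | y ∈ E ∧ y.u ∈ R ∧ (afn β y * y⁻¹).u ∈ zpowers x}, fun {a b} ha hb =>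
    ⟨mul_mem ha.1 hb.1, mul_mem ha.2.1 hb.2.1, ?_⟩⟩, one_mem _, one_mem _, ?_⟩, fun {a} ha =>
    ⟨inv_mem ha.1, inv_mem ha.2.1, ?_⟩⟩, fun _ => Iff.rfl⟩
  · rw [homOn_afn β a ha.1 b hb.1, show afn β a * afn β b * (a * b)⁻¹ =
      afn β a * a⁻¹ * (a * (afn β b * b⁻¹) * a⁻¹) by group]
    exact mul_mem ha.2.2 (k _ ha.2.1 _ hb.2.2)
  · rw [(homOn_afn β).map_one, inv_one, mul_one]; exact one_mem _
  · rw [(homOn_afn β).map_inv ha.1, show (afn β a)⁻¹ * a⁻¹⁻¹ = a⁻¹ * (afn β a * a⁻¹)⁻¹ * a⁻¹⁻¹ by group]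
    exact k _ (inv_mem ha.2.1) _ (inv_mem ha.2.2)

end EsT

open EsT

/-- An abelian subgroup of `Hs` containing `x ≠ 1` is `{x^a y^b}` for some `y` (`sub_cases`; `y = 1` if cyclic). -/
theorem two_gen {R : Subgroup Hs} (hc : ∀ x ∈ R, ∀ y ∈ R, x * y = y * x) {x : Hs} (hx : x ∈ R) (h1 : x ≠ 1) :
    ∃ y ∈ R, ∀ u ∈ R, ∃ a b : ℕ, u = x ^ a * y ^ b := by
  by_cases e : ∀ y ∈ R, y ∈ [1, x, x * x]
  · exact ⟨1, one_mem _, fun u hu => let ⟨a, h⟩ := zp (e u hu); ⟨a, 0, by rw [h, pow_zero, mul_one]⟩⟩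
  push Not at e
  obtain ⟨y, hy, e⟩ := e
  exact ⟨y, hy, fun u hu => let ⟨a, b, h⟩ := dec x y u h1 (hc _ hx _ hy) (hc _ hx _ hu) (hc _ hy _ hu) e
    ⟨a, b, h⟩⟩

/-- Suppose `[j1, x] ∈ D`.  Write `R' = {x^a y^b}`, lift `x, y` to `r, r' ∈ J'`, let `v' = act y j1 - j1 ∈ W`, `β = c_{j1}`.
The map `u ↦ act u j1 - j1` is a homomorphism `R' → W/D` (`Jp_cm`) killing `x`, so its values lie in `D + ⟨v'⟩`.
For `j = a j1 + b j2` let `β_j' = α c_j α⁻¹`; `j ↦ (β_j' (inl v') (inl v')⁻¹).u ∈ R'` is a homomorphism (the `β_j'` fix `J'`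
pointwise; only `j1, j2, j1 ± j2` are needed: among `e(j1), e(j2), e(j1) e(j2), e(j1) e(j2)⁻¹ ∈ R'` one lies in `⟨x⟩` as
`y³ = 1`), so some `β' = β_j'` with `j ∉ W` has `β' (inl v') (inl v')⁻¹ ∈ J'` with image in `⟨x⟩`.  Now `β` and `β'` stabilize the chain
`up D ≤ L1 ≤ L2 ≤ L3 ≤ M` with `L1 = {g ∈ J' | g.u ∈ ⟨x⟩} = up D ⟨r⟩`, `L2 = L1 ⟨inl v'⟩`, `L3 = J' ⟨inl v'⟩`,
`M = R'.comap πu` (in `E ∩ M = J_E J'` all commutators lie in `up D`, which is central there; describe `L2`, `L3` as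
`{inl (k • v') * g | g ∈ L1}` resp. `g ∈ J'`):  `β`: `[E] ≤ J_E ≤ M`, `[E ∩ M] ≤ up (D + ⟨v'⟩) ≤ L2 ≤ L3`, `[L2] ≤ up D`,
`[up D] = 1`;  `β'`: `[E] ≤ J' ≤ L3`, `[L3] ≤ L1`, `[J'] = 1`.  `chn_pgroup` and `tool3` give `α ∈ H`. -/
theorem Es.hT (h : Es E A H) {α : MulAut E} (hα : α ∈ A) (hα' : α ∉ H) {j1 j2 : V}
    (h1 : ∀ u ∈ E.map πu, act u j1 - j1 ∈ dn E) (h2 : ∀ u ∈ E.map πu, act u j2 - j2 ∈ dn E)
    (n1 : j1 ∉ dn E) (n2 : j2 ∉ dn E) (n3 : j1 + j2 ∉ dn E) (n4 : j1 - j2 ∉ dn E) {x : Hs} (hx : x ∈ (Jp α).map πu)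
    (hx1 : x ≠ 1) : act x j1 - j1 ∉ dn (Jp α) := fun hD => hα' (by
  have hc : ∀ x ∈ (Jp α).map πu, ∀ y ∈ (Jp α).map πu, x * y = y * x := by
    rintro _ ⟨a, ha, rfl⟩ _ ⟨b, hb, rfl⟩
    rw [← map_mul, Jp_comm α a ha b hb, map_mul]
  obtain ⟨y, hy, gen⟩ := two_gen hc hx hx1
  have W : ∀ {j}, (∀ u ∈ E.map πu, act u j - j ∈ dn E) → ∀ g ∈ E, inl (j - act g.u j) ∈ E := fun hj g hg => by
    rw [← neg_sub]; exact mem_dn.1 (neg_mem (hj _ ⟨g, hg, rfl⟩))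
  have v1 : inl (j1 - act y j1) ∈ E := by
    obtain ⟨g, hg, rfl⟩ := hy
    exact W h1 g (Jp_le α hg)
  have w1 := afn_mem α⁻¹ v1
  set w := afn α⁻¹ (inl (j1 - act y j1))
  obtain ⟨j, hj, nj, ej⟩ : ∃ j, (∀ u ∈ E.map πu, act u j - j ∈ dn E) ∧ j ∉ dn E ∧
      (afn α (inl (j - act w.u j))).u ∈ zpowers x := by
    have m : ∀ {j}, (∀ u ∈ E.map πu, act u j - j ∈ dn E) → (afn α (inl (j - act w.u j))).u ∈ (Jp α).map πu :=
      fun hj => ⟨_, mem_Jp.2 ⟨_, W hj w w1, inl_mem _, rfl⟩, rfl⟩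
    rcases four' x _ _ hx1 (hc _ hx _ (m h1)) (hc _ hx _ (m h2)) (hc _ (m h1) _ (m h2)) with e | e | e | e
    · exact ⟨j1, h1, n1, zp' e⟩
    · exact ⟨j2, h2, n2, zp' e⟩
    · refine ⟨_, fun u hu => ?_, n3, ?_⟩
      · rw [act_add, add_sub_add_comm]; exact add_mem (h1 u hu) (h2 u hu)
      · rw [act_add, add_sub_add_comm, inl_add, homOn_afn α _ (W h1 w w1) _ (W h2 w w1)]
        exact zp' e
    · refine ⟨_, fun u hu => ?_, n4, ?_⟩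
      · rw [act_sub, sub_sub_sub_comm]; exact sub_mem (h1 u hu) (h2 u hu)
      · rw [act_sub, sub_sub_sub_comm, sub_eq_add_neg, inl_add, inl_neg,
          homOn_afn α _ (W h1 w w1) _ (inv_mem (W h2 w w1)), (homOn_afn α).map_inv (W h2 w w1)]
        exact zp' e
  obtain ⟨β, b1, b2, b3, -, -⟩ := h.cj h1 n1 α
  obtain ⟨γ, c1, c2, c3, c4, c5⟩ := h.cj hj nj α
  obtain ⟨L, hL⟩ := l3 (β := α * γ * α⁻¹) hc hx
  have JL : Jp α ≤ L := fun g hg => (hL g).2 ⟨Jp_le α hg, ⟨g, hg, rfl⟩, by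
    rw [c5 g hg, mul_inv_cancel]; exact one_mem _⟩
  have DJ : up (dn (Jp α)) ≤ Jp α := fun g hg => eq_inl (x := g) hg.1 ▸ hg.2
  have vL : inl (j1 - act y j1) ∈ L := (hL _).2 ⟨v1, one_mem _, by
    rw [afn_mul _ _ v1, afn_mul _ _ w1, eq_mul_of_mul_inv_eq (c3 w w1),
      homOn_afn α _ (W hj w w1) _ w1, afn_afn_inv _ v1, mul_inv_cancel_right]
    exact ej⟩
  have xD : inl (j1 - act x j1) ∈ up (dn (Jp α)) := by rw [← neg_sub]; exact ⟨rfl, neg_mem hD⟩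
  have k1 : ∀ g ∈ E, g.u ∈ zpowers x → afn β g * g⁻¹ ∈ up (dn (Jp α)) := fun g hg e => by
    obtain ⟨T, hT⟩ := sm (α := α) h1 le_rfl
    obtain ⟨a, e⟩ := mem_powers_iff_mem_zpowers.2 e
    rw [b3 g hg, ← e]
    exact ((hT _).1 (pow_mem ((hT x).2 ⟨hx, xD⟩) a)).2
  have k2 : ∀ g ∈ E, g.u ∈ (Jp α).map πu → afn β g * g⁻¹ ∈ L ⊓ (zpowers x).comap πu := fun g hg e => by
    obtain ⟨T, hT⟩ := sm h1 (DJ.trans JL)
    obtain ⟨a, b, e⟩ := gen _ e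
    rw [b3 g hg, e]
    exact ⟨((hT _).1 (mul_mem (pow_mem ((hT x).2 ⟨hx, JL (DJ xD)⟩) a) (pow_mem ((hT y).2 ⟨hy, vL⟩) b))).2,
      one_mem (zpowers x)⟩
  have l1 : up (dn (Jp α)) ≤ Jp α ⊓ (zpowers x).comap πu := fun g hg =>
    ⟨DJ hg, show g.u ∈ zpowers x from hg.1 ▸ one_mem _⟩
  have l2 := inf_le_inf_right ((zpowers x).comap πu) JL
  have l4 : L ≤ ((Jp α).map πu).comap πu := fun g hg => ((hL g).1 hg).2.1
  have k3 : ∀ g ∈ E, g ∈ L → afn (α * γ * α⁻¹) g * g⁻¹ ∈ Jp α ⊓ (zpowers x).comap πu := fun g hg e =>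
    ⟨c4 g hg, ((hL g).1 e).2.2⟩
  have k4 : ∀ g ∈ Jp α, afn (α * γ * α⁻¹) g * g⁻¹ = 1 := fun g hg => by rw [c5 g hg, mul_inv_cancel]
  refine h.tool3 hα b1 b2 c1 c2 (chn_pgroup (l := [up (dn (Jp α)), Jp α ⊓ (zpowers x).comap πu,
    L ⊓ (zpowers x).comap πu, L, ((Jp α).map πu).comap πu])
    ⟨bot_le, fun g hg e => ?_, l1, fun g hg e => k1 g hg e.2, l2, fun g hg e => l1 (k1 g hg e.2), inf_le_left,
      fun g hg e => k2 g hg (l4 e), l4, fun g hg e => (k2 g hg e).1, fun g hg => ?_⟩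
    ⟨bot_le, fun g _ e => k4 g (DJ e), l1, fun g _ e => k4 g e.1 ▸ one_mem _, l2, fun g hg e => k3 g hg e.1,
      inf_le_left, fun g hg e => l2 (k3 g hg e), l4, fun g hg _ => JL (c4 g hg), fun g hg => l4 (JL (c4 g hg))⟩)
  · rw [b3 g hg, e.1, act_one, sub_self]; exact one_mem _
  · rw [b3 g hg]; exact one_mem ((Jp α).map πu))

/-- Collect: `cen` from `h.cen` (`comm_inl`), `invW`, `invD` from `conj_inl`, `Jp_conj`; `card` from `card_eq_dn`, `card_Jp`. -/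
theorem Es.ld (h : Es E A H) (hJ : ¬ Js ≤ E) {α : MulAut E} (hα : α ∈ A) (hα' : α ∉ H) :
    LD (dn E) (dn (Jp α)) (E.map πu) ((Jp α).map πu) :=
  ⟨fun _ hv => h.cen _ fun y hy => comm_inl.2 (hv _ ⟨y, hy, rfl⟩),
    by rintro _ ⟨g, hg, rfl⟩ v hv; exact mem_dn.2 (conj_inl g v ▸ mul_mem (mul_mem hg hv) (inv_mem hg)),
    by rintro _ ⟨g, hg, rfl⟩ v hv; exact mem_dn.2 (conj_inl g v ▸ Jp_conj α g hg _ hv),
    fun _ hv => Jp_le α hv, map_mono (Jp_le α),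
    by rintro _ ⟨g, hg, rfl⟩ _ ⟨y, hy, rfl⟩; exact ⟨_, Jp_conj α g hg y hy, rfl⟩,
    by rintro _ ⟨a, ha, rfl⟩ _ ⟨b, hb, rfl⟩; rw [← map_mul, Jp_comm α a ha b hb, map_mul],
    by rintro _ ⟨a, ha, rfl⟩ v hv; exact comm_inl.1 (Jp_comm α a ha _ hv),
    Jp_cm α, by rw [← card_Jp α, card_eq_dn],
    fun e => hJ fun x hx => eq_inl hx ▸ mem_dn.1 (e ▸ AddSubgroup.mem_top _),
    fun _ a b => h.hF hα hα' a b,
    fun _ _ a b c d e f _ hx x1 => h.hT hα hα' a b c d e f hx x1, fun _ a => h.hK a⟩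

end Cfsg.Agent.C3F
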