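import Cfsg.Agent.C3F.Glue

/-! Automizers of overgroups of `J` are determined by `Γ` (for S5227). -/

set_option autoImplicit false
set_option linter.unusedSimpArgs false

namespace Cfsg.Agent.C3F

open Subgroup Cfsg.Agent.Fus Cfsg.FusionSystem Cfsg.Agent.SpF

variable {F F' : FusionSystem (⊤ : Subgroup S)} {E : Subgroup S}

/-- The cohomological condition: `H¹(E/J, J)^τ = 0`. -/
def H1 (E : Subgroup S) (τ : MulAut S) : Prop :=
  ∀ β : MulAut E, (∀ v, afn β (inl v) = inl v) → (∃ v, ∀ x ∈ E, afn β x = inl v * τ (afn β (τ x)) * (inl v)⁻¹) →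
    ∃ v, ∀ x ∈ E, afn β x = inl v * x * (inl v)⁻¹

namespace Ex

theorem inr_mem (hE : Js ≤ E) {x : S} (hx : x ∈ E) : inr x.u ∈ E :=
  (mul_mem_cancel_left (hE (inl_mem x.j))).1 ((inl_mul_inr x).symm ▸ hx)

theorem u_eq (hE : Js ≤ E) {β : MulAut E} (h : ∀ v, afn β (inl v) = inl v) {x : S} (hx : x ∈ E) :
    (afn β x).u = x.u := ρ_inj (LinearEquiv.ext fun v => inl_inj (by
  have := (homOn_afn β).map_conj hx (hE (inl_mem v))
  rw [conj_inl, h, h, conj_inl] at this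
  exact this.symm))

theorem cj_inl (v : V) (x : S) : inl v * x * (inl v)⁻¹ = ⟨v - act x.u v + x.j, x.u⟩ :=
  S.ext (by simp [act_one, act_neg]; abel) (by simp)

end Ex

/-- If `β` fixes `J` pointwise, `β x x⁻¹` centralizes `J`; so `β x = inl (f x.u + x.j) * inr x.u` with `f u = (β (inr u)).j` a cocycle. -/
theorem fixJ (hE : Js ≤ E) {β : MulAut E} (h : ∀ v, afn β (inl v) = inl v) {x : S} (hx : x ∈ E) :
    afn β x = ⟨(afn β (inr x.u)).j + x.j, x.u⟩ := by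
  conv_lhs => rw [← inl_mul_inr x, homOn_afn β _ (hE (inl_mem _)) _ (Ex.inr_mem hE hx), h]
  exact S.ext (by simp [act_one, add_comm]) (by simp [Ex.u_eq hE h (Ex.inr_mem hE hx)])

/-- `τ ⟨j, u⟩ = ⟨-j, u⟩`: `f u = v - act u v - f u`, so conjugate by `inl (-v)`. -/
theorem h1_ng (hE : Js ≤ E) : H1 E (tS 1 1 (-1)) := by
  rintro β hβ ⟨v, hv⟩
  have t : ∀ x, tS 1 1 (-1) x = ⟨-x.j, x.u⟩ := fun x => S.ext (ng_apply x.j) (by ext <;> simp [ts])
  refine ⟨-v, fun x hx => ?_⟩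
  have e := congrArg S.j (hv _ (Ex.inr_mem hE hx))
  rw [Ex.cj_inl, t, t, show (⟨-(inr x.u).j, (inr x.u).u⟩ : S) = inr x.u from S.ext neg_zero rfl,
    Ex.u_eq hE hβ (Ex.inr_mem hE hx)] at e
  rw [fixJ hE hβ hx, Ex.cj_inl, act_neg]
  congr 2
  generalize (afn β (inr x.u)).j = f at e
  calc f = -(f + f) + (f + f + f) := by abel
    _ = -(v - act x.u v + -f + f) := by rw [f.three, add_zero]; exact congrArg (-(· + f)) e
    _ = _ := by abel

namespace Ex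

/-- reduction to the cocycle on two generators -/
theorem h1_of (hE : Js ≤ E) {a b c : Kˣ} {g h : Hs} (hg : inr g ∈ E) (hh : inr h ∈ E) (e : g * h = h * g)
    (gen : ∀ x ∈ E, ∃ i j : ℕ, x.u = g ^ i * h ^ j) (tg : tS a b c (inr g) = inr (g * g))
    (th : tS a b c (inr h) = inr (h * h))
    (lin : ∀ p q v : V, p + act g q = q + act h p → p = v - act g v + tv a b c (p + act g p) →
      q = v - act h v + tv a b c (q + act h q) → ∃ w, p = w - act g w ∧ q = w - act h w) : H1 E (tS a b c) := by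
  rintro β hβ ⟨v, hv⟩
  have m : ∀ u u', inr u ∈ E → inr u' ∈ E →
      (afn β (inr (u * u'))).j = (afn β (inr u)).j + act u (afn β (inr u')).j := fun u u' h1 h2 => by
    rw [inr_mul, homOn_afn β _ h1 _ h2, S.mul_j, u_eq hE hβ h1, inr_u]
  have k : ∀ u, inr u ∈ E → tS a b c (inr u) = inr (u * u) → (afn β (inr u)).j =
      v - act u v + tv a b c ((afn β (inr u)).j + act u (afn β (inr u)).j) := fun u h1 h2 => by
    have e1 := hv _ h1
    have e2 := congrArg S.u e1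
    rw [cj_inl] at e1 e2
    rw [u_eq hE hβ h1] at e2
    rw [← m u u h1 h1, ← h2]
    exact (congrArg S.j e1).trans (congrArg (v - act · v + _) e2.symm)
  obtain ⟨w, e1, e2⟩ := lin _ _ v (by rw [← m _ _ hg hh, e, m _ _ hh hg]) (k g hg tg) (k h hh th)
  let T : Submonoid Hs :=
    { carrier := {u | inr u ∈ E ∧ (afn β (inr u)).j = w - act u w}
      one_mem' := ⟨one_mem _, by rw [act_one, sub_self]; exact congrArg S.j (hβ 0)⟩
      mul_mem' := fun {u u'} h1 h2 => ⟨inr_mul u u' ▸ mul_mem h1.1 h2.1, by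
        rw [m _ _ h1.1 h2.1, h1.2, h2.2, act_sub, act_mul]; abel⟩ }
  refine ⟨w, fun x hx => ?_⟩
  obtain ⟨i, j, e3⟩ := gen x hx
  rw [fixJ hE hβ hx, cj_inl, (show x.u ∈ T from e3 ▸ mul_mem (pow_mem (show g ∈ T from ⟨hg, e1⟩) i)
    (pow_mem (show h ∈ T from ⟨hh, e2⟩) j)).2]

theorem res (hE : Js ≤ E) {α : MulAut E} (h : α ∈ F.autGroup E) :
    ∃ γ ∈ Gam F, (∀ v, afn α (inl v) = inl (γ v)) ∧ Nm (E.map πu) γ := by
  obtain ⟨γ, h1, h2, h3⟩ := res_map ((mem_autGroup le_top).1 h) hE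
  refine ⟨γ, h1, h2, ?_⟩
  rintro _ ⟨x, hx, rfl⟩
  exact ⟨_, ⟨_, afn_mem α hx, rfl⟩, h3 x hx⟩

theorem nrm (hE : Js ≤ E) : (autInducedBy Js E).Normal := ⟨fun α hα κ => by
  obtain ⟨g, hg, e⟩ := mem_autInducedBy.1 hα
  refine mem_autInducedBy.2 ⟨_, afn_J hE κ hg, fun x hx => ?_⟩
  rw [afn_mul _ _ hx, afn_mul _ _ (afn_mem _ hx), e _ (afn_mem _ hx),
    (homOn_afn κ).map_conj (hE hg) (afn_mem _ hx), afn_afn_inv _ hx]⟩

theorem com (hF : F.IsSaturated 3) (hE : Js ≤ E) {α τ : MulAut E} (h1 : α ∈ F.autGroup E) (h2 : τ ∈ F.autGroup E)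
    {γ t : GV} (e1 : ∀ v, afn α (inl v) = inl (γ v)) (e2 : ∀ v, afn τ (inl v) = inl (t v)) (e : γ * t = t * γ) :
    (α * τ)⁻¹ * (τ * α) ∈ autInducedBy Js E := by
  obtain ⟨z, hz, e3⟩ := sat_aut_eq_conj_of_fix p3 hF (centric_J F) hE
    (fun x _ => mem_normalizerIn_of_conj trivial fun y hy => Normal.conj_mem inferInstance y hy x)
    (mul_mem (inv_mem (mul_mem h1 h2)) (mul_mem h2 h1)) fun x hx => by
      have m := hE (inl_mem x.j)
      rw [eq_inl hx, afn_mul _ _ m, afn_mul _ _ m, e1, e2, ← GV.mul_apply, ← e, GV.mul_apply, ← e1, ← e2,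
        ← afn_mul _ _ m, afn_inv_afn _ m]
  exact mem_autInducedBy.2 ⟨z, hz.1, e3⟩

end Ex

/-- `g = f x2`, `h = f zz`; relations: cubes of `β (inr x2)`, `β (inr zz)` are `1`, they commute, `f u⁻¹ = -act u⁻¹ (f u)`, and
`f u = v - act u v + t3 (f u⁻¹)`.  Take `v' = ⟨0, 0, -g.q, 0, g.s - g.t, -g.t⟩` (linear arithmetic over `ZMod 3`; checked by computer);
`E1` is generated by `J`, `inr x2`, `inr zz`. -/
theorem h1_E1 : H1 E1 (tS 1 (-1) 1) :=
  Ex.h1_of (g := x2) (h := zz) (fun x hx => congrArg Hs.a hx) rfl rfl (by decide)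
    (fun x hx => ⟨x.u.b.val, x.u.c.val, (by decide +kernel : ∀ u : Hs, u.a = 0 → u = x2 ^ u.b.val * zz ^ u.c.val) _ hx⟩)
    (by decide) (by decide) fun p q v e1 e2 e3 => ⟨⟨0, 0, -p.q, 0, p.s - p.t, -p.t⟩, by
      simp [V.ext_iff, act, x2, zz, tv] at e1 e2 e3 ⊢
      grind⟩

/-- The same with `g = f x1`, `h = f zz`, `t2`, `v' = ⟨0, g.p - g.q, h.p - h.r, -g.q, -g.r, -h.r⟩`. -/
theorem h1_E2 : H1 E2 (tS (-1) 1 1) :=
  Ex.h1_of (g := x1) (h := zz) (fun x hx => congrArg Hs.b hx) rfl rfl (by decide)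
    (fun x hx => ⟨x.u.a.val, x.u.c.val, (by decide +kernel : ∀ u : Hs, u.b = 0 → u = x1 ^ u.a.val * zz ^ u.c.val) _ hx⟩)
    (by decide) (by decide) fun p q v e1 e2 e3 => ⟨⟨0, p.p - p.q, q.p - q.r, -p.q, -p.r, -q.r⟩, by
      simp [V.ext_iff, act, x1, zz, tv] at e1 e2 e3 ⊢
      grind⟩

/-- `C = {conjugations by inl v}` is normal in `MulAut E` (`afn_J`); `τE` the restriction of `τ = tS a b c` (`exists_res_AS`, `τ² = 1`);
`Z = {α | α τE α⁻¹ τE⁻¹ ∈ C}` is a subgroup.  For `α ∈ Aut_F(E)` with restriction `γ` (`res_map`), `α1 = c_{inr u} α` restricts to `ρ u γ`; let `α' ∈ Aut_F'(E)`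
extend `ρ u γ` (`ext_E`).  `α1, α' ∈ Z` by `sat_aut_eq_conj_of_fix` (Fus/CentricExt) in `F` resp. `F'`; so `β = α'⁻¹ α1 ∈ Z` fixes `J`, `β ∈ C` by `H1`. -/
theorem ext_gen (hF : F.IsSaturated 3) (hF' : F'.IsSaturated 3) (hG : Gam F ≤ Gam F') (hE : Js ≤ E) {a b c : Kˣ}
    (h1 : tS a b c ∈ AS F) (h2 : tS a b c ∈ AS F') (h3 : ∀ x ∈ E, tS a b c x ∈ E)
    (h4 : ∀ γ ∈ Gam F, Nm (E.map πu) γ → ∃ u ∈ E.map πu, ρ u * γ * tV a b c = tV a b c * (ρ u * γ))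
    (h5 : H1 E (tS a b c)) : F.autGroup E ≤ F'.autGroup E := fun α hα => by
  obtain ⟨τ, t1, t2⟩ := exists_res_AS h1 h3
  have t3 : τ ∈ F'.autGroup E := mem_autGroup_of_isMap (IsMap.mono h2 le_top) t2
  have t4 : ∀ v, afn τ (inl v) = inl (tV a b c v) := fun v => (t2 _ (hE (inl_mem v))).trans (tS_inl a b c v)
  have t5 : τ * τ = 1 := aut_ext fun x hx => by
    rw [afn_mul _ _ hx, t2 x hx, t2 _ (h3 x hx), afn_one]; exact ts_ts a b c x
  obtain ⟨γ, g1, g2, g3⟩ := Ex.res hE hα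
  obtain ⟨_, ⟨x, hx, rfl⟩, g4⟩ := h4 γ g1 g3
  obtain ⟨κ, k1⟩ := exists_mulAut_conj (le_normalizer hx)
  have a1 := mul_mem (mem_autGroup_of_isMap (isMap_conj F le_top trivial) k1) hα
  rw [← mul_mem_cancel_left (mem_autGroup_of_isMap (isMap_conj F' le_top trivial) k1)]
  obtain ⟨δ, d1, d2, d3⟩ := Ex.res hE a1
  obtain rfl : δ = ρ (πu x) * γ := LinearEquiv.ext fun v => inl_inj (by
    rw [← d2, afn_mul _ _ (hE (inl_mem v)), g2, k1 _ (hE (inl_mem _)), conj_inl]; rfl)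
  generalize κ * α = α₁ at a1 d2
  obtain ⟨α', b1, b2⟩ := ext_E hF' hE (hG d1) d3
  have := Ex.nrm hE
  have c1 : Commute (α₁ : MulAut E ⧸ autInducedBy Js E) τ := QuotientGroup.eq.2 (Ex.com hF hE a1 t1 d2 t4 g4)
  have c2 : Commute (α' : MulAut E ⧸ autInducedBy Js E) τ := QuotientGroup.eq.2 (Ex.com hF' hE b1 t3 b2 t4 g4)
  obtain ⟨g, hg, e⟩ := mem_autInducedBy.1 ((QuotientGroup.eq_iff_div_mem (N := autInducedBy Js E)
    (x := α'⁻¹ * α₁) (y := τ * (α'⁻¹ * α₁) * τ)).1 (by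
      simp only [QuotientGroup.mk_mul, QuotientGroup.mk_inv]
      rw [← (c2.inv_left.mul_left c1).eq, mul_assoc, ← QuotientGroup.mk_mul _ τ, t5, QuotientGroup.mk_one, mul_one]))
  obtain ⟨v, hv⟩ := h5 (α'⁻¹ * α₁) (fun v => by
    rw [afn_mul _ _ (hE (inl_mem v)), d2, ← b2, afn_inv_afn _ (hE (inl_mem v))]) ⟨g.j, fun y hy => by
      have := e _ (afn_mem (τ * (α'⁻¹ * α₁) * τ) hy)
      rwa [← afn_mul _ _ hy, div_mul_cancel, afn_mul _ τ hy, afn_mul τ _ (afn_mem _ hy), t2 y hy,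
        t2 _ (afn_mem _ (h3 y hy)), eq_inl hg] at this⟩
  exact (mul_mem_cancel_left (inv_mem b1)).1 (mem_autGroup_of_isMap (isMap_conj F' le_top trivial) hv)

end Cfsg.Agent.C3F
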