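import Cfsg.Agent.C3F.Tool

/-! The normal form of `Aut_F(S)` (for S5227; compare `RFS/AutS`, `RFS/Fin`). -/

set_option autoImplicit false
set_option linter.unusedSimpArgs false

namespace Cfsg.Agent.C3F

open Subgroup Cfsg.Agent.Fus Cfsg.FusionSystem Cfsg.Agent.SpF

private theorem afn_res {Ω : Type*} [Group Ω] {E : Subgroup Ω} [E.Characteristic] (φ : MulAut Ω) {x : Ω} (hx : x ∈ E) :
    afn (MulAut.characteristic E φ) x = φ x := by rw [afn_apply _ hx]; rfl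

private theorem sz {X : Type*} [Group X] [Finite X] {O T A N : Subgroup X} [O.Normal] [N.Normal] (hO : IsPGroup 3 O)
    (hX : ∀ x, ∃ o ∈ O, ∃ t ∈ T, x = o * t) (hN : N ≤ A) (hs : SylIn 3 N A) :
    ∃ γ, ∀ a ∈ A, ∃ n ∈ N, ∃ t ∈ T, γ * a * γ⁻¹ = n * t := by
  have cop : ∀ {O : Subgroup X}, IsPGroup 3 O → ∀ {m : ℕ}, ¬ 3 ∣ m → m.Coprime (Nat.card O) := fun hO m hm => by
    obtain ⟨k, hk⟩ := IsPGroup.iff_card.1 hO
    rw [hk]
    exact ((Nat.Prime.coprime_iff_not_dvd Nat.prime_three).2 hm).symm.pow_right k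
  obtain ⟨k, hk⟩ := IsPGroup.iff_card.1 (isPGroup_subgroupOf A (hs.isPGroup hN))
  obtain ⟨K, hK⟩ := exists_right_complement'_of_coprime (N := N.subgroupOf A) (by
    rw [hk]
    exact ((Nat.Prime.coprime_iff_not_dvd Nat.prime_three).2 hs.not_dvd_relIndex).pow_left k)
  have hc : ¬ 3 ∣ Nat.card (K.map A.subtype) := by
    rw [card_map_of_injective A.subtype_injective, ← hK.symm.index_eq_card]
    exact hs.not_dvd_relIndex
  have := hO.isNilpotent
  obtain ⟨k, -, hk⟩ := Solv.exists_conj_mem_of_coprime (K.map A.subtype) O T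
    (le_normalizer_of_normal) (cop hO hc) (Or.inr inferInstance) fun a _ => by
      obtain ⟨o, ho, t, ht, rfl⟩ := hX a
      exact ⟨o, ho, by rwa [inv_mul_cancel_left]⟩
  refine ⟨k⁻¹, fun a ha => ?_⟩
  obtain ⟨⟨n, h⟩, e⟩ := (hK.existsUnique ⟨a, ha⟩).exists
  have e' : ((n : A) : X) * ((h : A) : X) = a := congrArg Subtype.val e
  refine ⟨k⁻¹ * ((n : A) : X) * k⁻¹⁻¹, ‹N.Normal›.conj_mem _ n.2 _, _, hk _ ⟨h, h.2, rfl⟩, ?_⟩
  rw [← e', coe_subtype]; group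

/-- Copy of `RFS.sa_AS` (RFS/Fin) for `p = 3`. -/
theorem syl_AS {F : FusionSystem (⊤ : Subgroup S)} (hF : F.IsSaturated 3) :
    SylIn 3 (MulAut.conj : S →* MulAut S).range (AS F) := by
  refine (sylIn_map_iff_of_injective (by rintro _ ⟨g, rfl⟩; exact conj_mem_AS F g)
    (MulAut.characteristic (⊤ : Subgroup S)) fun a b e => MulEquiv.ext fun x => by
      rw [← afn_res (E := ⊤) a (mem_top x), e, afn_res b (mem_top x)]).1 ?_
  convert sat_sylIn_inn p3 hF using 1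
  · ext α
    rw [mem_Inn]
    constructor
    · rintro ⟨_, ⟨g, rfl⟩, rfl⟩
      exact ⟨g, trivial, fun x hx => by rw [afn_res _ hx]; rfl⟩
    · rintro ⟨g, -, h⟩
      exact ⟨_, ⟨g, rfl⟩, aut_ext fun x hx => by rw [afn_res _ hx, h x hx]; rfl⟩
  · ext α
    refine ⟨?_, fun h => ?_⟩
    · rintro ⟨φ, h, rfl⟩
      exact mem_autGroup_of_isMap (IsMap.mono h le_top) fun _ hx => afn_res φ hx
    obtain ⟨φ, h1, h2⟩ := exists_AS ((mem_autGroup le_rfl).1 h)
    exact ⟨φ, h1, aut_ext fun x hx => (afn_res φ hx).trans (h2 x)⟩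

private theorem w_mul (x y : S) : (x * y).j.w = x.j.w + y.j.w := by simp [act]

private theorem D_le : E1 ⊓ E2 ⊓ E3 ≤ _root_.commutator S := by
  rintro x ⟨⟨ha, hb⟩, hw⟩
  have c : ∀ a b : S, a * b * a⁻¹ * b⁻¹ ∈ _root_.commutator S := fun a b =>
    commutator_mem_commutator (mem_top a) (mem_top b)
  have h1 : inr zz ∈ _root_.commutator S := by
    have : inr zz = inr x1 * inr x2 * (inr x1)⁻¹ * (inr x2)⁻¹ := by decide
    rw [this]; exact c _ _
  have h2 : inr x.u ∈ _root_.commutator S := by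
    have e : ∀ u : Hs, u.a = 0 → u.b = 0 → u = 1 ∨ u = zz ∨ u = zz * zz := by decide
    rcases e x.u ha hb with e | e | e <;> rw [e]
    · exact one_mem _
    · exact h1
    · rw [inr_mul]; exact mul_mem h1 h1
  have h3 : inl x.j ∈ _root_.commutator S := by
    have e : ∀ p q r s t : K, (⟨p, q, r, s, t, 0⟩ : V) =
        (⟨0, p - q, 0, -q, -r, 0⟩ - act x1 ⟨0, p - q, 0, -q, -r, 0⟩) +
          (⟨0, 0, 0, 0, s - t, -t⟩ - act x2 ⟨0, 0, 0, 0, s - t, -t⟩) := by decide +kernel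
    have e' : x.j = ⟨x.j.p, x.j.q, x.j.r, x.j.s, x.j.t, 0⟩ := V.ext rfl rfl rfl rfl rfl hw
    rw [e', e, inl_add]
    exact mul_mem (comm_inl_eq _ (inr x1) ▸ c _ _) (comm_inl_eq _ (inr x2) ▸ c _ _)
  rw [← inl_mul_inr x]
  exact mul_mem h3 h2

private theorem cm_le : _root_.commutator S ≤ E3 := commutator_le.2 fun x _ y _ => by
  simp [commutatorElement_def, act]

private theorem tri0 (φ : MulAut S) {x : S} (ha : x.u.a = 0) (hb : x.u.b = 0) :
    (φ x).u.a = 0 ∧ (φ x).u.b = 0 := by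
  have k : ∀ y, (φ x).u * y = y * (φ x).u := fun y => by
    have h1 : x * φ⁻¹ (inr y) * x⁻¹ * (φ⁻¹ (inr y))⁻¹ ∈ Js := by
      rw [mem_Js]
      ext <;> simp [ha, hb]
    have h2 := aut_J φ h1
    rw [map_mul, map_mul, map_mul, map_inv, map_inv, MulAut.apply_inv_self, mem_Js] at h2
    simp only [S.mul_u, S.inv_u, inr_u] at h2
    rwa [mul_inv_eq_one, mul_inv_eq_iff_eq_mul] at h2
  have h1 := congrArg Hs.c (k x1)
  have h2 := congrArg Hs.c (k x2)
  simp [x1, x2] at h1 h2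
  exact ⟨h2, h1⟩

private theorem tri1 (φ : MulAut S) {v : V} (hv : v ∈ V3) : ∃ w ∈ V3, φ (inl v) = inl w := by
  obtain ⟨w, e⟩ : ∃ w, φ (inl v) = inl w := ⟨_, eq_inl (aut_J φ (inl_mem v))⟩
  refine ⟨w, ?_, e⟩
  obtain ⟨y, hy⟩ := φ.surjective (inr zz)
  have h0 : y.u.a = 0 := by
    have := (tri0 φ⁻¹ (x := φ y) (by rw [hy]; rfl) (by rw [hy]; rfl)).1
    rwa [MulAut.inv_apply_self] at this
  have h1 : y * inl v = inl v * y := comm_inl.2 (api_Aln (mem_Aln.2 h0) hv)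
  have h2 : inr zz * inl w = inl w * inr zz := by rw [← hy, ← e, ← map_mul, h1, map_mul]
  have h3 : act (inr zz).u w = w := (comm_inl (x := inr zz)).1 h2
  rw [inr_u] at h3
  exact fix_zz.1 h3

/-- With `g` from `exists_resS`: `φ` preserves `Js`, `{a = b = 0}` (the elements whose image is central in `Hs`), so `g` preserves `V3` (`fix_zz`),
`φ` preserves `E1 = C_S(up V3)`, and `g` preserves `J5` (spanned by the `act u v - v`). -/
theorem aut_tri (φ : MulAut S) : (∀ x, x.u.a = 0 → (φ x).u.a = 0) ∧ (∀ x, x.u.a = 0 → x.u.b = 0 → (φ x).u.b = 0) ∧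
    ∀ x, x.u.a = 0 → x.u.b = 0 → x.j.w = 0 → (φ x).j.w = 0 := by
  refine ⟨fun x ha => ?_, fun x ha hb => (tri0 φ ha hb).2, fun x ha hb hw => ?_⟩
  · obtain ⟨w, hw, e⟩ := tri1 φ⁻¹ (v := es) (by simp [es])
    have h1 := congrArg φ (comm_inl.2 (api_Aln (u := x.u) ha hw))
    rw [map_mul, map_mul, ← e, MulAut.apply_inv_self] at h1
    simpa [act, es] using congrArg V.q (comm_inl.1 h1)
  · exact cm_le (characteristic_iff_le_comap.1 inferInstance φ (D_le ⟨⟨ha, hb⟩, hw⟩))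

private theorem lin {P : Subgroup S} {f h : S → K} (hf : ∀ x y, f (x * y) = f x + f y)
    (hh : ∀ x y, h (x * y) = h x + h y) (k : ∀ x ∈ P, h x = 0 → f x = 0) {x0 : S} (h0 : x0 ∈ P) (h1 : h x0 = 1)
    {x : S} (hx : x ∈ P) : f x = f x0 * h x := by
  rcases K3 (h x) with e | e | e
  · rw [e, mul_zero, k x hx e]
  · have := k _ (mul_mem (mul_mem hx h0) h0) (by rw [hh, hh, e, h1]; decide)
    rw [hf, hf] at this
    rw [e]
    generalize f x = a, f x0 = b at this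
    revert a b; decide
  · have := k _ (mul_mem hx h0) (by rw [hh, e, h1]; decide)
    rw [hf] at this
    rw [e]
    generalize f x = a, f x0 = b at this
    revert a b; decide

private theorem la (φ : MulAut S) (x : S) : (φ x).u.a = (φ (inr x1)).u.a * x.u.a :=
  lin (P := ⊤) (f := fun x => (φ x).u.a) (h := fun x => x.u.a) (fun _ _ => by simp) (fun _ _ => rfl)
    (fun x _ => (aut_tri φ).1 x) trivial rfl trivial

private theorem lb (φ : MulAut S) {x : S} (ha : x.u.a = 0) : (φ x).u.b = (φ (inr x2)).u.b * x.u.b :=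
  lin (P := E1) (f := fun x => (φ x).u.b) (h := fun x => x.u.b) (fun _ _ => by simp) (fun _ _ => rfl)
    (fun x => (aut_tri φ).2.1 x) rfl rfl ha

private theorem lw (φ : MulAut S) {x : S} (ha : x.u.a = 0) (hb : x.u.b = 0) :
    (φ x).j.w = (φ (inl ew)).j.w * x.j.w :=
  lin (P := E1 ⊓ E2) (f := fun x => (φ x).j.w) (h := fun x => x.j.w) (fun _ _ => by rw [map_mul, w_mul]) w_mul
    (fun x hx => (aut_tri φ).2.2 x hx.1 hx.2) ⟨rfl, rfl⟩ rfl ⟨ha, hb⟩

private theorem na (φ : MulAut S) : (φ (inr x1)).u.a ≠ 0 := fun e => by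
  have := (aut_tri φ⁻¹).1 _ e
  rw [MulAut.inv_apply_self] at this
  exact one_ne_zero this

private theorem nb (φ : MulAut S) : (φ (inr x2)).u.b ≠ 0 := fun e => by
  have := (aut_tri φ⁻¹).2.1 _ ((aut_tri φ).1 _ rfl) e
  rw [MulAut.inv_apply_self] at this
  exact one_ne_zero this

private theorem nw (φ : MulAut S) : (φ (inl ew)).j.w ≠ 0 := fun e => by
  have := (aut_tri φ⁻¹).2.2 _ ((aut_tri φ).1 _ rfl) ((aut_tri φ).2.1 _ rfl rfl) e
  rw [MulAut.inv_apply_self] at this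
  exact one_ne_zero this

/-- `χ φ = ((φ (inr x1)).u.a, (φ (inr x2)).u.b, (φ (inl ew)).j.w)`.  The coordinates `a, b, w` are homomorphisms `S → K`; by `aut_tri`
`(φ x).u.a = e1 x.u.a`, `(φ x).u.b = e2 x.u.b` on `E1`, `(φ x).j.w = e3 x.j.w` on `{a = b = 0}`.  An element of the kernel of order prime to `3` is trivial
on `S/D`, `D = {a = b = w = 0} = S'` (`zz, et, es, er, eq', ep` are commutators) and so trivial (Burnside: `AC.le_fix₁_sup…`/`frattini_nongenerating` in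
Fus/AutCop, Fus/Flag, or as in `Es.burn`). -/
theorem exists_χ : ∃ χ : MulAut S →* Kˣ × Kˣ × Kˣ, IsPGroup 3 χ.ker ∧ ∀ a b c, χ (tS a b c) = (a, b, c) := by
  refine ⟨MonoidHom.mk' (fun φ => (Units.mk0 _ (na φ), Units.mk0 _ (nb φ), Units.mk0 _ (nw φ))) fun φ ψ => ?_,
    AC.isPGroup_of_coprime fun φ hφ ho => ?_, fun a b c => ?_⟩
  · refine Prod.ext (Units.ext ?_) (Prod.ext (Units.ext ?_) (Units.ext ?_))
    · exact la φ _
    · exact lb φ ((aut_tri ψ).1 _ rfl)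
    · exact lw φ ((aut_tri ψ).1 _ rfl) ((aut_tri ψ).2.1 _ rfl rfl)
  · have e1 : (φ (inr x1)).u.a = 1 := congrArg (fun t : Kˣ × Kˣ × Kˣ => (t.1 : K)) hφ
    have e2 : (φ (inr x2)).u.b = 1 := congrArg (fun t : Kˣ × Kˣ × Kˣ => (t.2.1 : K)) hφ
    have e3 : (φ (inl ew)).j.w = 1 := congrArg (fun t : Kˣ × Kˣ × Kˣ => (t.2.2 : K)) hφ
    have a := aut_tri φ
    refine AC.eq_one_of_chain isPGroup_S ho
      (fun i => match i with | 0 => E1 ⊓ E2 ⊓ E3 | 1 => E1 ⊓ E2 | 2 => E1 | _ => ⊤) 3 rfl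
      (D_le.trans (Grp.PFrattini.commutator_le_frattini isPGroup_S)) (fun i hi x hx => ?_) fun i hi y hy => ?_
    · interval_cases i
      · exact ⟨⟨a.1 x hx.1.1, a.2.1 x hx.1.1 hx.1.2⟩, a.2.2 x hx.1.1 hx.1.2 hx.2⟩
      · exact ⟨a.1 x hx.1, a.2.1 x hx.1 hx.2⟩
      · exact a.1 x hx
    · have f1 : (y⁻¹ * φ y).u.a = 0 := by simp [la φ y, e1]
      have f2 : y.u.a = 0 → (y⁻¹ * φ y).u.b = 0 := fun h => by simp [lb φ h, e2]
      interval_cases i
      · refine ⟨⟨f1, f2 hy.1⟩, ?_⟩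
        change (y⁻¹ * φ y).j.w = 0
        rw [w_mul, lw φ hy.1 hy.2, e3]
        simp [act]
      · exact ⟨f1, f2 hy⟩
      · exact f1
  · refine Prod.ext (Units.ext ?_) (Prod.ext (Units.ext ?_) (Units.ext ?_)) <;>
      simp [ts, tv, x1, x2, ew]

/-- `T̂ = {tS a b c}` (order `8`) is a Sylow `2`-subgroup of `Aut S` (its index divides `|ker χ|`).  `A₀ ⊓ ker χ` is a normal `3`-subgroup of `A₀`, so
lies in `Inn`; `φ² ∈ Inn` for `φ ∈ A₀`; so `A₀ = Inn · Q` for a Sylow `2`-subgroup `Q` of `A₀` (`φ` has order dividing `2 · 3^n`: write `φ` as a product of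
its `2`- and `3`-parts; conjugate the `2`-part into `Q` by `a ∈ A₀`; `A₀/Inn` is abelian); choose `γ` with `γ Q γ⁻¹ ≤ T̂`. -/
theorem exists_form {A₀ : Subgroup (MulAut S)} (h1 : ∀ g, MulAut.conj g ∈ A₀)
    (h2 : SylIn 3 (MulAut.conj : S →* MulAut S).range A₀) :
    ∃ γ : MulAut S, Form (A₀.map (MulAut.conj γ).toMonoidHom) := by
  have : (MulAut.conj (G := S)).range.Normal := ⟨by
    rintro _ ⟨g, rfl⟩ α
    exact ⟨α g, MulEquiv.ext fun x => by simp⟩⟩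
  obtain ⟨χ, h3, h4⟩ := exists_χ
  obtain ⟨T, hT⟩ := tool_sub (fun φ : MulAut S => ∃ a b c, φ = tS a b c) ⟨1, 1, 1, tS_one.symm⟩ (by
    rintro _ _ ⟨a, b, c, rfl⟩ ⟨a', b', c', rfl⟩
    exact ⟨_, _, _, tS_mul _ _ _ _ _ _⟩)
  obtain ⟨γ, hγ⟩ := sz (T := T) h3 (fun φ => ⟨φ * (tS (χ φ).1 (χ φ).2.1 (χ φ).2.2)⁻¹, by
      rw [MonoidHom.mem_ker, map_mul, map_inv, h4, mul_inv_cancel], _, (hT _).2 ⟨_, _, _, rfl⟩,
      (inv_mul_cancel_right _ _).symm⟩)
    (by rintro _ ⟨g, rfl⟩; exact h1 g) h2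
  refine ⟨γ, ?_⟩
  rintro _ ⟨φ, hφ, rfl⟩
  obtain ⟨_, ⟨g, rfl⟩, t, ht, e⟩ := hγ φ hφ
  obtain ⟨a, b, c, rfl⟩ := (hT t).1 ht
  exact ⟨g, a, b, c, e⟩

end Cfsg.Agent.C3F
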