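import Cfsg.Agent.C3F.LocB

/-! Restrictions on the orbit of `e1²` (for S5227). -/

set_option autoImplicit false
set_option linter.unusedSimpArgs false

namespace Cfsg.Agent.C3F

open Subgroup Cfsg.Agent.Fus Cfsg.FusionSystem Cfsg.Agent.SpF

variable {Γ : Subgroup GV}

namespace LocC

theorem card_le (δ : GV) {A B : AddSubgroup V} (h : ∀ v ∈ A, δ v ∈ B) : Nat.card A ≤ Nat.card B :=
  Nat.card_le_card_of_injective (fun v : A => (⟨δ v, h v v.2⟩ : B)) fun _ _ e =>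
    Subtype.ext (δ.injective (congrArg Subtype.val e))

theorem app {δ : GV} {u u' : Hs} (e : δ * ρ u * δ⁻¹ = ρ u') (v : V) : act u' (δ v) = δ (act u v) := by
  simpa using (DFunLike.congr_fun e (δ v)).symm

theorem key {δ : GV} (h : ∀ u ∈ Aln, ∃ u', δ * ρ u * δ⁻¹ = ρ u') : Nm Aln δ := by
  let R : Subgroup Hs := ((Aln.map ρ).map (MulAut.conj δ).toMonoidHom).comap ρ
  choose! f hf using h
  have m : ∀ u ∈ Aln, f u ∈ R := fun u hu => ⟨_, ⟨u, hu, rfl⟩, hf u hu⟩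
  have c : 9 ≤ Nat.card R := card_Aln ▸ Nat.card_le_card_of_injective (fun u : Aln => (⟨f u, m u u.2⟩ : R))
    fun a b e => Subtype.ext (ρ_inj ((MulAut.conj δ).injective ((hf a a.2).trans
      ((congrArg (fun x : R => ρ x) e).trans (hf b b.2).symm))))
  have hz : zz ∈ R := by
    rcases sub_cases R with e | ⟨x, hx, e⟩ | e | e | ⟨e, -, k⟩ | e
    · rw [e, card_bot] at c; omega
    · rw [card_cyc hx e] at c; omega
    · rw [e]; rfl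
    · rw [e]; rfl
    · rw [k]; simp [zz]
    · rw [e]; trivial
  have fx : ∀ u ∈ R, ∀ v ∈ V3, act u (δ v) = δ v := by
    rintro u ⟨_, ⟨a, ha, rfl⟩, e⟩ v hv
    rw [app e, fix_Aln.2 hv a ha]
  refine fun u hu => ⟨f u, by_contra fun e => ?_, hf u hu⟩
  have := card_le δ fun v hv => fix_zz_a e (fx _ hz v hv) (fx _ (m u hu) v hv)
  rw [card_V3, card_Zv] at this
  omega

theorem tr {g : GV} {u u' : Hs} (hu : u ∈ Apt) (h1 : u ≠ 1) (hu' : u' ∈ Apt) (e : g * ρ u * g⁻¹ = ρ u') :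
    g ep ∈ Zv := by
  obtain ⟨x, hx⟩ := n2_Apt hu h1
  rw [← hx]
  simp only [map_sub, ← app e]
  simpa only [act_sub] using n2_iff.2 hu' (g x)

theorem pm {γ : GV} (h : γ ep ∈ Zv) : γ ep = ep ∨ γ ep = -ep :=
  (mem_Zv_iff.1 h).resolve_left fun e => absurd (γ.map_eq_zero_iff.1 e) (by decide)

theorem bz (h : GH Γ) {γ : GV} (hγ : γ ∈ Γ) (hn : Nm ⊤ γ) : γ ep = ep ∨ γ ep = -ep := by
  obtain ⟨u, a, b, c, rfl⟩ := h.bor' hγ hn
  exact pm (by simp [act, tv, ep])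

theorem pH : IsPGroup 3 Hs := IsPGroup.of_card (n := 3) Hs.card

theorem fz {γ : GV} {u : Hs} (h : act u (γ ep) = γ ep) : (γ⁻¹ * ρ u * γ⁻¹⁻¹) ep ∈ Zv := by
  rw [inv_inv, GV.mul_apply, GV.mul_apply, ρ_apply, h, GV.inv_apply_self]
  simp [ep]

theorem cube (γ : GV) (u : Hs) : (γ * ρ u * γ⁻¹) ^ 3 = 1 := by
  rw [conj_pow, ← map_pow, Hs.cube, map_one, mul_one, mul_inv_cancel]

end LocC

open LocC

/-- An element of order dividing `3` of the Borel subgroup lies in `U0`: `(ρ u t)³ = ρ u' t` (`tV_conj`, `t² = 1`), and `t ∈ U0`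
has order dividing `2` and `3`. -/
theorem GH.three (h : GH Γ) {γ : GV} (hγ : γ ∈ Γ) (hn : Nm ⊤ γ) (h3 : γ ^ 3 = 1) : ∃ u, γ = ρ u := by
  have p : IsPGroup 3 (zpowers γ) := fun ⟨_, i, rfl⟩ => ⟨1, Subtype.ext (by
    change (γ ^ i) ^ 3 = 1
    rw [← zpow_natCast, ← zpow_mul, mul_comm, zpow_mul, zpow_natCast, h3, one_zpow])⟩
  have n : γ ∈ normalizer (U0 : Set GV) := mem_normalizer_fintype (by
    rintro _ ⟨u, rfl⟩
    obtain ⟨u', -, e⟩ := hn u trivial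
    exact ⟨u', e.symm⟩)
  obtain ⟨u, e⟩ := (h.syl.eq_of_le h.le (p.to_sup_of_normal_right' (h.syl.isPGroup h.le) (zpowers_le.2 n))
    le_sup_right (sup_le (zpowers_le.2 hγ) h.le)).le (mem_sup_left (mem_zpowers γ))
  exact ⟨u, e.symm⟩

/-- `v = ± γ ep` is fixed by `ρ Aln`, so `γ⁻¹ ρ Aln γ` is a `3`-subgroup of the stabilizer `P` of `Zv` (`exists_stab`); changing `γ` by an element of
`P` it lies in `U0`, equal to `ρ R` with `|R| = 9` fixing `γ⁻¹ V3` (order `27`) pointwise, so `R = Aln` (`sub_cases`, `fix_zz_a`). -/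
theorem GH.exists_nm (h : GH Γ) {v : V} (hv : v ∈ Orb Γ) (h3 : v ∈ V3) :
    ∃ γ ∈ Γ, Nm Aln γ ∧ (v = γ ep ∨ v = -γ ep) := by
  obtain ⟨γ, hγ, e⟩ := hv
  have m : γ ep ∈ V3 := by
    rcases e with rfl | rfl
    exacts [h3, neg_mem_iff.1 h3]
  obtain ⟨P, hP, -, s⟩ := h.exists_stab
  obtain ⟨g, hg, k⟩ := s.exists_conj (B := (Aln.map ρ).map (MulAut.conj γ⁻¹).toMonoidHom)
    (((pH.to_subgroup Aln).map ρ).map _) (by
      rintro _ ⟨_, ⟨u, hu, rfl⟩, rfl⟩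
      exact (hP _).2 ⟨mul_mem (mul_mem (inv_mem hγ) (h.ρ_mem u)) (inv_mem (inv_mem hγ)), fz (fix_Aln.2 m u hu)⟩)
  have g1 := (hP _).1 (inv_mem hg)
  refine ⟨γ * g⁻¹, mul_mem hγ g1.1, ?_, ?_⟩
  · rw [← inv_inv (γ * g⁻¹)]
    refine Nm.inv (key fun u hu => ?_)
    obtain ⟨u', e⟩ := k _ ⟨_, ⟨u, hu, rfl⟩, rfl⟩
    exact ⟨u', by rw [e]; simp [mul_assoc]⟩
  · rcases pm g1.2 with a | a <;> rcases e with rfl | rfl <;> simp [a]

/-- If `γ` (from `exists_nm`) normalizes `U0` then `v = ± ep` (`bor'`).  Otherwise `c1 k ∈ Γ`, `γ ρ zz γ⁻¹ = ρ (0, b, c)`, `b ≠ 0` (`nmB`), and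
for `w = ρ x1^i c1 k`, `w⁻¹ γ` normalizes `⟨ρ zz⟩`, hence `U0`: `v = ± w ep = ± act x1^i (sq 1 1 0)` has label `3`. -/
theorem GH.c1 (h : GH Γ) {v : V} (hv : v ∈ Orb Γ) (h3 : v ∈ V3) : lab v = 17 ∨ (lab v = 3 ∧ ∃ k, c1 k ∈ Γ) := by
  obtain ⟨γ, hγ, hn, e⟩ := h.exists_nm hv h3
  by_cases t : Nm ⊤ γ
  · rcases bz h hγ t with a | a <;> rcases e with rfl | rfl <;> rw [a] <;> exact .inl (by decide +kernel)
  obtain ⟨k, hk⟩ := h.actB hγ hn t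
  obtain ⟨⟨a, b, c⟩, (rfl : a = 0), e1⟩ := hn zz rfl
  have b0 : b ≠ 0 := by rintro rfl; exact t (h.nmB hγ hn e1)
  have nw : Nm Aln (ρ ⟨c * b - 1, 0, 0⟩ * C3F.c1 k) := Nm.mul
    (fun u hu => ⟨⟨c * b - 1, 0, 0⟩ * u * ⟨c * b - 1, 0, 0⟩⁻¹, by simp [mem_Aln.1 hu], by rw [map_mul, map_mul, map_inv]⟩)
    (by rintro ⟨a, b, c⟩ (rfl : a = 0); exact ⟨⟨0, b + c, c⟩, rfl, c1_conj k b c⟩)
  have e2 : ρ ⟨c * b - 1, 0, 0⟩ * C3F.c1 k * ρ ⟨0, 0, b⟩ * (ρ ⟨c * b - 1, 0, 0⟩ * C3F.c1 k)⁻¹ = ρ ⟨0, b, c⟩ := by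
    rw [mul_inv_rev, ← mul_assoc, mul_assoc _ (C3F.c1 k), mul_assoc _ (C3F.c1 k * _), c1_conj, ← map_inv, ← map_mul,
      ← map_mul]
    congr 1
    clear e1 nw
    revert b c
    decide +kernel
  have hw := mul_mem (h.ρ_mem ⟨c * b - 1, 0, 0⟩) hk
  have e3 : (ρ ⟨c * b - 1, 0, 0⟩ * C3F.c1 k) ep = act ⟨c * b - 1, 0, 0⟩ (sq 1 1 0) := by
    ext <;> simp [C3F.c1, ηV, y1, ep, sq, act]
  have e4 : ∀ i : K, lab (act ⟨i, 0, 0⟩ (sq 1 1 0)) = 3 ∧ lab (-act ⟨i, 0, 0⟩ (sq 1 1 0)) = 3 := by decide +kernel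
  generalize ρ ⟨c * b - 1, 0, 0⟩ * C3F.c1 k = w at nw e2 hw e3
  have := bz h (mul_mem (inv_mem hw) hγ) (h.nmB (mul_mem (inv_mem hw) hγ) (nw.inv.mul hn) (c := b) (by
    rw [show w⁻¹ * γ * ρ zz * (w⁻¹ * γ)⁻¹ = w⁻¹ * (γ * ρ zz * γ⁻¹) * w by group, e1, ← e2]; group))
  have e5 : γ ep = w ((w⁻¹ * γ) ep) := by simp
  refine .inr ⟨?_, k, hk⟩
  rcases this with a | a <;> rcases e with rfl | rfl <;> simp only [e5, a, map_neg, neg_neg, e3, e4]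

/-- `v = ± γ ep`; `γ⁻¹ ρ x1 γ` fixes `ep`, so equals `ρ u` (`three`), `u ≠ 1` fixing a subspace of order `27`: `u ∈ Apt` or `u ∈ Aln`
(`card_fix_reg`).  If `u ∈ Apt`, `n2_Apt` and `n2_iff` give `γ ep ∈ Zv`.  If `u ∈ Aln`, each `γ ρ b γ⁻¹` (`b ∈ Aln`) commutes with `ρ x1`, so
preserves `Zv` (`n2_Apt`), lies in `U0` (`three`) and centralizes `x1`, so lies in `ρ Apt`; by orders these exhaust `ρ Apt`, which then
fixes `γ V3` pointwise: `27 ≤ 3`. -/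
theorem GH.c2 (h : GH Γ) (hn : ∀ γ ∈ Γ, γ ep ∈ Zv → Nm ⊤ γ) {v : V} (hv : v ∈ Orb Γ) (h1 : act x1 v = v) : v ∈ Zv := by
  obtain ⟨γ, hγ, e⟩ := hv
  suffices γ ep ∈ Zv by
    rcases e with rfl | rfl
    exacts [this, neg_mem this]
  have m : act x1 (γ ep) = γ ep := by
    rcases e with rfl | rfl
    exacts [h1, neg_injective (act_neg _ _ ▸ h1)]
  have U : ∀ δ ∈ Γ, ∀ u, (δ * ρ u * δ⁻¹) ep ∈ Zv → ∃ u', δ * ρ u * δ⁻¹ = ρ u' := fun δ hδ u k =>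
    have := mul_mem (mul_mem hδ (h.ρ_mem u)) (inv_mem hδ)
    h.three this (hn _ this k) (cube δ u)
  obtain ⟨u, e1⟩ := U _ (inv_mem hγ) x1 (fz m)
  have e2 : γ * ρ u * γ⁻¹ = ρ x1 := by rw [← e1]; group
  have u1 : u ≠ 1 := by
    rintro rfl
    rw [map_one, mul_one, mul_inv_cancel, ← map_one ρ] at e2
    exact absurd (ρ_inj e2) (by decide)
  by_cases hb : u.b = 0
  · exact tr hb u1 rfl e2
  by_cases ha : u.a = 0
  · obtain ⟨u', k1, k2⟩ := key (fun b hb => U γ hγ b (tr (u := x1) (u' := x1) rfl (by decide) rfl (by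
      have : b * u = u * b := by ext <;> simp [ha, mem_Aln.1 hb, add_comm]
      rw [← e2, conj_mul, ← map_mul, this, map_mul, ← conj_mul, mul_inv_cancel_right]))) u ha
    exact absurd (mem_Aln.1 (ρ_inj (e2.symm.trans k2) ▸ k1 : x1 ∈ Aln)) (by decide)
  have c := card_fix_reg ha hb (W := (cs true false true true false).comap γ.toAddEquiv.toAddMonoidHom)
    fun v hv => γ.injective ((app e2 v).symm.trans (by
      obtain ⟨a, -, b, c, -⟩ : γ v ∈ cs true false true true false := hv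
      ext <;> simp [act, x1, a, b, c]))
  have := (card_le γ⁻¹ (A := cs true false true true false) fun v hv => by simpa using hv).trans c
  rw [api_cardV (fun v => v.q = 0 ∧ v.s = 0 ∧ v.t = 0) fun v => by simp [cs, ← SetLike.mem_coe]] at this
  exact absurd this (by decide +kernel)

end Cfsg.Agent.C3F
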