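import Cfsg.Agent.C3F.Api

/-! Finite facts on `ΓL` (order `5616`), `ΓL2`, `ΓM` (order `190080`) (for S5227; all checked by computer).  Find words by breadth-first
search in python (basis images as in `Def`), check equalities in `GV` by `aut_ext6` and `decide`; invariance under generators by
`closure_induction` (inverses: the generators have order `3` or `2`) and `decide +kernel` over `V`. -/

set_option autoImplicit false
set_option linter.unusedSimpArgs false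

namespace Cfsg.Agent.C3F

open Subgroup Cfsg.Agent.Fus Cfsg.FusionSystem Cfsg.Agent.SpF

theorem orb_inv {P : V → Prop} {s : Set GV} (h : ∀ g ∈ s, ∀ v, P v → P (g v)) {γ : GV}
    (hγ : γ ∈ closure s) : ∀ v, P v → P (γ v) := by
  let M : Submonoid GV :=
    { carrier := {γ | ∀ v, P v → P (γ v)}
      one_mem' := fun _ h => h
      mul_mem' := fun ha hb v h => ha _ (hb v h) }
  change γ ∈ M
  induction hγ using closure_induction with
  | mem x hx => exact h x hx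
  | one => exact M.one_mem
  | mul x y _ _ hx hy => exact M.mul_mem hx hy
  | inv x _ hx =>
    exact Submonoid.powers_le.2 hx
      ((isOfFinOrder_of_finite x).mem_powers_iff_mem_zpowers.2 (inv_mem (mem_zpowers x)))

theorem orb_U0 {Γ : Subgroup GV} (h1 : ρ x1 ∈ Γ) (h2 : ρ x2 ∈ Γ) : U0 ≤ Γ := by
  rintro _ ⟨u, rfl⟩
  have : ∀ u : Hs, ∃ i j k : Fin 3, u = (x1 * x2 * x1⁻¹ * x2⁻¹) ^ k.1 * x1 ^ i.1 * x2 ^ j.1 := by
    decide +kernel
  obtain ⟨i, j, k, rfl⟩ := this u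
  change _ ∈ Γ.comap ρ at h1 h2 ⊢
  exact mul_mem (mul_mem (pow_mem (mul_mem (mul_mem (mul_mem h1 h2) (inv_mem h1)) (inv_mem h2)) _)
    (pow_mem h1 _)) (pow_mem h2 _)

/-- the value of a word -/
def evw (a b c d : GV) : List ℕ → GV
  | [] => 1
  | 0 :: w => a * evw a b c d w
  | 1 :: w => b * evw a b c d w
  | 2 :: w => c * evw a b c d w
  | _ :: w => d * evw a b c d w

theorem evw_mem {a b c d : GV} (w : List ℕ) : evw a b c d w ∈ closure {a, b, c, d} := by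
  fun_induction evw a b c d w with
  | case1 => exact one_mem _
  | case2 _ ih => exact mul_mem (subset_closure (by simp)) ih
  | case3 _ ih => exact mul_mem (subset_closure (by simp)) ih
  | case4 _ ih => exact mul_mem (subset_closure (by simp)) ih
  | case5 _ _ _ _ _ ih => exact mul_mem (subset_closure (by simp)) ih

theorem orb_eq {f g : GV} (h : ∀ v ∈ [ep, eq', er, es, et, ew], f v = g v) : f = g :=
  aut_ext6 (h _ (by simp)) (h _ (by simp)) (h _ (by simp)) (h _ (by simp)) (h _ (by simp)) (h _ (by simp))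

theorem orb_L {γ : GV} (w : List ℕ) (h : ∀ v ∈ [ep, eq', er, es, et, ew], γ v = evw (ρ x1) (ρ x2) y1 y2 w v) :
    γ ∈ ΓL := orb_eq h ▸ evw_mem w

theorem orb_M {γ : GV} (w : List ℕ)
    (h : ∀ v ∈ [ep, eq', er, es, et, ew], γ v = evw (ρ x1) (ρ x2) (c1 1) y2 w v) : γ ∈ ΓM :=
  orb_eq h ▸ evw_mem w

/-- representatives of the labels -/
def orp : ℕ → V
  | 0 => ⟨1, 1, 1, 1, 1, 1⟩
  | 3 => ⟨1, 1, 0, 1, 0, 0⟩
  | 4 => ⟨1, 0, 2, 1, 1, 2⟩
  | 7 => ⟨1, 0, 1, 1, 0, 0⟩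
  | 9 => ⟨1, 1, 2, 0, 2, 2⟩
  | 10 => ⟨1, 2, 0, 2, 2, 0⟩
  | 11 => ⟨2, 1, 0, 2, 2, 2⟩
  | 13 => ⟨0, 2, 1, 0, 0, 2⟩
  | 15 => ⟨1, 1, 1, 0, 2, 1⟩
  | _ => ⟨1, 0, 0, 0, 0, 0⟩

theorem orp_spec : ∀ v, lab v ∈ LM → ∃ u, v = act u (orp (lab v)) ∨ v = -act u (orp (lab v)) ∨
    v = t3 (act u (orp (lab v))) ∨ v = -t3 (act u (orp (lab v))) := by
  rw [V.forall_iff]
  decide +kernel

theorem orb_mem {Γ : Subgroup GV} (h1 : U0 ≤ Γ) (h2 : t3 ∈ Γ) {v : V} (hv : lab v ∈ LM)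
    (h : ∃ γ ∈ Γ, orp (lab v) = γ ep) : v ∈ Orb Γ := by
  obtain ⟨γ, hγ, e⟩ := h
  obtain ⟨u, hu⟩ := orp_spec v hv
  rw [e] at hu
  have k : ρ u * γ ∈ Γ := mul_mem (h1 ⟨u, rfl⟩) hγ
  rcases hu with c | c | c | c
  exacts [⟨_, k, .inl c⟩, ⟨_, k, .inr c⟩, ⟨_, mul_mem h2 k, .inl c⟩, ⟨_, mul_mem h2 k, .inr c⟩]

theorem U0_le_L : U0 ≤ ΓL := orb_U0 (subset_closure (by simp)) (subset_closure (by simp))
theorem U0_le_M : U0 ≤ ΓM := orb_U0 (subset_closure (by simp)) (subset_closure (by simp))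
theorem PZ_le_L : PZ ≤ ΓL := (closure_le _).2 (by
  rintro _ (rfl | rfl | rfl | rfl | rfl)
  exacts [evw_mem [0], evw_mem [1], evw_mem [3], orb_L [1, 3, 1, 3] (by decide +kernel),
    orb_L [0, 2, 0, 2] (by decide +kernel)])
theorem PZ_le_M : PZ ≤ ΓM := (closure_le _).2 (by
  rintro _ (rfl | rfl | rfl | rfl | rfl)
  exacts [evw_mem [0], evw_mem [1], evw_mem [3], orb_M [1, 3, 1, 3] (by decide +kernel),
    orb_M [0, 2, 0, 2] (by decide +kernel)])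
theorem L_le_L2 : ΓL ≤ ΓL2 := closure_mono (by
  rintro _ (rfl | rfl | rfl | rfl) <;> simp)
theorem ng_mem_L2 : ng ∈ ΓL2 := subset_closure (by simp)
theorem ng_mem_M : ng ∈ ΓM :=
  orb_M [0, 0, 1, 2, 3, 2, 0, 3, 1, 1, 2, 3, 2, 3, 1, 0, 2, 3, 2, 3] (by decide +kernel)
/-- `ΓL` preserves the set of squares `sq a b c`, and `-ep` is not a square. -/
theorem ng_not_L : ng ∉ ΓL := fun h => by
  have k : ∀ g ∈ [ρ x1, ρ x2, y1, y2], ∀ a b c, ∃ a' b' c', g (sq a b c) = sq a' b' c' := by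
    decide +kernel
  have := orb_inv (P := fun v => ∃ a b c, v = sq a b c) (fun g hg => by
    rintro _ ⟨a, b, c, rfl⟩
    exact k g (by simpa using hg) a b c) h ep ⟨1, 0, 0, by decide⟩
  revert this
  decide +kernel
theorem lab_L {γ : GV} (h : γ ∈ ΓL2) {v : V} (hv : lab v ∈ LL) : lab (γ v) ∈ LL := by
  have k : ∀ g ∈ [ρ x1, ρ x2, y1, y2, ng], ∀ p q r s t w, lab ⟨p, q, r, s, t, w⟩ ∈ LL →
      lab (g ⟨p, q, r, s, t, w⟩) ∈ LL := by decide +kernel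
  exact orb_inv (P := fun v => lab v ∈ LL) (fun g hg v => k g (by simpa using hg) _ _ _ _ _ _) h v hv
/-- Three words (one for each label) and `∀ v, ∃ u e e', v = tV 1 e e' (act u (rep (lab v)))`. -/
theorem mem_orb_L {v : V} (hv : lab v ∈ LL) : v ∈ Orb ΓL := by
  have k : ∀ l ∈ LL, l ∈ LM ∧ ∃ w ∈ [[], [2], [3, 2]], orp l = evw (ρ x1) (ρ x2) y1 y2 w ep := by
    decide +kernel
  obtain ⟨h, w, -, e⟩ := k _ hv
  exact orb_mem U0_le_L (PZ_le_L (subset_closure (by simp))) h ⟨_, evw_mem w, e⟩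
theorem mem_orb_M {v : V} (hv : lab v ∈ LM) : v ∈ Orb ΓM := by
  have k : ∀ l ∈ LM, ∃ w ∈ [[], [2], [3, 2], [2, 3, 2], [3, 2, 3, 2], [2, 3, 2, 3, 2], [3, 1, 2, 3, 2],
      [2, 0, 3, 2, 3, 2], [2, 3, 2, 0, 3, 2], [2, 0, 0, 3, 2, 3, 2]],
      orp l = evw (ρ x1) (ρ x2) (c1 1) y2 w ep := by decide +kernel
  obtain ⟨w, -, e⟩ := k _ hv
  exact orb_mem U0_le_M (PZ_le_M (subset_closure (by simp))) hv ⟨_, evw_mem w, e⟩
theorem not_Pi_L2 : ¬ Pi ΓL2 := by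
  rintro ⟨γ, hγ, h⟩
  have k : ∀ v, lab v ∈ LL → ∃ u : Hs, act u v = v ∧ u ≠ 1 := by
    rw [V.forall_iff]
    decide +kernel
  obtain ⟨u, h1, h2⟩ := k _ (lab_L hγ (v := ep) (by decide +kernel))
  exact h2 (h u h1)
theorem Pi_M : Pi ΓM := ⟨_, evw_mem [2, 3, 2], by decide +kernel⟩
/-- test `v = ew` -/
theorem c1_L {k : K} (h : ∀ v, lab v ∈ LL → lab (c1 k v) ∈ LL) : k = 0 := by
  have := h ew (by decide +kernel)
  revert this
  clear h
  revert k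
  decide +kernel
/-- test `v = ew` and `v = ⟨0, 0, 1, 1, 0, 2⟩` -/
theorem c1_M {k : K} (h : ∀ v, lab v ∈ LM → lab (c1 k v) ∈ LM) : k = 1 := by
  have h1 := h ew (by decide +kernel)
  have h2 := h ⟨0, 0, 1, 1, 0, 2⟩ (by decide +kernel)
  revert h1 h2
  clear h
  revert k
  decide +kernel
theorem c1_zero : c1 0 = y1 := by rw [c1, ηV_zero, one_mul, inv_one, mul_one]
theorem reg_L {v : V} (hv : lab v ∈ LL) {u : Hs} (ha : u.a ≠ 0) (hb : u.b ≠ 0) (h : act u v = v) : v ∈ Zv := by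
  have k : ∀ p q r s t w, lab ⟨p, q, r, s, t, w⟩ ∈ LL → ∀ u : Hs, u.a ≠ 0 → u.b ≠ 0 →
      act u ⟨p, q, r, s, t, w⟩ = ⟨p, q, r, s, t, w⟩ → q = 0 ∧ r = 0 ∧ s = 0 ∧ t = 0 ∧ w = 0 := by
    decide +kernel
  exact mem_Zv.2 (k _ _ _ _ _ _ hv u ha hb h)
theorem lab_es : lab es = 3 := by decide +kernel
theorem lab_ep : lab ep = 17 := by decide +kernel
theorem lab_17 {v : V} (h : lab v = 17) : v ∈ Zv := by
  have k : ∀ p q r s t w, lab ⟨p, q, r, s, t, w⟩ = 17 → q = 0 ∧ r = 0 ∧ s = 0 ∧ t = 0 ∧ w = 0 := by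
    decide +kernel
  exact mem_Zv.2 (k _ _ _ _ _ _ h)

end Cfsg.Agent.C3F
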