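import Cfsg.Agent.C3F.LocA
import Cfsg.Agent.C3F.LocC
import Cfsg.Agent.C3F.Hom
import Cfsg.Agent.C3F.Orb

/-! The possible automizers of `J` (for S5227). -/

set_option autoImplicit false
set_option linter.unusedSimpArgs false

namespace Cfsg.Agent.C3F

open Subgroup Cfsg.Agent.Fus Cfsg.FusionSystem Cfsg.Agent.SpF

variable {Γ : Subgroup GV}

/-- `ηV k` commutes with `U0` and the torus; `SylIn.map`. -/
theorem GH.conj (h : GH Γ) (k : K) : GH (Γ.map (MulAut.conj (ηV k)).toMonoidHom) := by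
  have m : ∀ γ ∈ Γ, ηV k * γ = γ * ηV k → γ ∈ Γ.map (MulAut.conj (ηV k)).toMonoidHom := fun γ hγ e =>
    ⟨γ, hγ, by change ηV k * γ * (ηV k)⁻¹ = γ; rw [e, mul_inv_cancel_right]⟩
  have cu : ∀ u ∈ U0, ηV k * u = u * ηV k := by
    rintro _ ⟨u, rfl⟩
    exact ηV_comm_ρ k u
  have eU : U0.map (MulAut.conj (ηV k)).toMonoidHom = U0 := by
    refine le_antisymm ?_ fun u hu => ⟨u, hu, ?_⟩
    · rintro _ ⟨u, hu, rfl⟩
      change ηV k * u * (ηV k)⁻¹ ∈ U0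
      rwa [cu u hu, mul_inv_cancel_right]
    · change ηV k * u * (ηV k)⁻¹ = u
      rw [cu u hu, mul_inv_cancel_right]
  refine ⟨fun u hu => m u (h.le hu) (cu u hu), ?_, m _ h.t3 (ηV_comm_tV k _ _ _), ?_⟩
  · have := h.syl.map h.le (MulAut.conj (ηV k)).toMonoidHom
    rwa [eU] at this
  · rintro _ ⟨γ, hγ, rfl⟩ hn
    obtain ⟨u, e1, e2, e3, rfl⟩ := h.bor γ hγ fun u hu => by
      have h1 : ηV k * γ * (ηV k)⁻¹ * u * (ηV k * γ * (ηV k)⁻¹)⁻¹ ∈ U0 := hn u hu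
      have h2 := cu _ h1
      have h3 : γ * u * γ⁻¹ = ηV k * γ * (ηV k)⁻¹ * u * (ηV k * γ * (ηV k)⁻¹)⁻¹ := by
        calc γ * u * γ⁻¹ = γ * (ηV k)⁻¹ * (ηV k * u) * γ⁻¹ := by group
          _ = (ηV k)⁻¹ * (ηV k * γ * (ηV k)⁻¹ * u * (ηV k * γ * (ηV k)⁻¹)⁻¹ * ηV k) := by
            rw [cu u hu]; group
          _ = _ := by rw [← h2]; group
      rwa [h3]
    refine ⟨u, e1, e2, e3, ?_⟩
    change ηV k * (ρ u * tV e1 e2 e3) * (ηV k)⁻¹ = _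
    rw [← mul_assoc, ηV_comm_ρ, mul_assoc (ρ u), ηV_comm_tV, ← mul_assoc, mul_inv_cancel_right]

/-- If `Δ ≤ Γ`, `PZ ≤ Δ` and `Orb Γ ⊆ Orb Δ`, every `γ ∈ Γ` has `w⁻¹ γ ep = ± ep` for some `w ∈ Δ`; `stabZ`. -/
theorem GH.le_of_orb (h : GH Γ) (h1 : y2 ∈ Γ) (h2 : t2 ∈ Γ) {Δ : Subgroup GV} (hΔ : Δ ≤ Γ) (hP : PZ ≤ Δ)
    (ho : Orb Γ ⊆ Orb Δ) {γ : GV} (hγ : γ ∈ Γ) : γ ∈ Δ ∨ (ng ∈ Γ ∧ γ * ng ∈ Δ) := by
  obtain ⟨w, hw, e⟩ := ho (⟨γ, hγ, Or.inl rfl⟩ : γ ep ∈ Orb Γ)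
  have hz : (w⁻¹ * γ) ep ∈ Zv := by
    rw [mem_Zv_iff, GV.mul_apply]
    rcases e with e | e
    · rw [e, GV.inv_apply_self]; exact Or.inr (Or.inl rfl)
    · rw [e, map_neg, GV.inv_apply_self]; exact Or.inr (Or.inr rfl)
  rcases h.stabZ h1 h2 (mul_mem (inv_mem (hΔ hw)) hγ) hz with h3 | ⟨h3, h4⟩
  · exact Or.inl ((Subgroup.mul_mem_cancel_left _ (inv_mem hw)).1 (hP h3))
  · refine Or.inr ⟨h3, (Subgroup.mul_mem_cancel_left _ (inv_mem hw)).1 ?_⟩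
    rw [← mul_assoc]; exact hP h4

/-- `homB` with `GH.c1`; in the last two cases `es ∈ Orb Γ` has label `3`, so `c1 k ∈ Γ`, `k` by `c1_L`, `c1_M`; `le_of_orb`. -/
theorem GH.casesB (h : GH Γ) (h1 : y2 ∈ Γ) (h2 : t2 ∈ Γ) : (∀ γ ∈ Γ, γ ep ∈ Zv) ∨ Γ = ΓL ∨ Γ = ΓL2 ∨ Γ = ΓM := by
  have c : es ∈ Orb Γ → ∃ k, C3F.c1 k ∈ Γ := fun he => by
    rcases h.c1 he (by simp [es]) with h3 | h3
    · rw [lab_es] at h3; exact absurd h3 (by decide)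
    · exact h3.2
  rcases homB h.le h.t3 h1 h2 (fun v hv h3 => (h.c1 hv h3).imp_right And.left) with ho | ho | ho
  · exact Or.inl fun γ hγ => ho _ ⟨γ, hγ, Or.inl rfl⟩
  · obtain ⟨k, hk⟩ := c ((ho _).2 (by rw [lab_es]; decide))
    obtain rfl := c1_L fun v hv => (ho _).1 (Orb.map ((ho _).2 hv) hk)
    rw [c1_zero] at hk
    have hL : ΓL ≤ Γ := by
      refine (closure_le _).2 ?_
      rintro _ (rfl | rfl | rfl | rfl)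
      exacts [h.ρ_mem _, h.ρ_mem _, hk, h1]
    have key := fun γ (hγ : γ ∈ Γ) =>
      h.le_of_orb h1 h2 hL PZ_le_L (fun v hv => mem_orb_L ((ho v).1 hv)) hγ
    by_cases hn : ng ∈ Γ
    · refine Or.inr (Or.inr (Or.inl (le_antisymm (fun γ hγ => ?_) ((closure_le _).2 ?_))))
      · rcases key γ hγ with h3 | h3
        · exact L_le_L2 h3
        · exact (Subgroup.mul_mem_cancel_right _ ng_mem_L2).1 (L_le_L2 h3.2)
      · rintro _ (rfl | rfl | rfl | rfl | rfl)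
        exacts [h.ρ_mem _, h.ρ_mem _, hk, h1, hn]
    · exact Or.inr (Or.inl (le_antisymm (fun γ hγ => (key γ hγ).resolve_right fun h3 => hn h3.1) hL))
  · obtain ⟨k, hk⟩ := c ((ho _).2 (by rw [lab_es]; decide))
    obtain rfl := c1_M fun v hv => (ho _).1 (Orb.map ((ho _).2 hv) hk)
    have hM : ΓM ≤ Γ := by
      refine (closure_le _).2 ?_
      rintro _ (rfl | rfl | rfl | rfl)
      exacts [h.ρ_mem _, h.ρ_mem _, hk, h1]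
    refine Or.inr (Or.inr (Or.inr (le_antisymm (fun γ hγ => ?_) hM)))
    rcases h.le_of_orb h1 h2 hM PZ_le_M (fun v hv => mem_orb_M ((ho v).1 hv)) hγ with h3 | h3
    · exact h3
    · exact (Subgroup.mul_mem_cancel_right _ ng_mem_M).1 h3.2

/-- `homA` with `GH.c1`, `GH.c2`: `Orb Γ ⊆ V3`; if some element is not in `Zv` it has label `3`, so `ep, es, act x1 es ∈ Orb Γ` (`Orb.of_lab`)
span `V3`. -/
theorem GH.casesA (h : GH Γ) (hn : ∀ γ ∈ Γ, γ ep ∈ Zv → Nm ⊤ γ) :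
    (∀ γ ∈ Γ, ∀ v ∈ V3, γ v ∈ V3) ∨ ∀ γ ∈ Γ, γ ep ∈ Zv := by
  have ho := homA h.le h.t3 (fun v hv h3 => (h.c1 hv h3).imp_right And.left) fun v hv h1 => h.c2 hn hv h1
  by_cases hz : ∀ γ ∈ Γ, γ ep ∈ Zv
  · exact Or.inr hz
  push Not at hz
  obtain ⟨δ, hδ, hz⟩ := hz
  have h0 : δ ep ∈ Orb Γ := ⟨δ, hδ, Or.inl rfl⟩
  have h3 : lab (δ ep) = 3 := ((h.c1 h0 (ho _ h0)).resolve_left fun h1 => hz (lab_17 h1)).1
  have he : es ∈ Orb Γ := Orb.of_lab h.le h.t3 h0 (h3.trans lab_es.symm)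
  have hx : ρ x1 es ∈ Orb Γ := Orb.map he (h.ρ_mem x1)
  refine Or.inl fun γ hγ v hv => ?_
  have e : v = (v.p - v.q) • ep + (v.s - v.q) • es + v.q • ρ x1 es := by
    obtain ⟨a, b, c⟩ := mem_V3.1 hv
    ext <;> simp [ep, es, act, x1, a, b, c]
  rw [e, map_add, map_add, map_smul, map_smul, map_smul]
  exact add_mem (add_mem (smul_mem3 _ (ho _ (Orb.map Orb.ep_mem hγ))) (smul_mem3 _ (ho _ (Orb.map he hγ))))
    (smul_mem3 _ (ho _ (Orb.map hx hγ)))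

/-- `actA` gives `ηV k y2 (ηV k)⁻¹ ∈ Γ`; conjugate by `ηV (-k)` (which fixes `ep`). -/
theorem GH.cases (h : GH Γ) : (∀ γ ∈ Γ, ∀ v ∈ V3, γ v ∈ V3) ∨ (∀ γ ∈ Γ, γ ep ∈ Zv) ∨
    ∃ k, Γ.map (MulAut.conj (ηV k)).toMonoidHom = ΓL ∨ Γ.map (MulAut.conj (ηV k)).toMonoidHom = ΓL2 ∨
      Γ.map (MulAut.conj (ηV k)).toMonoidHom = ΓM := by
  by_cases hn : ∀ γ ∈ Γ, γ ep ∈ Zv → Nm ⊤ γ
  · exact (h.casesA hn).imp_right Or.inl
  push Not at hn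
  obtain ⟨δ, hδ, hz, hn⟩ := hn
  obtain ⟨h2, k, h1⟩ := h.actA hδ hz hn
  have ek : ηV (-k) * ηV k = 1 := by rw [ηV_mul, neg_add_cancel, ηV_zero]
  have g1 : y2 ∈ Γ.map (MulAut.conj (ηV (-k))).toMonoidHom := by
    refine ⟨_, h1, ?_⟩
    change ηV (-k) * (ηV k * y2 * (ηV k)⁻¹) * (ηV (-k))⁻¹ = y2
    calc _ = ηV (-k) * ηV k * y2 * (ηV (-k) * ηV k)⁻¹ := by group
      _ = y2 := by rw [ek]; group
  have g2 : t2 ∈ Γ.map (MulAut.conj (ηV (-k))).toMonoidHom := by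
    refine ⟨_, h2, ?_⟩
    change ηV (-k) * t2 * (ηV (-k))⁻¹ = t2
    rw [t2, ηV_comm_tV, mul_inv_cancel_right]
  rcases (h.conj (-k)).casesB g1 g2 with h3 | h3
  · refine Or.inr (Or.inl fun γ hγ => ?_)
    have h4 : (ηV (-k) * γ * (ηV (-k))⁻¹) ep ∈ Zv := h3 _ ⟨γ, hγ, rfl⟩
    have h5 : (ηV (-k))⁻¹ ep = ep := by ext <;> simp [ηV, ep]
    rw [GV.mul_apply, GV.mul_apply, h5] at h4
    simpa [ηV] using h4
  · exact Or.inr (Or.inr ⟨-k, h3⟩)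

end Cfsg.Agent.C3F
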