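import Cfsg.Agent.C1M.Co0

/-! Five elements of `Co0` (for S5227). -/

set_option autoImplicit false
set_option Elab.async false

namespace Cfsg.Agent.C3F.RC

open Cfsg Cfsg.Spor Cfsg.Agent.Comp Cfsg.Agent.C1M Cfsg.Agent.Spor.Leech

def C0 : List (List ℤ) :=
 [[0, 1, 1, 0, 1, 1, 0, 0, 1, 1, 1, -1, -2, -2, -2, -2, -2, -1, -2, -2, -3, -2, -1, 9],
  [0, 0, 2, 0, 0, 0, 0, 0, 0, 0, 0, 0, -1, -1, 0, -1, 0, 0, -2, 0, -1, 0, -1, 3],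
  [1, 0, 1, 0, 0, 0, 0, 0, 1, 1, 0, 0, -1, -1, -1, -1, -1, -1, -2, -1, -2, -1, -1, 6],
  [0, 1, 1, -1, 0, -1, 0, 0, 0, 0, 0, 0, -1, 0, 0, -1, 0, 1, 0, 0, 0, 1, 0, 0],
  [0, 1, 2, 1, 0, 0, 0, 0, 1, 1, 0, -1, -2, -2, -1, -2, -1, -1, -2, -2, -2, -1, -2, 8],
  [-1, 0, 0, 0, 0, -1, -1, 0, 0, 0, 0, 1, 0, 0, 1, 0, 1, 1, 1, 0, 0, 1, 1, -2],
  [0, 0, 0, 0, 0, 0, 0, 0, 0, 0, 0, 0, 0, 0, 0, 0, 1, 0, -1, 0, 0, 0, 0, 0],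
  [1, 2, 2, 1, 1, 1, 1, 1, 1, 2, 1, -2, -4, -4, -4, -4, -3, -3, -4, -4, -4, -3, -4, 18],
  [1, 0, 1, 0, 0, -1, 0, 0, 0, 0, 0, 0, -1, 0, 0, -1, 0, 0, -1, 0, 0, 1, -1, 1],
  [0, 1, 1, 0, 1, 0, 0, 1, 1, 0, 0, -1, -2, -2, -1, -2, -1, -1, -2, -2, -2, 0, -1, 7],
  [0, 0, 1, 1, 1, 0, 0, 0, 1, 1, 0, -1, -1, -2, 0, -1, -1, -1, -2, -2, -2, -1, -1, 6],
  [0, 0, 1, -1, 0, -1, 0, 0, 0, 0, 0, 0, 0, 0, 0, -1, 0, 1, 0, 1, 0, 1, 0, -1],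
  [0, 1, 1, 1, 0, 1, 0, 0, 1, 1, 0, -1, -1, -2, -1, -1, -1, -1, -2, -2, -2, -2, -1, 7],
  [-1, -1, 0, 0, -1, -1, -1, -1, -1, -1, -1, 2, 2, 2, 3, 2, 3, 2, 2, 2, 2, 2, 2, -10],
  [-1, 0, 0, 1, 0, 1, 0, 0, 0, 0, 0, 0, 0, -1, 0, 0, 1, 0, -1, -1, -1, -1, 0, 2],
  [0, 0, 0, 1, 0, 0, 0, 0, 0, 1, 0, 0, 0, 0, 0, 0, 0, -1, -1, -1, -1, -1, -1, 3],
  [0, 0, 0, 1, 0, 0, -1, -1, 0, 0, 0, 0, 0, 0, 1, 1, 0, 0, 0, 0, 0, 0, 0, -1],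
  [-1, 1, 0, 0, 0, 0, -1, 0, 0, 1, 0, 0, 0, 0, 0, 0, 0, 0, 1, -1, -1, 0, 0, 1],
  [0, 0, -1, 0, -1, 0, -1, -1, 0, 0, 0, 1, 1, 1, 1, 1, 1, 1, 1, 1, 1, 0, 1, -4],
  [0, 1, 0, 1, -1, 0, 0, 0, 0, 0, -1, 0, 0, 0, 0, 0, 1, 0, -1, -1, 1, 0, -1, 1],
  [0, 0, 0, 1, 0, 0, 0, 0, 1, 1, -1, 0, 0, -1, 0, 0, 0, -1, -1, -2, -1, -1, -1, 4],
  [-1, 0, -1, 0, 0, -1, -1, -1, 0, -1, -1, 1, 2, 1, 3, 2, 2, 2, 2, 1, 2, 2, 2, -9],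
  [0, 0, 0, 0, 0, 0, 0, 0, 1, 0, 0, 0, 0, 0, 0, 0, 0, 0, -1, -1, -1, -1, 0, 2],
  [-1, 0, -1, 1, -1, 0, -1, -1, 0, 0, -1, 1, 2, 1, 2, 2, 2, 1, 1, 0, 1, 0, 1, -5]]

def W0 : List (List ℤ) :=
 [[-1, 0, -1, -1, 0, -1, -2, -2, -1, 0, -1, 0, -1, 0, -1, -1, 0, 0, -2, -1, -1, -1, 0, -1],
  [-1, 0, 0, -1, 0, -1, -1, -1, -1, 0, 0, 0, 0, 0, 0, 0, 0, 0, -2, 0, 0, 0, 0, 0],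
  [1, 1, 0, 0, 0, -1, 0, -1, 0, 1, 0, 1, 0, 0, 0, 0, 1, 0, -1, 0, -1, 0, 1, 0],
  [0, 1, 0, -1, 0, -1, 0, -1, 0, 1, 0, 0, -1, 0, 0, 0, 1, 0, -1, 0, 0, 0, 1, 0],
  [-1, 0, 0, 0, -1, -1, -1, -2, 0, 0, -1, 0, -1, 0, -1, -1, 0, -1, -1, -1, -1, 0, 0, -1],
  [0, 0, -1, 0, 0, -1, -1, -1, 0, 1, 0, 1, -1, -1, -1, -1, 1, 0, -1, -1, -1, 0, 0, -1],
  [0, 1, -1, -1, 1, -1, -1, -1, 0, 1, 1, 0, 0, 0, 0, 0, 2, 0, -2, 0, 0, 0, 0, 0],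
  [0, 0, -1, -1, 0, -1, -1, -1, -1, 1, 0, 0, 0, -1, 0, -1, 1, 0, -1, 0, 0, 0, 0, 0],
  [0, 0, -1, 0, 0, -1, -1, -1, 0, 1, 0, 1, -1, -1, -1, -2, 0, -1, -2, -1, -1, 0, -1, -2],
  [-2, -1, -2, -2, -1, -2, -2, -2, -1, -1, -1, -1, -1, -1, -1, -1, 0, -1, -2, -1, -1, 0, -1, -1],
  [0, 0, -1, 0, 0, -1, -1, -1, -1, 1, 0, 0, 0, -1, 0, -1, 0, 0, -2, -1, -1, 0, 0, -1],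
  [-1, -1, -1, -1, 0, -2, -1, -1, -1, 0, -1, -1, 0, -1, -1, -1, 0, 0, -1, 1, 0, 0, 0, 0],
  [1, 2, 1, 1, 0, 0, 0, 0, 0, 1, 0, 1, 0, 0, 0, 0, 0, 0, -1, -1, -1, -1, 1, -1],
  [1, 1, 1, 1, 0, 0, 0, -1, 0, 0, 0, 1, 0, 1, 0, 0, 1, 0, 0, -1, -1, 0, 1, 0],
  [0, 0, -1, 0, 0, 0, -1, -1, -1, 0, 0, 0, 0, 0, 0, 0, 1, 1, -1, -1, -1, 0, 0, 0],
  [1, 2, 0, 1, 1, 0, 0, 0, 0, 1, 1, 1, 1, 1, 1, 0, 1, 0, -1, 0, -1, 0, 0, 0],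
  [-1, 0, -1, 0, -1, -1, -2, -2, -1, -1, -1, 0, -1, 0, -1, -1, -1, -1, -2, -2, -2, -1, -1, -2],
  [0, 1, 0, 0, 0, 0, -1, -1, 0, 0, 0, 0, 0, 1, 0, 0, 1, 0, 0, -1, -1, 0, 0, 0],
  [1, 1, -1, 0, 0, 0, -1, -1, 0, 1, 0, 1, -1, 0, 0, -1, 1, 0, -1, -1, -1, -1, 0, -1],
  [0, 1, 0, 0, 0, 0, -1, -1, 0, 0, 0, 0, 0, 1, 0, 0, 1, 0, -1, -1, 0, 0, 0, 0],
  [0, 0, -1, 0, -1, -1, -1, -1, 0, 0, -1, 1, -1, -1, -1, -1, 0, -1, -1, -2, -2, -1, -1, -2],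
  [1, 2, 0, 1, 1, 0, 0, 0, 1, 1, 1, 1, 0, 0, 0, 0, 1, 0, -1, -1, -1, 0, 0, -1],
  [0, 1, 0, -1, 0, -1, -1, -1, 0, -1, 0, 0, 0, 1, 0, 1, 1, 0, -1, -1, -1, -1, 0, 0],
  [1, 2, 0, 1, 0, 0, -1, -1, 0, 0, 0, 1, 0, 1, 0, 0, 1, 0, -1, -2, -2, -1, 0, -1]]

theorem h0 : chkIso C0 W0 = true := by decide +kernel

def C1 : List (List ℤ) :=
 [[0, 1, 0, 0, 0, 1, 1, 1, 0, 0, 1, -1, -1, -1, -2, -2, 0, -1, -1, -1, -1, -1, -1, 5],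
  [1, 1, 1, 1, 0, 1, 1, 1, 1, 0, 1, -2, -2, -2, -2, -2, -1, -2, -3, -2, -2, -2, -2, 9],
  [1, 1, 1, 1, 1, 2, 2, 2, 1, 1, 1, -3, -3, -3, -4, -3, -2, -3, -4, -4, -4, -3, -3, 15],
  [1, 1, 1, 1, 1, 1, 1, 2, 1, 1, 1, -3, -3, -2, -3, -3, -2, -3, -3, -3, -3, -2, -2, 12],
  [1, 0, 1, 1, 1, 1, 1, 1, 1, 0, 1, -2, -2, -2, -2, -2, -1, -2, -3, -2, -2, -2, -2, 9],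
  [0, 0, 0, 0, 0, 1, 1, 1, 0, -1, 0, -1, 0, 0, -1, -1, 1, 0, -1, 0, 0, 0, 0, 0],
  [0, 1, 0, 0, 1, 1, 1, 1, 0, -1, 0, -1, -1, -1, -1, -1, 0, -1, -1, -1, -1, 0, 0, 3],
  [1, 0, 0, 0, 0, 1, 1, 2, 0, 0, 0, -1, -1, 0, -2, -1, 0, -2, -2, -1, -1, -1, -1, 5],
  [1, 0, 0, 1, 1, 1, 1, 1, 1, 0, 1, -2, -2, -1, -2, -1, -1, -2, -2, -2, -2, -2, -1, 7],
  [1, 1, 1, 1, 1, 2, 1, 1, 0, 0, 1, -2, -3, -2, -3, -2, -1, -3, -3, -2, -2, -2, -2, 10],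
  [1, 1, 1, 1, 1, 1, 2, 1, 0, 0, 1, -2, -3, -2, -3, -2, -1, -2, -3, -2, -2, -2, -3, 10],
  [1, 0, 0, 0, 0, 0, 0, 1, -1, 0, 1, -1, -1, 1, -1, 0, 0, -1, 0, 0, 0, 0, 0, 0],
  [0, 1, 1, 1, 1, 1, 2, 1, 1, 1, 1, -2, -2, -3, -3, -3, -2, -2, -3, -3, -3, -3, -3, 13],
  [0, 1, 1, 1, 1, 1, 1, 1, 2, 0, 1, -2, -2, -3, -2, -3, -2, -1, -3, -3, -3, -2, -2, 11],
  [0, 1, 0, 0, 0, 1, 1, 0, 0, -1, 0, 0, 0, -1, -1, -1, 0, 0, -1, 0, 0, 0, -1, 2],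
  [0, 1, 0, 0, 1, 1, 1, 1, 1, 0, 0, -1, -1, -2, -2, -1, -1, -1, -2, -2, -2, -1, -1, 7],
  [0, 1, 1, 1, 1, 1, 1, 0, 1, 0, 1, -1, -2, -3, -2, -2, -1, -1, -2, -2, -2, -2, -2, 9],
  [0, 1, 0, 0, 1, 1, 1, 1, 1, 0, 0, -1, -1, -2, -2, -2, -1, -1, -2, -2, -1, -1, -1, 7],
  [0, 1, 0, 0, 1, 1, 1, 1, 1, 0, 0, -1, -1, -2, -2, -2, -1, -1, -1, -2, -2, -1, -1, 7],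
  [1, 1, 1, 1, 2, 2, 1, 1, 2, 0, 1, -2, -3, -4, -3, -3, -3, -3, -4, -3, -4, -3, -2, 15],
  [1, 1, 1, 1, 1, 2, 2, 1, 1, 0, 1, -2, -3, -3, -4, -3, -2, -2, -4, -3, -3, -3, -3, 14],
  [0, 1, 1, 1, 2, 1, 2, 1, 1, 0, 1, -2, -3, -3, -3, -3, -2, -2, -3, -3, -3, -2, -2, 12],
  [0, 2, 1, 1, 1, 2, 1, 1, 1, 0, 1, -2, -3, -4, -3, -3, -2, -2, -3, -3, -3, -2, -2, 13],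
  [0, 2, 1, 1, 2, 2, 2, 1, 2, 0, 1, -2, -3, -5, -4, -4, -3, -2, -4, -4, -4, -3, -3, 17]]

def W1 : List (List ℤ) :=
 [[1, 1, 0, 0, 1, 1, 1, 1, 1, 1, 2, 0, 1, 0, 1, 0, 2, 0, 1, 1, 1, 1, 0, 1],
  [1, 2, 1, 0, 0, 0, 1, 1, 1, 0, 2, 0, 1, 0, 1, 1, 1, -1, 0, 0, 0, 0, 0, 0],
  [1, 0, 0, 0, 0, 1, 1, 1, 0, 0, 1, -1, 1, 0, 1, 1, 1, 1, 1, 0, 0, 1, 0, 1],
  [1, 1, 1, 1, 1, 1, 1, 1, 1, 1, 1, -1, 1, 1, 1, 0, 1, 0, 1, 1, 1, 1, 1, 1],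
  [1, 0, 1, 0, 2, 1, 0, 1, 1, 0, 2, -1, 2, 1, 1, 1, 2, 1, 1, 1, 2, 1, 0, 2],
  [0, 0, 0, 1, 1, 1, 0, 1, 1, 0, 0, 0, 0, 0, -1, -1, 0, 0, 0, 0, 0, 0, -1, -1],
  [1, 2, 1, 1, 1, 1, 2, 1, 1, 0, 1, 0, 1, 1, 1, 1, 1, 0, 1, 1, 0, 1, 1, 1],
  [1, 1, 1, 0, 1, 1, 1, 2, 1, 0, 1, 0, 1, 1, 1, 1, 1, 0, 1, 1, 1, 0, 0, 1],
  [1, 1, 1, 1, 1, 1, 1, 1, 2, 0, 1, 0, 0, 1, 0, 1, 1, 0, 1, 0, 0, 0, 0, 0],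
  [0, 1, 1, 0, 1, 1, 0, 0, 1, 0, 1, 0, 0, 1, 0, 0, 1, -1, 0, 0, 1, 0, 0, 0],
  [0, 1, 0, 0, 1, 0, 1, 1, 1, 0, 1, 0, 0, 0, 0, 1, 1, 0, 0, 1, 0, 0, -1, 0],
  [1, 1, 1, 0, 0, 0, 0, 1, 0, 0, 1, 0, 0, 0, 0, 0, 0, -1, 0, -1, 0, -1, 0, -1],
  [0, 0, 0, 0, 1, 0, 1, 1, 0, 0, 1, -1, 2, 0, 1, 1, 1, 1, 1, 2, 1, 1, 0, 2],
  [0, 0, 0, 1, 1, 1, 0, 1, 1, 0, 1, 0, 1, 0, 0, 0, 0, 1, 0, 0, 0, 1, -1, 0],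
  [0, 1, 0, 1, 1, 1, 1, 1, 1, 0, 1, 1, 1, 0, 0, 0, 0, 0, 0, 1, 0, 1, -1, 0],
  [0, 1, 0, 0, 1, 0, 1, 1, 1, 0, 1, 0, 1, 0, 0, 2, 1, 1, 0, 1, 0, 1, 0, 1],
  [1, 1, 1, 1, 2, 1, 1, 1, 2, 1, 2, 1, 1, 0, 0, 1, 2, 1, 1, 1, 1, 1, 0, 1],
  [0, 0, 0, 0, 2, 1, 0, 1, 1, 1, 1, 0, 1, 0, 0, 0, 1, 1, 0, 1, 2, 1, 0, 1],
  [1, 0, 0, 1, 1, 1, 1, 1, 1, 0, 0, 0, 1, 0, 0, 0, 1, 1, 2, 1, 0, 1, 0, 1],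
  [1, 1, 1, 1, 2, 1, 1, 1, 1, 0, 1, 0, 2, 1, 1, 1, 1, 1, 1, 2, 1, 1, 1, 2],
  [0, -1, 0, 0, 1, 1, 0, 0, 0, -1, 0, -1, 1, 1, 0, 1, 1, 2, 1, 1, 1, 1, 0, 2],
  [-1, 0, 0, 1, 1, 0, 1, 0, 1, 0, 0, 0, 0, 0, -1, 0, 0, 0, 0, 1, 0, 1, 0, 0],
  [0, 0, 0, 0, 0, 1, 1, 0, 0, 0, 1, -1, 1, 0, 1, 1, 1, 1, 1, 1, 1, 2, 1, 2],
  [0, 0, 0, 1, 2, 1, 1, 1, 1, 0, 1, 0, 2, 0, 0, 1, 1, 2, 1, 2, 1, 2, 0, 2]]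

theorem h1 : chkIso C1 W1 = true := by decide +kernel

def C2 : List (List ℤ) :=
 [[0, 0, 0, 0, 0, 0, 1, 0, 0, 1, 1, 0, 0, 0, -1, -1, -1, 0, -1, -1, -1, -2, -1, 4],
  [-1, -1, 0, -1, -1, 0, -1, -1, -1, 0, 0, 1, 3, 2, 2, 2, 2, 2, 2, 3, 1, 1, 2, -10],
  [-1, 0, 0, 0, -1, 0, -1, 0, -1, 0, 0, 1, 1, 1, 1, 1, 1, 1, 1, 1, 1, 0, 1, -4],
  [-1, -1, 0, 0, 0, 0, 0, 0, -1, 0, 0, 1, 1, 1, 1, 1, 1, 1, 1, 1, 0, 0, 1, -4],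
  [0, 0, 0, 0, 0, 0, 0, 1, -1, 0, 0, 0, 0, 1, 0, 0, 1, 0, 0, 0, 0, 0, 0, -1],
  [0, 0, 1, 1, 1, 1, 1, 1, -1, 1, 1, -1, -2, -1, -2, -1, -1, -2, -2, -2, -2, -2, -2, 8],
  [-1, -1, 0, 0, -1, -1, 0, -1, -2, 0, 0, 1, 2, 2, 2, 2, 2, 2, 2, 2, 2, 1, 1, -9],
  [-1, -1, 1, 0, -1, 0, 0, 0, -1, 0, 0, 1, 1, 1, 1, 0, 2, 1, 0, 1, 0, 0, 0, -3],
  [0, -1, 1, 0, 0, 0, 0, 0, -1, 0, 0, 0, 0, 1, 1, 1, 1, 0, 0, 1, 0, 0, 0, -3],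
  [0, -1, 1, 1, 0, 0, 1, 1, 0, 1, 1, -1, -1, 0, -1, -1, 0, -1, -2, -1, -2, -2, -1, 5],
  [-1, -1, 0, 0, -1, -1, -1, -1, -1, 0, 0, 1, 2, 2, 3, 2, 2, 2, 2, 2, 2, 1, 1, -9],
  [0, -1, 1, 1, 0, 0, 0, 0, 0, 1, 0, 0, 0, 0, 0, 0, 0, -1, -1, 0, -1, -1, -1, 2],
  [-1, 0, -1, -1, -1, -1, -1, -1, -1, -1, -1, 2, 3, 2, 3, 2, 2, 3, 3, 2, 3, 2, 2, -11],
  [0, 0, -1, -1, 0, 0, -1, 0, -2, -1, 0, 1, 1, 2, 1, 2, 1, 1, 2, 2, 2, 2, 2, -8],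
  [0, 0, 0, 0, 0, 0, 0, 0, -1, 0, 1, 0, 0, 0, 0, 0, 0, 0, 0, 0, 0, 0, 0, 0],
  [-1, 0, -1, -1, -2, -1, -1, -1, -2, -1, -1, 2, 3, 3, 3, 3, 3, 3, 3, 3, 4, 3, 2, -14],
  [1, 1, 0, 0, 0, 0, 1, 0, 0, 0, 1, -1, -1, 0, -1, -1, -1, 0, -1, -1, 0, -1, -1, 3],
  [0, 1, 0, 0, 0, 0, 1, 1, -1, 0, 0, 0, -1, 0, -1, -1, 0, 0, -1, -1, 0, 0, -1, 3],
  [0, 1, 0, 0, 0, 0, 1, 0, -1, 0, 1, 0, -1, 0, -1, -1, -1, 0, 0, -1, 0, -1, -1, 3],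
  [0, 0, 0, -1, -1, -1, 0, 0, -2, -1, 0, 1, 1, 2, 1, 1, 2, 2, 2, 2, 2, 2, 1, -8],
  [0, 0, 0, 0, -1, 0, 0, 1, -1, 0, 0, 0, 0, 1, 0, 0, 1, 0, 0, 0, 1, 0, 0, -1],
  [0, 0, 0, 0, 0, -1, 0, 0, -1, 0, 0, 0, 0, 1, 1, 1, 0, 1, 1, 0, 1, 1, 0, -3],
  [-1, 0, -1, -1, -1, -1, 0, 0, -1, 0, 0, 1, 2, 2, 1, 1, 1, 2, 2, 1, 2, 1, 2, -7],
  [0, 1, -1, -1, -1, -1, 0, 0, -2, -1, 0, 1, 1, 2, 1, 1, 1, 2, 2, 1, 3, 2, 1, -7]]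

def W2 : List (List ℤ) :=
 [[1, 1, 0, 0, 1, 0, 0, 1, -1, 1, 1, 1, 1, 0, 1, 0, 0, 1, -1, 0, 0, -1, 0, 0],
  [1, 2, 1, 1, 1, 0, 0, 1, 0, 1, 1, 1, 1, 0, 0, 0, 0, 0, -1, 0, -1, -1, 0, -1],
  [0, 1, 1, 0, 0, 0, -1, 1, -1, 0, 0, 1, 0, 0, 0, 0, -1, 0, -1, -1, 0, -2, 0, -1],
  [1, 1, 1, 2, 1, 1, 1, 2, 0, 1, 0, 2, 0, 0, 0, 0, -1, 1, 0, 0, -1, -1, 0, -1],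
  [2, 2, 1, 1, 2, 1, 0, 2, 0, 1, 1, 1, 1, 1, 1, 0, 1, 1, 0, 0, 0, -1, 0, 0],
  [0, 0, 1, 0, 1, 1, 0, 1, -1, 0, 1, 0, 1, 1, 1, 1, 0, 1, 0, 0, 1, 0, 0, 1],
  [0, 0, 0, 0, -1, -1, 0, 0, -2, 0, 0, 0, 0, -1, 0, 0, -1, 0, -1, -1, -1, -1, 0, -1],
  [0, 0, 0, 0, 0, 0, -1, 0, -1, 0, 0, 1, 0, 0, 0, -1, 0, 0, -1, -1, -1, -1, -1, -1],
  [0, 1, 1, 0, 0, 0, 0, 1, 0, 0, 0, 1, -1, 0, 0, 0, -1, -1, -1, -1, -1, -2, -1, -2],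
  [1, 1, 1, 1, 1, 0, 1, 1, 0, 1, 1, 0, 1, 1, 1, 1, 1, 1, 0, 1, 0, 0, 1, 1],
  [1, 1, 1, 0, 1, 1, 0, 1, 0, 1, 2, 0, 1, 1, 2, 1, 1, 1, 0, 0, 1, 0, 0, 1],
  [0, 1, 1, 2, 1, 0, 0, 1, 1, 1, 0, 2, 0, 0, -1, -1, -1, -1, -1, 0, -1, -1, -1, -2],
  [2, 1, 1, 0, 1, 1, 0, 1, -1, 0, 1, 0, 2, 1, 2, 1, 1, 2, 1, 0, 1, 0, 1, 2],
  [1, 1, 1, 0, 1, 1, 0, 1, -1, 0, 1, 0, 1, 1, 1, 1, 0, 1, 0, 0, 1, 0, 1, 1],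
  [1, 0, 0, -1, 0, 0, 0, 0, -2, 0, 2, -1, 2, 0, 2, 1, 1, 1, 0, 0, 1, 1, 1, 2],
  [0, 1, 0, -1, -1, 0, 0, 0, -1, 0, 1, 0, 0, 0, 1, 1, 0, 0, -1, -1, 0, 0, 0, 0],
  [2, 2, 1, 0, 1, 1, 1, 1, 0, 1, 2, 0, 1, 1, 2, 1, 1, 1, 0, 0, 1, 0, 1, 1],
  [1, 1, 0, 0, 1, 1, 1, 1, -1, 1, 1, 0, 1, 1, 2, 1, 1, 2, 0, 1, 1, 1, 1, 2],
  [0, 0, 0, -1, -1, 0, 0, 0, -2, -1, 0, 0, 0, 0, 1, 0, -1, 0, 0, -1, 0, -1, 0, 0],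
  [2, 1, 1, 0, 0, 0, 1, 1, -1, 0, 1, 0, 1, 0, 1, 1, 1, 1, 1, 0, 0, 0, 1, 1],
  [1, 0, 1, -1, 0, 1, 0, 1, -1, 0, 1, -1, 1, 1, 2, 1, 1, 1, 1, 0, 2, 0, 1, 2],
  [1, 0, 1, 0, 0, 1, 1, 1, -1, 0, 1, -1, 1, 1, 2, 2, 0, 2, 1, 0, 1, 1, 1, 2],
  [1, 1, 1, 0, 0, 0, 1, 1, -1, 1, 1, 0, 1, 0, 1, 1, 0, 1, 0, 0, 1, 0, 2, 1],
  [2, 1, 1, -1, 0, 1, 1, 1, -2, 0, 2, -1, 2, 1, 3, 2, 1, 2, 1, 0, 2, 1, 2, 3]]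

theorem h2 : chkIso C2 W2 = true := by decide +kernel

def C3 : List (List ℤ) :=
 [[-1, 1, 0, 0, 1, 0, 1, 1, 1, 0, 1, -1, -1, -1, -1, -2, -1, 0, -1, -2, -2, -1, 0, 5],
  [-1, 1, 0, 0, 0, 0, 1, 0, 1, -1, 0, 0, 0, -1, 0, -1, 0, 1, 0, -1, 0, 0, 0, 1],
  [-1, 1, 0, 0, 1, 0, 1, 0, 0, -1, 0, 0, 0, -1, 0, -1, 0, 1, 0, -1, 0, 0, 0, 1],
  [0, 1, 1, 0, 1, 1, 2, 1, 1, 0, 1, -1, -2, -2, -3, -3, -2, -1, -3, -3, -3, -2, -2, 11],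
  [-1, 1, 0, 0, 0, 0, 1, 0, 0, 0, 0, 0, 0, 0, 0, -1, 0, 1, 0, -1, 0, 0, -1, 1],
  [0, 2, 1, 0, 1, 1, 1, 1, 1, 1, 1, -2, -2, -2, -3, -3, -3, -1, -2, -3, -3, -2, -2, 11],
  [-1, 1, 0, -1, 0, 1, 0, 0, 1, -1, 0, 0, 1, -1, 0, -1, 0, 1, 0, 0, -1, 0, 1, 0],
  [0, 1, 0, 0, 0, 0, 0, 0, 0, -1, 0, 0, 0, 0, 0, 0, 0, 1, 0, 0, 0, 1, 0, -1],
  [0, 2, 1, 0, 1, 1, 1, 0, 0, 0, 1, -1, -2, -2, -2, -2, -2, -1, -1, -2, -2, -1, -2, 8],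
  [0, 2, 1, 1, 1, 2, 1, 1, 1, 0, 1, -2, -3, -3, -3, -3, -2, -2, -3, -3, -3, -2, -2, 12],
  [-1, 1, -1, 0, 0, 0, 0, 0, 0, -1, 0, 0, 1, 0, 1, 0, 0, 1, 1, 0, 1, 1, 1, -3],
  [1, 2, 1, 1, 1, 1, 1, 1, 1, 0, 2, -2, -4, -3, -4, -3, -3, -2, -3, -3, -3, -2, -3, 14],
  [-2, -1, -2, -1, -1, -1, 0, 0, -1, -1, -1, 2, 4, 3, 3, 2, 3, 3, 3, 2, 3, 2, 3, -13],
  [-2, 0, 0, -1, 0, -1, 0, 0, 0, 0, -1, 1, 2, 1, 2, 0, 1, 2, 2, 0, 1, 1, 1, -5],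
  [-2, 0, -1, -1, -1, -1, -1, 0, 0, -1, -1, 1, 3, 2, 3, 1, 2, 3, 3, 2, 2, 2, 3, -11],
  [-2, -1, -1, -2, -1, -1, -1, -1, -1, -2, -2, 2, 5, 3, 5, 3, 4, 4, 4, 4, 4, 4, 4, -19],
  [-2, 0, 0, 0, 0, 0, 0, 0, 0, 0, 0, 0, 1, 0, 2, 0, 1, 1, 1, 0, 0, 0, 1, -3],
  [-1, 0, 0, -1, 0, 0, 0, 1, 0, 0, -1, 0, 1, 1, 1, 0, 1, 1, 0, 0, 0, 1, 1, -3],
  [-1, 0, 0, -1, 1, 0, 0, 0, 0, 0, 0, 0, 1, 0, 1, 0, 0, 1, 1, 0, -1, 0, 1, -2],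
  [-1, 0, 0, -1, -1, 0, 0, 0, 0, -1, -1, 1, 2, 1, 2, 0, 2, 2, 1, 1, 1, 1, 1, -6],
  [-1, 1, 0, 0, 0, 0, 0, 0, -1, 0, -1, 0, 1, 0, 1, 0, 1, 1, 1, 0, 1, 1, 0, -3],
  [-1, 0, 0, -1, 0, 1, 0, 1, 0, 0, 0, 0, 1, 0, 0, -1, 0, 0, 0, 0, -1, 0, 1, 0],
  [-2, 0, 0, -1, 0, 0, 0, 0, 0, -1, -1, 1, 2, 0, 2, 0, 2, 2, 1, 1, 1, 1, 2, -6],
  [-3, -1, -1, -2, -1, -1, -1, 0, -1, -1, -2, 2, 5, 3, 5, 2, 4, 4, 4, 3, 3, 3, 4, -17]]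

def W3 : List (List ℤ) :=
 [[0, 2, 0, 1, 1, 0, 1, 1, 1, 1, 1, 1, 0, 0, 0, 0, 0, 0, -1, 0, -1, 0, 0, -1],
  [0, 1, 1, 1, 0, 1, 2, 1, 2, 0, 1, 1, 0, 0, 0, 1, 0, 0, 1, 0, 0, 1, 0, 0],
  [1, 1, 1, 1, 2, 1, 1, 1, 0, 0, 1, 0, 2, 1, 1, 1, 1, 2, 1, 1, 1, 1, 1, 2],
  [-1, 0, 0, 0, 0, 0, 0, 0, 0, -1, 0, 1, 0, 0, -1, 0, -1, 0, -1, -1, -1, 0, -1, -1],
  [0, 1, 0, 1, 1, 2, 1, 1, 1, 1, 1, 1, 0, 1, 1, 0, 0, 1, 0, 0, 0, 1, -1, 0],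
  [0, 1, 1, 1, 1, 1, 0, 1, 0, 0, 0, 0, 1, 1, 0, 0, -1, 1, 0, 0, 0, 0, 0, 0],
  [0, 1, 0, 0, 0, 0, 0, 0, 0, -1, 0, 0, 1, 0, 0, 0, 0, 0, 0, 0, -1, 0, 0, 0],
  [1, 2, 1, 2, 1, 1, 1, 1, 1, 0, 1, 1, 1, 1, 0, 1, 0, 1, 0, 0, -1, 1, 0, 0],
  [0, 1, 1, 0, 0, 1, 1, 0, 0, -1, 1, 0, 1, 1, 1, 1, 0, 0, 1, 0, 0, 1, 0, 1],
  [-1, 1, 0, 1, 0, 1, 0, 0, 1, 0, 0, 1, -1, 0, -1, -1, -1, -1, -1, -1, -1, 0, -1, -2],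
  [0, 1, 0, 1, 0, 1, 1, 1, 0, 0, 1, 0, 1, 0, 1, 0, -1, 0, 0, 0, 0, 1, 0, 0],
  [-1, 0, 0, 0, 0, 0, 0, 0, 1, -1, 1, 0, 0, 0, -1, 1, 0, 0, 0, 0, 0, 1, -1, 0],
  [1, 1, 0, 1, 1, 1, 1, 2, 0, 1, 1, 1, 1, 0, 1, 0, 0, 1, 0, 0, 0, 0, 0, 0],
  [0, 0, 1, 0, 1, 1, 0, 1, 0, 0, 0, 0, 1, 1, 1, 0, 0, 1, 1, 0, 1, 0, 0, 1],
  [0, 1, 0, 1, 0, 0, 0, 1, 0, 0, -1, 0, 0, 0, 0, -1, -1, 0, 0, 0, -1, -1, 0, -1],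
  [1, 1, 1, 0, 1, 1, 1, 1, 0, 0, 1, -1, 2, 1, 2, 1, 1, 1, 1, 1, 1, 1, 1, 2],
  [0, 1, 0, 0, 0, 1, 1, 1, 0, 1, 1, 0, 0, 0, 2, 0, 0, 0, 0, 0, 0, 0, 0, 0],
  [0, 1, 0, 0, 1, 1, 0, 1, 0, 1, 0, 0, 0, 1, 1, 0, 0, 1, -1, 0, 0, 0, 0, 0],
  [1, 1, 0, 0, 1, 0, 0, 1, -1, 0, 0, 0, 1, 0, 1, 0, 0, 1, 0, 0, -1, -1, 0, 0],
  [1, 1, 0, 0, 0, 1, 0, 1, 0, 0, 0, 1, 0, 0, 1, -1, 0, 0, 0, -1, -1, -1, -1, -1],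
  [1, 1, 0, 1, 1, 1, 0, 1, -1, 1, 0, 0, 1, 0, 1, -1, 0, 1, 0, 0, 0, 0, 0, 0],
  [0, 0, 0, 0, 0, 1, 0, 1, -1, 0, 0, 0, 1, 0, 1, -1, -1, 0, 0, 0, 0, 0, 0, 0],
  [0, 1, 0, 0, 1, 0, 0, 1, 0, 1, 0, 1, 0, -1, 0, -1, 0, 0, -1, 0, 0, -1, 0, -1],
  [1, 1, 0, 0, 1, 1, 0, 2, -1, 1, 0, 0, 1, 0, 2, -1, 0, 1, 0, 0, 0, -1, 0, 0]]

theorem h3 : chkIso C3 W3 = true := by decide +kernel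

def C4 : List (List ℤ) :=
 [[2, 0, 1, 2, 1, 1, 1, 0, 0, 1, 1, -2, -3, -2, -2, -1, -2, -3, -3, -2, -2, -2, -3, 10],
  [0, 0, 0, 1, 0, 1, 0, -1, -1, -1, 0, 0, 0, -1, 1, 1, 1, 0, 0, 1, 1, 0, 0, -2],
  [0, -1, -1, 0, -1, 0, -1, -1, -2, 0, -1, 1, 2, 2, 2, 3, 2, 1, 2, 3, 3, 2, 1, -10],
  [0, -1, -1, 0, -1, 0, -1, -2, -1, -1, -1, 1, 3, 2, 3, 3, 2, 2, 2, 3, 3, 2, 2, -12],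
  [0, -1, -1, 0, 0, 0, 0, -1, -1, -1, -1, 1, 2, 1, 2, 2, 2, 1, 1, 2, 2, 2, 1, -8],
  [0, -1, -1, 0, 0, 0, -1, -1, -2, 0, -1, 1, 2, 2, 2, 3, 2, 0, 2, 2, 2, 2, 1, -9],
  [0, 0, 0, 0, 0, 0, 0, -2, -2, 0, 0, 0, 1, 1, 1, 2, 1, 1, 2, 2, 2, 1, 0, -7],
  [0, 0, -1, 0, 0, 0, -1, -1, -1, -1, 0, 0, 1, 1, 2, 2, 1, 1, 2, 2, 2, 2, 1, -8],
  [-1, -1, -2, -1, -1, -1, -1, -2, -2, -1, -1, 2, 4, 3, 4, 4, 3, 3, 4, 4, 4, 3, 3, -17],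
  [1, 0, 0, 0, 1, 0, 0, -1, -1, -1, 0, 0, 0, 0, 1, 1, 0, 0, 0, 1, 1, 1, 0, -3],
  [0, 0, 0, 1, 0, 0, 0, -1, -1, 0, 0, 0, 0, 0, 1, 1, 1, 0, 0, 1, 1, 0, -1, -2],
  [0, -1, -1, 0, -1, -1, -1, -1, -1, -2, 0, 1, 2, 2, 3, 2, 2, 2, 2, 3, 3, 2, 2, -11],
  [0, 0, 1, 1, 0, 1, 1, 0, 0, 1, 0, -1, -1, -1, -1, -1, 0, -1, -2, -1, -1, -1, -2, 5],
  [-1, -1, -1, 0, -1, 0, 0, -1, -2, 0, -2, 2, 3, 2, 2, 3, 3, 1, 2, 2, 3, 2, 1, -10],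
  [0, 0, 1, 1, 1, 1, 1, 0, -1, 1, 0, -1, -1, -1, -1, 0, 0, -2, -1, -1, -1, -1, -2, 4],
  [0, 1, 0, 1, 0, 1, 1, 0, -1, 1, 0, -1, -1, -1, -2, 0, 0, -1, -1, -1, 0, -1, -2, 4],
  [1, 0, 1, 1, 1, 1, 2, 0, 0, 1, 0, -1, -2, -2, -2, -1, -1, -2, -3, -2, -2, -2, -3, 9],
  [1, 0, 0, 1, 1, 1, 1, 0, 0, 1, 0, -1, -1, -1, -2, 0, -1, -2, -2, -2, -1, -1, -2, 6],
  [0, -1, 0, 0, 0, 0, 0, -1, -1, 1, -1, 0, 1, 1, 1, 2, 1, 0, 1, 1, 1, 1, 0, -5],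
  [-1, 0, 0, 0, 1, 0, 1, -1, -1, 0, -1, 0, 1, 0, 1, 1, 1, 1, 1, 0, 1, 1, 0, -4],
  [0, 0, 0, 0, 1, 0, 0, 0, -1, 1, -1, 0, 0, 0, 0, 1, 0, -1, 0, 0, 0, 1, -1, 0],
  [0, 0, 0, 0, 0, 0, 1, -1, -1, 1, -1, 0, 1, 1, 0, 1, 1, 0, 0, 0, 1, 0, -1, -2],
  [1, 0, 1, 1, 1, 1, 1, 0, -1, 1, 0, -1, -2, -1, -2, 0, -1, -2, -2, -1, -1, -1, -2, 6],
  [0, 0, 1, 1, 1, 1, 2, 0, -1, 2, -1, -1, -1, -1, -2, 0, 0, -2, -2, -2, -1, -1, -3, 6]]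

def W4 : List (List ℤ) :=
 [[1, 0, 0, 1, 0, 1, 1, 0, 0, 1, 1, 0, 0, 0, 1, 0, 0, 0, 0, 0, 0, 1, 0, 0],
  [1, 0, 0, 0, 0, 1, 1, 0, -1, 0, 1, -1, 1, 0, 2, 1, 1, 1, 1, 1, 1, 1, 1, 2],
  [0, -1, -1, 0, 0, 1, 0, 0, -1, 1, 0, -1, 0, 0, 1, 0, 0, 1, 0, 1, 1, 1, 0, 1],
  [1, 0, 0, 1, 0, 1, 0, -1, -1, 0, 0, -1, 1, 1, 1, 0, 0, 1, 0, 0, 0, 1, 1, 1],
  [1, 0, -1, 1, 1, 1, 1, 0, 0, 1, 1, 0, 1, 0, 1, 0, 1, 1, 0, 1, 0, 2, 0, 1],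
  [0, 0, -1, 0, 0, 0, -1, -1, -1, 0, 0, 0, 0, 0, 0, -1, 0, -1, -1, -1, -1, 0, -1, -1],
  [0, 0, 0, 0, 0, 0, 0, -1, -1, 0, 0, -1, 0, 0, 0, 0, 0, 0, 0, 0, 0, 0, 0, 0],
  [0, 0, -1, 0, 0, 1, 0, 0, 0, 0, 1, -1, 0, 0, 1, 0, 0, 0, 0, 0, 0, 1, -1, 0],
  [0, 0, -2, -1, -1, -1, 0, -1, -2, 0, 0, -1, 0, -1, 1, 0, 0, 0, -1, 0, -1, 0, 0, 0],
  [1, 1, 0, 0, 1, 0, 0, 0, -1, 0, 1, 0, 1, 0, 1, 0, 0, 0, -1, 0, 0, 0, 0, 0],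
  [0, 1, -1, 0, 1, 0, 0, 0, 0, 1, 1, 0, 0, 0, 1, 0, 1, 0, -1, 1, 0, 0, -1, 0],
  [0, -1, -1, -1, -1, -1, -1, -1, -2, -2, 0, -2, 1, 0, 1, 0, 0, 0, 0, 0, 0, 0, 0, 1],
  [0, 0, 0, 1, 1, 2, 1, 0, 1, 2, 1, 0, 0, 1, 1, 0, 1, 1, 0, 1, 1, 2, 0, 1],
  [0, 0, 0, 1, 0, 1, 1, 0, 0, 1, 0, 1, 0, 0, 0, 0, 0, 0, 0, 0, 0, 1, 0, 0],
  [0, 1, 1, 1, 1, 1, 1, 1, 1, 1, 1, 1, 0, 0, 0, 0, 0, -1, 0, 0, 0, 0, -1, -1],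
  [-1, 0, -1, 0, 0, 0, 0, 0, 0, 1, 0, 0, -1, -1, -1, 0, 0, 0, -1, 0, 0, 0, -1, -1],
  [0, 0, -1, 0, 0, 0, 1, 0, 0, 1, 0, 1, -1, -1, 0, 0, 0, 0, -1, 0, -1, 0, -1, -1],
  [0, 0, 0, 1, 1, 1, 0, 0, 1, 1, 1, 1, 0, 0, -1, 0, 0, 0, -1, -1, 0, 1, -1, -1],
  [-1, -1, -1, 0, -1, 0, 0, -1, 0, 1, -1, 0, -2, -1, -1, -1, -1, -1, -1, -1, -1, 0, -1, -2],
  [0, 0, 0, 1, 1, 1, 1, 0, 0, 1, 0, 0, 0, 0, 0, 0, 0, 1, 0, 0, 0, 1, 0, 0],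
  [-1, 0, -1, 0, 1, 0, 0, 0, 0, 1, 0, 0, 0, 0, 0, 0, 0, 0, -1, 1, 0, 1, -1, 0],
  [0, 1, 0, 0, 1, 0, 0, -1, 0, 1, 0, 0, 0, 1, 0, 0, 1, 0, -1, 0, 0, 0, 0, 0],
  [0, 0, 1, 1, 1, 1, 1, 0, 0, 1, 0, 0, 0, 1, 0, 1, 0, 1, 0, 1, 1, 1, 1, 1],
  [-1, 0, 0, 1, 1, 1, 1, 0, 1, 2, 0, 1, -1, 0, -1, 0, 0, 0, -1, 0, 0, 1, -1, -1]]

theorem h4 : chkIso C4 W4 = true := by decide +kernel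

def L0 : List ℕ :=
  [nat_lit 0xab9b039c972750cdbcdec0036ec804dec160949ebd0c76f4051d0e253234b4400604150ea41631b8208132b415503695a52280a720a02079a98c268199dc98a41f0d0a3219a261a4,
  nat_lit 0xcfb1d796d5859e90857230c97830c964767b0faa4d8f873278f1ec685e68b17945fe8ecd0788edf93f1f00506c77991efebf734fe3fb27f5fb57b75cf9371ef9361e3ff64f180f9e,
  nat_lit 0xf717d08f0e4d658c42b01807c7838f23980d20ba8cd5a13def832defb78d3081bc8fb28ec926ee05d22188ba217655be12967207b627e89460d814e6c8ba22c0bba0870fca4194ce,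
  nat_lit 0x93f4bf2f7c50da2581fc3e68c80a3e5d5f091755fe13382120ca7e96d6298aba47b7c6414861095a7329c854e6909a6b228a2980cb37a0f9688cdb2d6e7a4080cf289094dfbe0c57,
  nat_lit 0x51b60b125b5ded340ee7e0e44de0e0dc01118b1d56f25c239362f0c5e4ae6d1d2aef0c9c3d83cbc013d77d39bfcce9a2c2eb66ad9adc3d903db6b0dc3d502c178bd04a93c4b2300]

def L1 : List ℕ :=
  [nat_lit 0x9ef39ca7cd1176554816916c3e957c0657cc76bd735b63c9490686ce217a34056c487ee6e13d3933245b2a4fa21fd81fd5a3bd2a41c15d7553c399619338108cc530b8c469210860,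
  nat_lit 0xabb59a392ee5359bdd9320cf9b00cf51567a7c62a46434f2363a0d1f74a74bd61983a70b7030eb07132919cf367b782971ba2f4f8228d7387da3182bf73735f7162dc7b80f971843,
  nat_lit 0xabb59a711bf4b540e747d4f38d85e25ff70d0d8a4d9501667e095ba509f22bd71bf8f78b44198ed35611aae18d50179fc29494be0f96c85694e193146bfe10561c8f101f9ec93706,
  nat_lit 0xdc031139377d3d83d5f6f4082d5716fd5aed7d16552817f66101b70d0dedd46008ab2427901f78b804102e8285686107b9141099ba7e2c2e44b8008b73b8906080a6b80087280f7a,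
  nat_lit 0x74eb3ac2c0817af18153a87ae38b1adbacc572c1835ac31eb2ce588368d7d21e2aaa9e54846f8a826855ac10c69eed032b415a462b01f62e97c6f9be42e90a4efb6e662d0ec606a,
  nat_lit 0xab9b039c972750cdbcdec0036ec804dec160949ebd0c76f4051d0e253234b4400604150ea41631b8208132b415503695a52280a720a02079a98c268199dc98a41f0d0a3219a261a4,
  nat_lit 0xcfb1d796d5859e90857230c97830c964767b0faa4d8f873278f1ec685e68b17945fe8ecd0788edf93f1f00506c77991efebf734fe3fb27f5fb57b75cf9371ef9361e3ff64f180f9e,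
  nat_lit 0xf717d08f0e4d658c42b01807c7838f23980d20ba8cd5a13def832defb78d3081bc8fb28ec926ee05d22188ba217655be12967207b627e89460d814e6c8ba22c0bba0870fca4194ce,
  nat_lit 0xd7b5bf0c41602db6361200185e00451042f1d4c94be67bc1d431f67ff951d6db4db4f4f584a126f93551cca0a7c6e1655241d3c0eb885c686ec2a1635041438ce00f405a6194e063,
  nat_lit 0x93f4bf2f7c50da2581fc3e68c80a3e5d5f091755fe13382120ca7e96d6298aba47b7c6414861095a7329c854e6909a6b228a2980cb37a0f9688cdb2d6e7a4080cf289094dfbe0c57,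
  nat_lit 0x51b60b125b5ded340ee7e0e44de0e0dc01118b1d56f25c239362f0c5e4ae6d1d2aef0c9c3d83cbc013d77d39bfcce9a2c2eb66ad9adc3d903db6b0dc3d502c178bd04a93c4b2300]

def ws : List (List ℕ) :=
  [[1, 2, 0, 2, 2, 0, 0, 2, 2, 0, 2, 2, 0, 0, 2, 2, 2, 2, 0, 2, 2, 0, 0, 2, 2, 1, 1, 2, 0, 2, 2, 0, 0, 2, 2, 0, 2, 2, 0, 0, 2, 2, 2, 2, 0, 2, 2, 0, 0, 2, 2, 2, 0, 2, 2, 0, 0, 2, 2, 0, 2, 2, 0, 0, 2, 2, 2, 2, 0, 2, 2, 0, 0, 2, 2, 2, 1, 2, 2, 0, 2, 2, 0, 0, 2, 2, 1, 1, 2, 2, 0, 2, 2, 0, 0, 2, 2, 2, 2, 0, 2, 2, 0, 0, 2, 2, 2, 2, 1, 2, 2, 0, 2, 2, 0, 0, 2, 2, 1, 1, 2, 2, 0, 2, 2, 0, 0, 2, 2, 2, 2, 0, 2, 2, 0, 0, 2, 2, 1, 2, 2, 0, 2, 2, 0, 0, 2, 2, 1, 1, 2, 2, 0, 2, 2, 0, 0, 2, 2, 2, 2, 0, 2, 2, 0, 0, 2, 2, 2, 1,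 2, 2, 0, 2, 2, 0, 0, 2, 2, 1, 1, 2, 2, 0, 2, 2, 0, 0, 2, 2, 2, 2, 0, 2, 2, 0, 0, 2, 2, 2, 2, 1, 2, 2, 0, 2, 2, 0, 0, 2, 2, 1, 1, 2, 2, 0, 2, 2, 0, 0, 2, 2, 2, 2, 0, 2, 2, 0, 0, 2, 2, 1, 2, 2, 0, 2, 2, 0, 0, 2, 2, 1, 1, 2, 2, 0, 2, 2, 0, 0, 2, 2, 2, 2, 0, 2, 2, 0, 0, 2, 2],
  [2, 1, 2, 2, 0, 2, 2, 0, 0, 2, 2, 1, 1, 2, 2, 0, 2, 2, 0, 0, 2, 2, 2, 2, 0, 2, 2, 0, 0, 2, 2, 2, 2, 1, 2, 2, 0, 2, 2, 0, 0, 2, 2, 1, 1, 2, 2, 0, 2, 2, 0, 0, 2, 2, 2, 2, 0, 2, 2, 0, 0, 2, 2, 1, 2, 2, 0, 2, 2, 0, 0, 2, 2, 1, 1, 2, 2, 0, 2, 2, 0, 0, 2, 2, 2, 2, 0, 2, 2, 0, 0, 2, 2],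
  [1, 2, 2, 0, 2, 2, 0, 0, 2, 2, 1, 1, 2, 2, 0, 2, 2, 0, 0, 2, 2, 2, 2, 0, 2, 2, 0, 0, 2, 2],
  [2, 0, 2, 2, 0, 0, 2, 2, 0, 2, 2, 0, 0, 2, 2, 2, 2, 0, 2, 2, 0, 0, 2, 2],
  [2, 2, 0, 2, 2, 0, 0, 2, 2],
  [0],
  [1],
  [2],
  [1, 2, 1, 1, 2, 2],
  [3],
  [4]]

def rels : List (List ℕ × List ℕ) :=
  [([0, 0, 0], []),
  ([1, 1, 1], []),
  ([2, 2, 2], []),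
  ([3, 3, 3], []),
  ([4, 4, 4], []),
  ([5, 5, 5], []),
  ([6, 6, 6], []),
  ([7, 7, 7], []),
  ([8, 8, 8], []),
  ([0, 1], [1, 0]),
  ([0, 2], [2, 0]),
  ([0, 3], [3, 0]),
  ([0, 4], [4, 0]),
  ([0, 5], [5, 0]),
  ([1, 2], [2, 1]),
  ([1, 3], [3, 1]),
  ([1, 4], [4, 1]),
  ([1, 5], [5, 1]),
  ([2, 3], [3, 2]),
  ([2, 4], [4, 2]),
  ([2, 5], [5, 2]),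
  ([3, 4], [4, 3]),
  ([3, 5], [5, 3]),
  ([4, 5], [5, 4]),
  ([6, 7], [8, 7, 6]),
  ([6, 8], [8, 6]),
  ([7, 8], [8, 7]),
  ([6, 0], [0, 6]),
  ([6, 1], [0, 0, 1, 6]),
  ([6, 2], [2, 6]),
  ([6, 3], [0, 1, 3, 6]),
  ([6, 4], [2, 4, 6]),
  ([6, 5], [5, 6]),
  ([7, 0], [0, 7]),
  ([7, 1], [1, 7]),
  ([7, 2], [1, 2, 7]),
  ([7, 3], [3, 7]),
  ([7, 4], [3, 3, 4, 7]),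
  ([7, 5], [3, 4, 5, 7]),
  ([9, 0], [3, 5, 9]),
  ([10, 2], [7, 10])]

/-- the five elements -/
noncomputable def x0 : ℕ → Co1
  | 0 => elt C0 W0 h0
  | 1 => elt C1 W1 h1
  | 2 => elt C2 W2 h2
  | 3 => elt C3 W3 h3
  | 4 => elt C4 W4 h4
  | _ => 1

theorem ml0 : Ml rho L0 x0
  | 0 => mat_elt h0 (by decide +kernel)
  | 1 => mat_elt h1 (by decide +kernel)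
  | 2 => mat_elt h2 (by decide +kernel)
  | 3 => mat_elt h3 (by decide +kernel)
  | 4 => mat_elt h4 (by decide +kernel)
  | _ + 5 => mat_one.trans (map_one rho).symm

theorem ml1 : Ml rho L1 (BN.subT x0 ws) := ml0.sub (by decide +kernel)

theorem exists_rels : ∃ x : ℕ → Co1, x 0 ≠ 1 ∧ ∀ r ∈ rels, BN.ev x r.1 = BN.ev x r.2 :=
  ⟨_, by simpa using ml1.ne (u := [0]) (v := []) (by decide +kernel), fun r hr => ml1.eq rho_inj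
    ((allL_iff _ _).1 (show allL rels (fun r => eqM L1 r.1 r.2) = true by decide +kernel) r hr)⟩

end Cfsg.Agent.C3F.RC
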