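import Cfsg.Agent.C3F.Hm
import Cfsg.Agent.C1M.Co0
import Cfsg.Agent.C3F.RCoD

/-! `S` inside `Co₁` (for S5227).  Needs a computer construction of eleven matrices; put the data into a separate file if long.

Recipe.  (1) `ΓM = ⟨ρ x1, ρ x2, c1 1, y2⟩ ≅ 2.M₁₂` (order 190080) has an orbit of `24` vectors `±λ₁ … ±λ₁₂` on the dual space
`V*`; `C = {(λ_i v)_i}` is the ternary Golay code.  Choose a vector `a ∈ V3` of weight `12` and the signs of the `λ_i` with
`λ_i a = 1` (all-ones `∈ C`).  (2) Complex Leech lattice `Λ = {x ∈ ℤ[ω]¹² : x_i ≡ m mod θ, ((x_i - m)/θ mod θ)_i ∈ C,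
Σ x_i ≡ -3m mod 3θ}` (`θ = ω - ω̄`, `m ∈ ℤ`; if the minimum norm / determinant check fails try the other sign), real form
`(2/9)·Re⟨x, y⟩` (min norm 4, even unimodular).  `v ∈ V` acts by `diag(ω^{λ_i v})`; `γ ∈ ΓM` with
`λ_i ∘ γ⁻¹ = ε_i λ_{π i}` acts by `y_{π i} = x_i` (`ε_i = 1`) or `conj x_i` (`ε_i = -1`).  This is an action of `V ⋊ ΓM`
preserving `Λ`; it gives `p q r s t w x y z` satisfying `Rel` and, for `γ ∈ ΓM` with `γ ep = v`, `lab v = 4`
(e.g. `v = ±(0,0,0,1,0,1)`, which has `w ≠ 0` and trivial stabilizer in `Hs`), the element `N` with `N p N⁻¹ = f (inl v)`.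
(3) `W`: the abelian group `Ec 0 = ⟨p, q, s, y, z⟩` decomposes `ℝ²⁴` into `12` planes (in each of the four blocks of three
coordinates with equal `λ_i|V3`, the vectors `(1, ζ, ζ²)` up to units); search the `3¹²` maps acting on these planes by cube
roots of unity for those preserving `Λ` (there are `3⁶`); one outside `Ec 0` conjugates `r` to an element of `S \ J`
(for the right choice `W r W⁻¹ = f (ωf 1 (inl er)) = f ⟨⟨-1,0,1,0,0,0⟩, ⟨0,0,-1⟩⟩`).
(4) Isometry to the basis `bas` with Gram matrix `Gm` of `Spor/LeechBasis` (`Bm` its rows, norms scaled by `8`): find `24`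
minimal vectors of `Λ` with the Gram matrix of `b0, …, b22, b23 - b12` (or any basis of minimal vectors) by backtracking with
candidate lists over the `196560` minimal vectors (C++).  (5) In Lean: `Spor.Leech.elt C W (h : chkIso C W = true)` (rows of
`C` = images of the basis, `W = C·Gm`), `C1M.mat_elt` (`chkC C s`: reduction mod `2` as a `576`-bit number, note the
transpose), `C1M.mm`/`mat_mm`/`Ml`/`Ml.eq`/`Ml.ne`, `C1M.rho_inj`; all checks by `decide +kernel`.
`syl`: `Spor.Leech.card_Co1` (`4157776806543360000 = 3⁹ · m`), `S.card`, `Subgroup.card_mul_index`. -/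

set_option autoImplicit false
set_option linter.unusedSimpArgs false

namespace Cfsg.Agent.C3F

open Subgroup Cfsg.Agent.Fus Cfsg.FusionSystem Cfsg.Agent.SpF

theorem exists_co : ∃ f : S →* Cfsg.Spor.Co1, Md f ∧
    ∃ g v, (∀ u, act u v = v → u = 1) ∧ g * f (inl ep) * g⁻¹ = f (inl v) := by
  obtain ⟨x, hp, H⟩ := RC.exists_rels
  simp only [RC.rels, List.forall_mem_cons, Comp.BN.ev_cons, Comp.BN.ev_nil, mul_one, ← mul_assoc,
    ← pow_three'] at H
  obtain ⟨h0, h1, h2, h3, h4, h5, h6, h7, h8, h9, h10, h11, h12, h13, h14, h15, h16, h17, h18, h19, h20, h21, h22, h23, h24, h25, h26, h27, h28, h29, h30, h31, h32, h33, h34, h35, h36, h37, h38, h39, h40, -⟩ := H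
  obtain ⟨f, f1, f2, f3⟩ := exists_hom (G := Cfsg.Spor.Co1) ⟨⟨h0, h1, h2, h3, h4, h5, h6, h7, h8⟩,
    ⟨h9, h10, h11, h12, h13⟩, ⟨h14, h15, h16, h17⟩, ⟨h18, h19, h20, h21, h22, h23⟩, ⟨h24, h25, h26⟩,
    ⟨h27, h28, h29, h30, h31, h32⟩, ⟨h33, h34, h35, h36, h37, h38⟩⟩ hp
  have v0 : (0 : K).val = 0 := rfl
  have v1 : (1 : K).val = 1 := rfl
  have e1 : x 9 * f (inl ep) * (x 9)⁻¹ = f (inl ⟨0, 0, 0, 1, 0, 1⟩) := by
    rw [f2, f2, mul_inv_eq_iff_eq_mul]
    simpa only [ep, v0, v1, pow_zero, pow_one, mul_one, one_mul] using h39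
  have e2 : x 10 * f (inl er) * (x 10)⁻¹ = f (inr x2) := by
    rw [f2, f3, mul_inv_eq_iff_eq_mul]
    simpa only [er, x2, v0, v1, pow_zero, pow_one, mul_one, one_mul] using h40
  refine ⟨f, ⟨f1, fun h => ?_, ⟨_, _, by decide, e1⟩, _, _, _, (by decide : x2 ≠ 1), e2⟩,
    _, _, by decide, e1⟩
  have := f.range.card_mul_index
  rw [← Nat.card_congr (MonoidHom.ofInjective f1).toEquiv, S.card] at this
  obtain ⟨k, hk⟩ := h
  have e : Nat.card Cfsg.Spor.Co1 = 4157776806543360000 := Spor.Leech.card_Co1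
  omega

end Cfsg.Agent.C3F
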