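import Cfsg.Agent.C3F.Api
import Cfsg.Agent.Class.Sp.Gen

/-! `S` inside `Sp₆(3)` and `GSp₆(3)` (for S5227).

Chart: `f ⟨j, u⟩ = fromBlocks u (j u⁻ᵀ) 0 u⁻ᵀ` (`j` the symmetric matrix `!![p,q,r;q,s,t;r,t,w]`, `u = !![1,a,c;0,1,b;0,0,1]`),
a homomorphism into `Matrix.symplecticGroup (Fin 3) (ZMod 3)` (order by `card_Sp` in `Class/Sp/Gen`: `3⁹ · 8 · 80 · 728`).
`fus`: `g = fromBlocks P 0 0 P`, `P` the permutation matrix of `(0 2)`, `v = ew`.  `out`: `g = fromBlocks 1 0 E₃₃ 1`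
(`E₃₃ = single 2 2 1`) conjugates `f (inl er)` to `f ⟨⟨-1,0,1,0,0,0⟩, ⟨0,0,-1⟩⟩` (or the inverse of `g` does; check by `decide`).
For `GSp` take the semidirect product of `Sp` with `Multiplicative (ZMod 2)` acting by conjugation with
`δ = fromBlocks 1 0 0 (-1)` (or the subgroup of `GL` generated), `δ` inverts `f (inl v)`. -/

set_option autoImplicit false
set_option linter.unusedSimpArgs false

namespace Cfsg.Agent.C3F

open Subgroup Cfsg.Agent.Fus Cfsg.FusionSystem Cfsg.Agent.SpF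

open Matrix

namespace RSp

/-- The symplectic group. -/
abbrev Sp : Type := symplecticGroup (Fin 3) K

/-- The unitriangular matrix. -/
def um (u : Hs) : Matrix (Fin 3) (Fin 3) K := !![1, u.a, u.c; 0, 1, u.b; 0, 0, 1]

/-- The symmetric matrix. -/
def jm (v : V) : Matrix (Fin 3) (Fin 3) K := !![v.p, v.q, v.r; v.q, v.s, v.t; v.r, v.t, v.w]

theorem um_mul (u v : Hs) : um (u * v) = um u * um v := by
  ext i j; fin_cases i <;> fin_cases j <;> simp [um, mul_apply, Fin.sum_univ_three] <;> ring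

theorem um_one : um 1 = 1 := by decide +kernel

theorem um_inv (u : Hs) : um u * um u⁻¹ = 1 := by rw [← um_mul, mul_inv_cancel, um_one]

theorem um_inv' (u : Hs) : (um u)ᵀ * (um u⁻¹)ᵀ = 1 := by
  rw [← transpose_mul, ← um_mul, inv_mul_cancel, um_one, transpose_one]

theorem jm_tr (v : V) : (jm v)ᵀ = jm v := by ext i j; fin_cases i <;> fin_cases j <;> rfl

theorem jm_neg (v : V) : jm (-v) = -jm v := by ext i j; fin_cases i <;> fin_cases j <;> rfl

theorem jm_act (v : V) (u : Hs) (w : V) : jm (v + act u w) = jm v + um u * jm w * (um u)ᵀ := by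
  ext i j; fin_cases i <;> fin_cases j <;> simp [um, jm, act, vecMul, dotProduct, Fin.sum_univ_three] <;> ring

/-- The chart. -/
def fm (x : S) : Matrix (Fin 3 ⊕ Fin 3) (Fin 3 ⊕ Fin 3) K :=
  fromBlocks (um x.u) (jm x.j * (um x.u⁻¹)ᵀ) 0 (um x.u⁻¹)ᵀ

theorem fm_inl (v : V) : fm (inl v) = fromBlocks 1 (jm v) 0 1 := by simp [fm, um_one]

theorem fm_mem (x : S) : fm x ∈ symplecticGroup (Fin 3) K := by
  have h : (um x.u⁻¹)ᵀ * (um x.u)ᵀ = 1 := by rw [← transpose_mul, um_inv, transpose_one]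
  simp [SymplecticGroup.mem_iff, fm, J, fromBlocks_multiply, fromBlocks_transpose, jm_tr, Matrix.mul_assoc, h,
    ← Matrix.mul_assoc (um x.u), um_inv]

/-- The embedding. -/
def f : S →* Sp := MonoidHom.mk' (fun x => ⟨fm x, fm_mem x⟩) fun x y => Subtype.ext (by
  have h : (um x.u)ᵀ * ((um y.u⁻¹ * um x.u⁻¹)ᵀ) = (um y.u⁻¹)ᵀ := by
    rw [transpose_mul, ← Matrix.mul_assoc, um_inv', Matrix.one_mul]
  change fm (x * y) = fm x * fm y
  simp only [fm, fromBlocks_multiply, S.mul_u, S.mul_j, _root_.mul_inv_rev, um_mul, jm_act, Matrix.add_mul, Matrix.mul_assoc, h,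
    Matrix.mul_zero, Matrix.zero_mul, add_zero, zero_add, ← transpose_mul, add_comm])

theorem f_inj : Function.Injective f := (injective_iff_map_eq_one f).2 fun x h => by
  have h1 : fm x = fromBlocks 1 0 0 1 := (congrArg Subtype.val h).trans fromBlocks_one.symm
  obtain ⟨h2, h3, -, h4⟩ := fromBlocks_inj.1 h1
  rw [h4, Matrix.mul_one] at h3
  exact S.ext9 (congrFun₂ h3 0 0) (congrFun₂ h3 0 1) (congrFun₂ h3 0 2) (congrFun₂ h3 1 1) (congrFun₂ h3 1 2)
    (congrFun₂ h3 2 2) (congrFun₂ h2 0 1) (congrFun₂ h2 1 2) (congrFun₂ h2 0 2)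

theorem card : Nat.card Sp = 3 ^ 9 * 465920 := by
  rw [Class.Sp.card_Sp, Nat.card_zmod]; decide +kernel

theorem syl {G : Type} [Group G] {g : S →* G} (h : Function.Injective g) {n : ℕ} (c : Nat.card G = 3 ^ 9 * n)
    (hn : ¬ 3 ∣ n) : ¬ 3 ∣ g.range.index := by
  have := g.range.card_mul_index
  rw [← Nat.card_congr (MonoidHom.ofInjective h).toEquiv, S.card, c] at this
  rwa [Nat.eq_of_mul_eq_mul_left (by norm_num) this]

theorem md : Md f where
  inj := f_inj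
  syl := syl f_inj card (by norm_num)
  fus := ⟨⟨fromBlocks !![0, 0, 1; 0, 1, 0; 1, 0, 0] 0 0 !![0, 0, 1; 0, 1, 0; 1, 0, 0],
    SymplecticGroup.mem_iff.2 (by decide +kernel)⟩, ew, by decide,
    mul_inv_eq_of_eq_mul (Subtype.ext (by change _ * fm _ = fm _ * _; decide +kernel))⟩
  out := ⟨⟨fromBlocks 1 0 !![0, 0, 0; 0, 0, 0; 0, 0, 1] 1, SymplecticGroup.mem_iff.2 (by decide +kernel)⟩, er,
    ⟨⟨-1, 0, 1, 0, 0, 0⟩, ⟨0, 0, -1⟩⟩, by rw [mem_Js]; decide,
    mul_inv_eq_of_eq_mul (Subtype.ext (by change _ * fm _ = fm _ * _; decide +kernel))⟩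

/-- A similitude with multiplier `-1`. -/
def δ : Matrix (Fin 3 ⊕ Fin 3) (Fin 3 ⊕ Fin 3) K := fromBlocks 1 0 0 (-1)

theorem δ_facts : δ * δ = 1 ∧ δᵀ = δ ∧ δ * J (Fin 3) K * δ = -J (Fin 3) K := by decide +kernel

/-- Conjugation by `δ`. -/
def θf (x : Sp) : Sp := ⟨δ * x.1 * δ, SymplecticGroup.mem_iff.2 (by
  calc δ * x.1 * δ * J (Fin 3) K * (δ * x.1 * δ)ᵀ = δ * (x.1 * (δ * J (Fin 3) K * δ) * x.1ᵀ) * δ := by
        simp only [transpose_mul, δ_facts.2.1, Matrix.mul_assoc]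
    _ = _ := by rw [δ_facts.2.2, Matrix.mul_neg, Matrix.neg_mul, SymplecticGroup.mem_iff.1 x.2, Matrix.mul_neg,
      Matrix.neg_mul, δ_facts.2.2, neg_neg])⟩

theorem θf_θf (x : Sp) : θf (θf x) = x := Subtype.ext (by
  simp only [θf, Matrix.mul_assoc, δ_facts.1, Matrix.mul_one]
  rw [← Matrix.mul_assoc, δ_facts.1, Matrix.one_mul])

/-- Conjugation by `δ`. -/
def θ : MulAut Sp := ⟨⟨θf, θf, θf_θf, θf_θf⟩, fun x y => Subtype.ext (by
  simp only [θf, Submonoid.coe_mul, Matrix.mul_assoc]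
  rw [← Matrix.mul_assoc δ δ, δ_facts.1, Matrix.one_mul])⟩

theorem θ_inl (v : V) : θ (f (inl v)) = f (inl (-v)) := Subtype.ext (by
  change δ * fm _ * δ = fm _
  simp [fm_inl, δ, fromBlocks_multiply, jm_neg])

theorem minors : ∀ p q r s t w : K, p * s = q * q → p * w = r * r → s * w = t * t → p * t = r * q → q * t = r * s →
    q * w = r * t → ∃ u, u ≠ 1 ∧ act u ⟨p, q, r, s, t, w⟩ = ⟨p, q, r, s, t, w⟩ := by decide +kernel

theorem rank1 {g : Sp} {e v : V} (he : e = ep ∨ e = -ep) (h : g * f (inl e) * g⁻¹ = f (inl v)) :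
    ∃ u, u ≠ 1 ∧ act u v = v := by
  obtain ⟨x, y, h1⟩ : ∃ x y, fm (inl e) = 1 + vecMulVec x y := by
    rcases he with rfl | rfl
    · exact ⟨Pi.single (.inl 0) 1, Pi.single (.inr 0) 1, by decide +kernel⟩
    · exact ⟨Pi.single (.inl 0) 1, Pi.single (.inr 0) (-1), by decide +kernel⟩
  have h2 : g.1 * fm (inl e) * g⁻¹.1 = fm (inl v) := congrArg Subtype.val h
  rw [h1, Matrix.mul_add, Matrix.add_mul, Matrix.mul_one, show g.1 * g⁻¹.1 = 1 from congrArg Subtype.val (mul_inv_cancel g),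
    mul_vecMulVec, vecMulVec_mul, fm_inl] at h2
  have k : ∀ i j, jm v i j = (g.1 *ᵥ x) (.inl i) * (y ᵥ* g⁻¹.1) (.inr j) := fun i j => by
    simpa [vecMulVec_apply] using (congrFun₂ h2 (.inl i) (.inr j)).symm
  have m : ∀ i j i' j', jm v i j * jm v i' j' = jm v i' j * jm v i j' := fun i j i' j' => by simp only [k]; ring
  exact minors _ _ _ _ _ _ (m 0 0 1 1) (m 0 0 2 2) (m 1 1 2 2) (m 0 0 2 1) (m 1 0 2 1) (m 1 0 2 2)

end RSp

open RSp

/-- If `g = fromBlocks A B C D` inverts all `f (inl v)`: `g (1 + N_j) = (1 - N_j) g` with `N_j = fromBlocks 0 j 0 0` gives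
`C j = 0` (so `C = 0`) and `A j = -j D` for all symmetric `j`; `j = 1` gives `A = -D`; the symplectic condition `Aᵀ D = 1`,
and `A j = j A` for all symmetric `j` makes `A` a scalar `a` with `-a² = 1`, impossible in `𝔽₃`. -/
theorem exists_sp : ∃ (G : Type) (_ : Group G) (_ : Finite G) (f : S →* G), Md f ∧
    ¬ ∃ g, ∀ v, g * f (inl v) * g⁻¹ = f (inl (-v)) := by
  refine ⟨Sp, inferInstance, inferInstance, f, md, fun ⟨⟨g, hg⟩, h⟩ => ?_⟩
  have k : ∀ v, g * fm (inl v) = fm (inl (-v)) * g := fun v => congrArg Subtype.val (mul_inv_eq_iff_eq_mul.1 (h v))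
  rw [SymplecticGroup.mem_iff] at hg
  rw [← fromBlocks_toBlocks g] at k hg
  generalize g.toBlocks₁₁ = A, g.toBlocks₁₂ = B, g.toBlocks₂₁ = C, g.toBlocks₂₂ = D at k hg
  have e : jm ⟨1, 0, 0, 1, 0, 1⟩ = 1 := by decide +kernel
  have k1 := k ⟨1, 0, 0, 1, 0, 1⟩
  have k2 := k ep
  simp only [fm_inl, jm_neg, e, fromBlocks_multiply, fromBlocks_inj, Matrix.mul_one, Matrix.one_mul, Matrix.mul_zero,
    Matrix.zero_mul, add_zero, zero_add, add_eq_right, Matrix.neg_mul] at k1 k2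
  obtain ⟨-, h1, -, rfl⟩ := k1
  obtain rfl : A = -D := add_right_cancel (h1.trans (add_comm _ _))
  have h2 := k2.2.1
  rw [add_comm, add_right_inj, Matrix.neg_mul, neg_inj] at h2
  have h3 := congrFun₂ h2 0 1
  have h4 := congrFun₂ h2 0 2
  have h5 := congrFun₂ hg (.inr 0) (.inl 0)
  simp [J, fromBlocks_multiply, fromBlocks_transpose, jm, ep, mul_apply, Fin.sum_univ_three] at h3 h4 h5
  rw [← h3, ← h4] at h5
  revert h5
  generalize D 0 0 = a
  revert a
  decide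

/-- The conjugates of `f (inl ep)` are transvections: `M - 1` has rank one (all `2 × 2` minors vanish; this is invariant under
conjugation since `M - 1 = x yᵀ`), so the symmetric matrix `v` has all `2 × 2` minors zero, and then (`decide`) it is
fixed by some `u ≠ 1`. -/
theorem exists_gsp : ∃ (G : Type) (_ : Group G) (_ : Finite G) (f : S →* G), Md f ∧
    (∃ g, ∀ v, g * f (inl v) * g⁻¹ = f (inl (-v))) ∧
    ∀ g v, g * f (inl ep) * g⁻¹ = f (inl v) → ∃ u, u ≠ 1 ∧ act u v = v := by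
  have t2 : θ ^ 2 = 1 := MulEquiv.ext θf_θf
  have := Finite.of_equiv _ (SemidirectProduct.equivProd (φ := (zpowers θ).subtype)).symm
  have i := (SemidirectProduct.inl_injective (φ := (zpowers θ).subtype)).comp f_inj
  obtain ⟨g₁, v₁, h1, h2⟩ := md.fus
  obtain ⟨g₂, v₂, x, h3, h4⟩ := md.out
  refine ⟨Sp ⋊[(zpowers θ).subtype] zpowers θ, inferInstance, this, SemidirectProduct.inl.comp f,
    ⟨i, syl i (n := 465920 * orderOf θ) (by rw [SemidirectProduct.card, card, Nat.card_zpowers, mul_assoc]) fun d => ?_,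
      ⟨.inl g₁, v₁, h1, by simp only [MonoidHom.comp_apply, ← map_inv, ← map_mul, h2]⟩,
      .inl g₂, v₂, x, h3, by simp only [MonoidHom.comp_apply, ← map_inv, ← map_mul, h4]⟩,
    ⟨.inr ⟨θ, mem_zpowers θ⟩, fun v => ?_⟩, fun g v h => ?_⟩
  · exact absurd (d.trans (Nat.mul_dvd_mul_left _ (orderOf_dvd_of_pow_eq_one t2))) (by norm_num)
  · rw [MonoidHom.comp_apply, ← map_inv, ← SemidirectProduct.inl_aut]
    exact congrArg _ (θ_inl v)
  · rw [← g.inl_left_mul_inr_right, _root_.mul_inv_rev, MonoidHom.comp_apply, ← mul_assoc, mul_assoc _ (SemidirectProduct.inr _),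
      mul_assoc (SemidirectProduct.inl _), ← map_inv, ← SemidirectProduct.inl_aut, ← map_inv, ← map_mul, ← map_mul] at h
    obtain ⟨n, hn⟩ := g.right.2
    replace h := SemidirectProduct.inl_injective h
    rw [coe_subtype, ← hn] at h
    obtain ⟨k, rfl | rfl⟩ := Int.even_or_odd' n <;>
      simp only [_root_.zpow_add, _root_.zpow_mul, zpow_ofNat, t2, _root_.one_zpow, one_mul, pow_one, θ_inl,
        MulAut.one_apply] at h
    exacts [rank1 (.inl rfl) h, rank1 (.inr rfl) h]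

end Cfsg.Agent.C3F
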