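import Cfsg.Agent.C3F.Uniq
import Cfsg.Agent.C3F.Gam
import Cfsg.Agent.C3F.Form
import Cfsg.Agent.C3F.A3b
import Cfsg.Agent.C3F.RSp
import Cfsg.Agent.C3F.RCo

/-! Saturated fusion systems on the Sylow `3`-subgroup of `Co₁` with trivial core are realizable. -/

set_option autoImplicit false

namespace Cfsg.Agent.C3F

open Subgroup Cfsg.Agent.Fus Cfsg.FusionSystem Cfsg.Agent.SpF

variable {F F' : FusionSystem (⊤ : Subgroup S)}

theorem core_push {φ : MulAut S} (e : FIso F F' φ φ.symm) (hc : F.core = ⊥) : F'.core = ⊥ :=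
  by_contra fun h => core_ne_of_push e.symm h hc

/-- The normal form, with the invariants. -/
theorem norm (hF : F.IsSaturated 3) (hc : F.core = ⊥) : ∃ F' : FusionSystem (⊤ : Subgroup S), NF F' ∧
    (Gam F' = ΓL ∨ Gam F' = ΓL2 ∨ Gam F' = ΓM) ∧ (F'.IsRealizable 3 ↔ F.IsRealizable 3) ∧
    (ng ∈ Gam F' ↔ ng ∈ Gam F) ∧ (Pi (Gam F') ↔ Pi (Gam F)) := by
  obtain ⟨γ, hγ⟩ := exists_form (conj_mem_AS F) (syl_AS hF)
  obtain ⟨F₁, e₁⟩ := exists_push' (F' := F) γ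
  have c₁ := core_push e₁ hc
  have s₁ := e₁.saturated hF
  have n₁ : NF F₁ := nf_of_ess s₁ (ess_E3 s₁ c₁) fun φ hφ => hγ φ (push_AS e₁ hφ)
  have hZ : ∀ v ∈ Zv, v ∈ V3 := fun v hv => by rw [mem_Zv] at hv; exact mem_V3.2 ⟨hv.2.1, hv.2.2.2⟩
  have hp : ep ∈ Zv := by simp [ep]
  rcases n₁.gh.cases with h | h | ⟨k, h⟩
  · exact absurd c₁ (n₁.core_ne (hZ _ hp) le_rfl h)
  · refine absurd c₁ (n₁.core_ne hp hZ fun g hg v hv => ?_)
    rcases mem_Zv_iff.1 hv with rfl | rfl | rfl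
    exacts [by rw [map_zero]; exact Zv.zero_mem, h g hg, by rw [map_neg]; exact Zv.neg_mem (h g hg)]
  obtain ⟨F₂, e₂⟩ := exists_push' (F' := F₁) (ηS k)
  rw [← gam_push e₂ (g := ηV k) fun _ => rfl] at h
  exact ⟨F₂, n₁.push e₂, h,
    ⟨fun r => isRealizable_of_push e₁ (isRealizable_of_push e₂ r),
      fun r => isRealizable_of_push e₂.symm (isRealizable_of_push e₁.symm r)⟩,
    ⟨fun r => ng_push (φ := γ.symm) e₁.symm (ng_push (φ := (ηS k).symm) e₂.symm r), fun r => ng_push e₂ (ng_push e₁ r)⟩,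
    ⟨fun r => Pi_push (φ := γ.symm) e₁.symm (Pi_push (φ := (ηS k).symm) e₂.symm r), fun r => Pi_push e₂ (Pi_push e₁ r)⟩⟩

theorem not_Pi_L : ¬ Pi ΓL := fun ⟨γ, h, h'⟩ => not_Pi_L2 ⟨γ, L_le_L2 h, h'⟩

theorem isRealizable_S (hF : F.IsSaturated 3) (hc : F.core = ⊥) : F.IsRealizable 3 := by
  obtain ⟨F₁, n₁, h₁, r₁, -⟩ := norm hF hc
  refine r₁.1 ?_
  rcases h₁ with h₁ | h₁ | h₁
  · obtain ⟨G, _, _, f, hf, h⟩ := exists_sp
    obtain ⟨E, s, r, c, a, -⟩ := hf.fs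
    obtain ⟨E₁, m, k, r', a', -⟩ := norm s c
    have : ng ∉ Gam E₁ := fun x => h (a.1 (a'.1 x))
    rcases k with k | k | k
    · exact n₁.eq m (h₁.trans k.symm) (.inr h₁) ▸ r'.2 r
    · exact absurd (k ▸ ng_mem_L2) this
    · exact absurd (k ▸ ng_mem_M) this
  · obtain ⟨G, _, _, f, hf, h, h'⟩ := exists_gsp
    obtain ⟨E, s, r, c, a, b⟩ := hf.fs
    obtain ⟨E₁, m, k, r', a', b'⟩ := norm s c
    rcases k with k | k | k
    · exact absurd (k ▸ a'.2 (a.2 h)) ng_not_L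
    · exact n₁.eq m (h₁.trans k.symm) (.inl (h₁ ▸ ng_mem_L2)) ▸ r'.2 r
    · obtain ⟨g, v, h1, h2⟩ := b.1 (b'.1 (k ▸ Pi_M))
      obtain ⟨u, h3, h4⟩ := h' g v h2
      exact absurd (h1 u h4) h3
  · obtain ⟨f, hf, h⟩ := exists_co
    have := C1M.finite_Co1
    obtain ⟨E, s, r, c, -, b⟩ := hf.fs
    obtain ⟨E₁, m, k, r', -, b'⟩ := norm s c
    rcases k with k | k | k
    · exact absurd (k ▸ b'.2 (b.2 h)) not_Pi_L
    · exact absurd (k ▸ b'.2 (b.2 h)) not_Pi_L2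
    · exact n₁.eq m (h₁.trans k.symm) (.inl (h₁ ▸ ng_mem_M)) ▸ r'.2 r

theorem Md.equiv {G : Type} [Group G] [Finite G] {f : S →* G} (hf : Md f) (T : Sylow 3 G) : Nonempty (T ≃* S) :=
  ⟨(T.equiv ((isPGroup_S.of_surjective _ f.rangeRestrict_surjective).toSylow hf.syl)).trans
    (MonoidHom.ofInjective hf.inj).symm⟩

end Cfsg.Agent.C3F
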