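import Cfsg.Agent.C3F.Tool

/-! From the fusion system to `Γ = Gam F` and back (for S5227; patterns in `RFS/Fin`). -/

set_option autoImplicit false
set_option linter.unusedSimpArgs false

namespace Cfsg.Agent.C3F

open Subgroup Cfsg.Agent.Fus Cfsg.FusionSystem Cfsg.Agent.SpF

variable {F F' : FusionSystem (⊤ : Subgroup S)} {E : Subgroup S}

/-- Every `F`-conjugate of `J` is `J` (`map_J`, orders), `cen_J`. -/
theorem centric_J (F : FusionSystem (⊤ : Subgroup S)) : F.IsCentric Js := ⟨le_top, fun Q hQ => by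
  obtain ⟨f, hf, rfl⟩ := Fus.isConj_iff.1 hQ
  rw [hf.img_eq_self fun x hx => map_J le_rfl hf.homOn hf.injOn hx]
  exact fun x hx => cen_J fun y hy => hx.2 y hy⟩

theorem fullyNormalized_J (F : FusionSystem (⊤ : Subgroup S)) : F.IsFullyNormalized Js := ⟨le_top, fun Q hQ => by
  obtain ⟨f, hf, rfl⟩ := Fus.isConj_iff.1 hQ
  rw [hf.img_eq_self fun x hx => map_J le_rfl hf.homOn hf.injOn hx]⟩

/-- Restriction of a map defined on `J` (`map_J`, `mem_Gam`). -/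
theorem res_map {P : Subgroup S} {f : S → S} (hf : IsMap F P f) (hP : Js ≤ P) :
    ∃ γ ∈ Gam F, (∀ v, f (inl v) = inl (γ v)) ∧ ∀ x ∈ P, γ * ρ x.u * γ⁻¹ = ρ (f x).u := by
  obtain ⟨α, hα, e⟩ := (hf.mono hP).exists_aut' fun x hx => map_J hP hf.homOn hf.injOn hx
  have e1 : ∀ v, f (inl v) = inl (rj α v) := fun v => by rw [inl_rj, e _ (inl_mem v)]
  refine ⟨rj α, ⟨α, hα, rfl⟩, e1, fun x hx => LinearEquiv.ext fun v => inl_inj ?_⟩
  rw [GV.mul_apply, GV.mul_apply, ← e1, ρ_apply, ← conj_inl, hf.map_conj hx (hP (inl_mem _)), e1,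
    GV.apply_inv_self, conj_inl, ρ_apply]

theorem ρ_mem_Gam (F : FusionSystem (⊤ : Subgroup S)) (u : Hs) : ρ u ∈ Gam F :=
  mem_Gam.2 ((isMap_conj F le_top (mem_top (inr u))).congr fun x hx => by rw [eq_inl hx, conj_inl]; rfl)

theorem glue_ext (hF : F.IsSaturated 3) (hE : Js ≤ E) {γ : GV} (hγ : γ ∈ Gam F) (hn : Nm (E.map πu) γ) :
    ∃ g, IsMap F E g ∧ (∀ v, g (inl v) = inl (γ v)) ∧ ∀ x ∈ E, g x ∈ E := by
  obtain ⟨g, hg, e⟩ := sat_extend_of_centric (R := E) p3 hF (mem_Gam.1 hγ) (centric_J F) fun x hx => by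
    obtain ⟨u', -, hu⟩ := hn x.u ⟨x, hx, rfl⟩
    refine ⟨mem_normalizerIn_of_conj trivial fun y hy => Normal.conj_mem inferInstance y hy x, inr u', trivial,
      fun y hy => ?_⟩
    rw [eq_inl hy, conj_inl, conj_inl, inr_u, ← ρ_apply u', ← hu]
    simp
  obtain ⟨γ', -, e1, e2⟩ := res_map hg hE
  obtain rfl : γ' = γ := LinearEquiv.ext fun v => inl_inj ((e1 v).symm.trans (e _ (inl_mem v)))
  refine ⟨g, hg, e1, fun x hx => ?_⟩
  obtain ⟨_, ⟨y, hy, rfl⟩, hu⟩ := hn x.u ⟨x, hx, rfl⟩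
  have : g x * y⁻¹ ∈ Js := mul_inv_eq_one.2 (ρ_inj ((e2 x hx).symm.trans hu))
  exact (mul_mem_cancel_right (inv_mem hy)).1 (hE this)

/-- `sat_extend_of_centric` extends `x ↦ inl (γ x.j)` from `J` to `E` (`E ≤ Nf`: for `x ∈ E` use `inr u'`); the extension `g` has
`ρ (g x).u = γ ρ x.u γ⁻¹` (`res_map`), so maps `E` into `E`; `IsMap.exists_aut'`. -/
theorem ext_E (hF : F.IsSaturated 3) (hE : Js ≤ E) {γ : GV} (hγ : γ ∈ Gam F) (hn : Nm (E.map πu) γ) :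
    ∃ α ∈ F.autGroup E, ∀ v, afn α (inl v) = inl (γ v) := by
  obtain ⟨g, hg, e1, e2⟩ := glue_ext hF hE hγ hn
  obtain ⟨α, hα, e⟩ := hg.exists_aut' e2
  exact ⟨α, hα, fun v => (e _ (hE (inl_mem v))).trans (e1 v)⟩

theorem ext_AS (hF : F.IsSaturated 3) {γ : GV} (hγ : γ ∈ Gam F) (hn : Nm ⊤ γ) :
    ∃ φ ∈ AS F, ∀ v, φ (inl v) = inl (γ v) := by
  obtain ⟨g, hg, e1, -⟩ := glue_ext (E := ⊤) hF le_top hγ fun u _ =>
    (hn u trivial).imp fun u' h => ⟨⟨inr u', trivial, rfl⟩, h.2⟩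
  obtain ⟨φ, hφ, e⟩ := exists_AS hg
  exact ⟨φ, hφ, fun v => (e _).trans (e1 v)⟩

theorem tV_eq_ρ {a b c : Kˣ} {u : Hs} (h : tV a b c = ρ u) : a = 1 ∧ b = 1 ∧ c = 1 := by
  have h1 := congrArg V.p (DFunLike.congr_fun h ep)
  have h2 := congrArg V.q (DFunLike.congr_fun h eq')
  have h3 := congrArg V.t (DFunLike.congr_fun h et)
  simp only [tV_apply, ρ_apply, tv, act, ep, eq', et, mul_one, mul_zero, add_zero] at h1 h2 h3
  rw [h1, mul_one] at h2 h3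
  exact ⟨Units.ext h2, Units.ext h3, Units.ext h1⟩

theorem glue_tV {a b c : Kˣ} (h : tS a b c ∈ AS F) : tV a b c ∈ Gam F :=
  mem_Gam.2 ((IsMap.mono h le_top).congr fun x hx => by rw [eq_inl hx, tS_inl]; rfl)

theorem glue_bor (hF : F.IsSaturated 3) (hf : Form (AS F)) {γ : GV} (hγ : γ ∈ Gam F) (hn : Nm ⊤ γ) :
    ∃ (u : Hs) (a b c : Kˣ), tS a b c ∈ AS F ∧ γ = ρ u * tV a b c := by
  obtain ⟨φ, hφ, e⟩ := ext_AS hF hγ hn
  obtain ⟨g, a, b, c, rfl⟩ := hf φ hφ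
  refine ⟨g.u, a, b, c, (mul_mem_cancel_left (conj_mem_AS F g)).1 hφ, LinearEquiv.ext fun v => inl_inj ?_⟩
  rw [← e, MulAut.mul_apply, tS_inl, MulAut.conj_apply, conj_inl]; rfl

/-- `←`: extend (`ext_AS`, `tV_conj`) to `conj g * tS a' b' c'`; then `ρ g.u * tV a' b' c' = tV a b c`, `tV_eq_ρ`. -/
theorem tS_mem_iff (hF : F.IsSaturated 3) (hf : Form (AS F)) {a b c : Kˣ} : tS a b c ∈ AS F ↔ tV a b c ∈ Gam F := by
  refine ⟨glue_tV, fun h => ?_⟩
  obtain ⟨u, a', b', c', h1, e⟩ := glue_bor hF hf h fun u _ => ⟨_, trivial, tV_conj a b c u⟩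
  have q : ∀ e : Kˣ, e * e = 1 := by decide
  have q' : ∀ e e' : Kˣ, e * e' = 1 → e = e' := by decide
  obtain ⟨k1, k2, k3⟩ := tV_eq_ρ (a := a * a') (b := b * b') (c := c * c') (u := u) (by
    rw [← tV_mul, e, mul_assoc, tV_mul, q, q, q, tV_one, mul_one])
  rwa [q' _ _ k1, q' _ _ k2, q' _ _ k3]

theorem AS_le (hF' : F'.IsSaturated 3) (hf : Form (AS F)) (hf' : Form (AS F')) (h : Gam F ≤ Gam F') : AS F ≤ AS F' := by
  intro φ hφ
  obtain ⟨g, a, b, c, rfl⟩ := hf φ hφ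
  exact mul_mem (conj_mem_AS F' g) ((tS_mem_iff hF' hf').2
    (h (glue_tV ((mul_mem_cancel_left (conj_mem_AS F g)).1 hφ))))

/-- `syl`: `sat_fullyAutomized` for `J`, `SylIn.map` along `rj`, `(autInducedBy ⊤ Js).map rj = U0`.  `bor`: `ext_AS` and `Form`. -/
theorem NF.gh (h : NF F) : GH (Gam F) := by
  refine ⟨by rintro _ ⟨u, rfl⟩; exact ρ_mem_Gam F u, ?_, glue_tV h.t3, fun γ hγ hn => ?_⟩
  · have := SylIn.map (sat_fullyAutomized p3 h.sat (fullyNormalized_J F)).2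
      (autInducedBy_le_autGroup F le_top) rj.toMonoidHom
    rwa [show (autInducedBy ⊤ Js).map rj.toMonoidHom = U0 from le_antisymm ?_ ?_] at this
    · rintro _ ⟨α, hα, rfl⟩
      obtain ⟨g, -, e⟩ := mem_autInducedBy.1 hα
      exact ⟨g.u, LinearEquiv.ext fun v => inl_inj (by
        rw [MulEquiv.coe_toMonoidHom, inl_rj, e _ (inl_mem v), conj_inl, ρ_apply])⟩
    · rintro _ ⟨u, rfl⟩
      refine ⟨rj.symm (ρ u), mem_autInducedBy.2 ⟨inr u, trivial, fun x hx => ?_⟩, rj.apply_symm_apply _⟩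
      rw [eq_inl hx, ← inl_rj, rj.apply_symm_apply, conj_inl]; rfl
  · obtain ⟨u, a, b, c, -, e⟩ := glue_bor h.sat h.form hγ fun u _ =>
      (hn _ ⟨u, rfl⟩).imp fun u' h => ⟨trivial, h.symm⟩
    exact ⟨u, a, b, c, e⟩

theorem autJ_le (h : Gam F ≤ Gam F') : F.autGroup Js ≤ F'.autGroup Js :=
  (map_le_map_iff_of_injective (f := rj.toMonoidHom) rj.injective).1 h

/-- Copy of `RFS.push_AS`. -/
theorem push_AS {γ φ : MulAut S} (h : FIso F F' γ γ.symm) (hφ : φ ∈ AS F') :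
    φ ∈ (AS F).map (MulAut.conj γ).toMonoidHom := by
  refine ⟨γ⁻¹ * φ * γ, ?_, by simp [mul_assoc]⟩
  have := h.symm.isMap hφ (f' := (γ⁻¹ * φ * γ : MulAut S)) fun x _ => by simp [MulAut.inv_def]
  rwa [h.symm.g.imX_top] at this

theorem glue_gam {φ : MulAut S} (h : FIso F F' φ φ.symm) {g : GV} (hg : ∀ v, inl (g v) = φ (inl v)) {γ : GV}
    (hγ : γ ∈ Gam F) : g * γ * g⁻¹ ∈ Gam F' := by
  have := h.isMap (mem_Gam.1 hγ) (f' := fun x => inl ((g * γ * g⁻¹) x.j)) fun x hx => by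
    rw [eq_inl hx, ← hg, ← hg]; simp
  rw [imX_eq_of (fun _ => aut_J φ) fun y hy => ⟨φ.symm y, aut_J φ.symm hy, φ.apply_symm_apply y⟩] at this
  exact mem_Gam.2 this

theorem gam_push {φ : MulAut S} (h : FIso F F' φ φ.symm) {g : GV} (hg : ∀ v, inl (g v) = φ (inl v)) :
    Gam F' = (Gam F).map (MulAut.conj g).toMonoidHom := by
  have hg' : ∀ v, inl (g⁻¹ v) = φ.symm (inl v) := fun v => by
    rw [eq_comm, MulEquiv.symm_apply_eq, ← hg, GV.apply_inv_self]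
  refine le_antisymm (fun γ hγ => ⟨_, glue_gam (φ := φ.symm) h.symm hg' hγ, by simp [mul_assoc]⟩) ?_
  rintro _ ⟨γ, hγ, rfl⟩
  exact glue_gam h hg hγ

/-- `ηS k` commutes with the torus and is the identity on `E3`. -/
theorem NF.push {k : K} (h : NF F) (e : FIso F F' (ηS k) (ηS k).symm) : NF F' := by
  have fx : ∀ x ∈ E3, ηS k x = x := fun x hx => S.ext (by ext <;> simp [ηV, mem_E3.1 hx]) rfl
  refine ⟨e.saturated h.sat, fun φ hφ => ?_, ?_, ?_⟩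
  · obtain ⟨χ, h1, rfl⟩ := push_AS e hφ
    obtain ⟨g, a, b, c, rfl⟩ := h.form χ h1
    refine ⟨ηS k g, a, b, c, ?_⟩
    rw [MulEquiv.coe_toMonoidHom, MulAut.conj_apply, mul_inv_eq_iff_eq_mul, mul_assoc, ← ηS_comm_tS, ← mul_assoc,
      ← mul_assoc]
    congr 1
    exact MulEquiv.ext fun x => by simp only [MulAut.mul_apply, MulAut.conj_apply, map_mul, map_inv]
  · have := e.isMap h.t3 (f' := tS 1 (-1) 1) fun x _ => (DFunLike.congr_fun (ηS_comm_tS k 1 (-1) 1) x).symm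
    rwa [e.g.imX_top] at this
  · have := e.isMap ((mem_autGroup le_top).1 h.ω) (f' := afn ω0) fun x hx => by
      rw [fx x hx, fx _ (afn_mem ω0 hx)]
    rw [imX_eq_of (fun x hx => (fx x hx).symm ▸ hx) fun y hy => ⟨y, hy, fx y hy⟩] at this
    exact (mem_autGroup le_top).2 this

theorem ng_push {φ : MulAut S} (h : FIso F F' φ φ.symm) (hn : ng ∈ Gam F) : ng ∈ Gam F' := by
  obtain ⟨g, hg, -⟩ := exists_resS φ
  have := glue_gam h hg hn
  rwa [ng_comm, mul_inv_cancel_right] at this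

/-- With `g` from `exists_resS φ`: `g γ g⁻¹ ep = ± g γ ep`, whose stabilizer in `Hs` is trivial (`g` normalizes `U0`). -/
theorem Pi_push {φ : MulAut S} (h : FIso F F' φ φ.symm) (hn : Pi (Gam F)) : Pi (Gam F') := by
  obtain ⟨g, hg, hz, hρ⟩ := exists_resS φ
  obtain ⟨γ, hγ, k⟩ := hn
  refine ⟨_, glue_gam h hg hγ, fun u hu => ?_⟩
  have e := hρ (φ.symm (inr u))
  rw [φ.apply_symm_apply, inr_u] at e
  rw [← ρ_apply, ← e] at hu
  simp only [GV.mul_apply, GV.inv_apply_self, EmbeddingLike.apply_eq_iff_eq, ρ_apply] at hu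
  have : act (φ.symm (inr u)).u (γ ep) = γ ep := by
    rcases mem_Zv_iff.1 hz with c | c | c
    · exact absurd (g.map_eq_zero_iff.1 c) (by decide)
    · rwa [show g⁻¹ ep = ep from g.injective (by rw [GV.apply_inv_self, c])] at hu
    · rwa [show g⁻¹ ep = -ep from g.injective (by rw [GV.apply_inv_self, map_neg, c, neg_neg]), map_neg, act_neg,
        neg_inj] at hu
  rw [k _ this, map_one, mul_one, mul_inv_cancel] at e
  exact ρ_inj (e.symm.trans (map_one ρ).symm)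

end Cfsg.Agent.C3F
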