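import Cfsg.Agent.C3F.Api

/-! Homomorphisms out of `S` from generators and relations (for S5227). -/

set_option autoImplicit false
set_option linter.unusedSimpArgs false

namespace Cfsg.Agent.C3F

open Subgroup Cfsg.Agent.Fus Cfsg.FusionSystem Cfsg.Agent.SpF

/-- The relations of `S`: `p q r s t w` the basis of `J`, `x y z` the images of `x1 x2 zz`. -/
structure Rel {G : Type*} [Group G] (p q r s t w x y z : G) : Prop where
  cube : p ^ 3 = 1 ∧ q ^ 3 = 1 ∧ r ^ 3 = 1 ∧ s ^ 3 = 1 ∧ t ^ 3 = 1 ∧ w ^ 3 = 1 ∧ x ^ 3 = 1 ∧ y ^ 3 = 1 ∧ z ^ 3 = 1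
  cp : p * q = q * p ∧ p * r = r * p ∧ p * s = s * p ∧ p * t = t * p ∧ p * w = w * p
  cq : q * r = r * q ∧ q * s = s * q ∧ q * t = t * q ∧ q * w = w * q
  cr : r * s = s * r ∧ r * t = t * r ∧ r * w = w * r ∧ s * t = t * s ∧ s * w = w * s ∧ t * w = w * t
  hz : x * y = z * y * x ∧ x * z = z * x ∧ y * z = z * y
  hx : x * p = p * x ∧ x * q = p * p * q * x ∧ x * r = r * x ∧ x * s = p * q * s * x ∧ x * t = r * t * x ∧ x * w = w * x
  hy : y * p = p * y ∧ y * q = q * y ∧ y * r = q * r * y ∧ y * s = s * y ∧ y * t = s * s * t * y ∧ y * w = s * t * w * y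

namespace Hm

variable {G : Type*} [Group G]

theorem pw_add {a : G} (h : a ^ 3 = 1) (i j : K) : a ^ (i + j).val = a ^ i.val * a ^ j.val := by
  rw [ZMod.val_add, ← pow_eq_pow_mod _ h, pow_add]

theorem lc {a b : G} (h : a * b = b * a) (m n : ℕ) (X : G) : b ^ n * (a ^ m * X) = a ^ m * (b ^ n * X) :=
  (Commute.pow_pow h m n).symm.left_comm X

theorem heis {x y z : G} (h : x * y = z * y * x) (hx : x * z = z * x) (hy : y * z = z * y) (m n : ℕ) :
    x ^ m * y ^ n = z ^ (m * n) * y ^ n * x ^ m := by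
  have h1 : x * y ^ n = z ^ n * y ^ n * x := by
    induction n with
    | zero => simp
    | succ n ih => rw [pow_succ, ← mul_assoc, ih, mul_assoc, h, pow_succ, mul_assoc, mul_assoc, mul_assoc, mul_assoc,
        (Commute.pow_left hy n).left_comm, mul_assoc]
  induction m with
  | zero => simp
  | succ m ih => rw [pow_succ', mul_assoc, ih, mul_assoc, (Commute.pow_right hx _).left_comm, ← mul_assoc x, h1,
      Nat.succ_mul, pow_add, mul_assoc, mul_assoc, mul_assoc, mul_assoc]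

theorem ind {P : V → Prop} (ha : ∀ v w, P v → P w → P (v + w)) (h1 : P ep) (h2 : P eq') (h3 : P er) (h4 : P es)
    (h5 : P et) (h6 : P ew) (v : V) : P v := by
  have sm : ∀ (k : K) v, P v → P (k • v) := fun k v h => by
    rcases K3 k with rfl | rfl | rfl
    · rw [zero_smul, ← v.three]; exact ha _ _ (ha _ _ h h) h
    · rwa [one_smul]
    · rw [neg_smul, one_smul, neg_eq_of_add_eq_zero_left v.three]; exact ha _ _ h h
  rw [v.decomp]
  exact ha _ _ (ha _ _ (ha _ _ (ha _ _ (ha _ _ (sm _ _ h1) (sm _ _ h2)) (sm _ _ h3)) (sm _ _ h4)) (sm _ _ h5)) (sm _ _ h6)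

end Hm

/-- Define `g v = p^v.p ⋯ w^v.w` (additive since the generators commute and have cube `1`: `a ^ (i + j).val = a ^ i.val * a ^ j.val`),
`X ⟨a, b, c⟩ = z^c y^b x^a` (multiplicative: `x^a y^b = z^(ab) y^b x^a`), `f ⟨j, u⟩ = g j * X u`.  The set of `u` with
`X u * g v = g (act u v) * X u` for all `v` is closed under products and contains `x1, x2` (check on the basis, both sides
are additive in `v`), `zz = x1 x2 x1⁻¹ x2⁻¹`, and `u = zz^c x2^b x1^a`.  Injectivity: `ep_mem` applied to the kernel. -/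
theorem exists_hom {G : Type*} [Group G] {p q r s t w x y z : G} (h : Rel p q r s t w x y z) (hp : p ≠ 1) :
    ∃ f : S →* G, Function.Injective f ∧
      (∀ v, f (inl v) = p ^ v.p.val * q ^ v.q.val * r ^ v.r.val * s ^ v.s.val * t ^ v.t.val * w ^ v.w.val) ∧
      ∀ u, f (inr u) = z ^ u.c.val * y ^ u.b.val * x ^ u.a.val := by
  obtain ⟨g, hg⟩ : ∃ g : V → G, ∀ v,
      g v = p ^ v.p.val * q ^ v.q.val * r ^ v.r.val * s ^ v.s.val * t ^ v.t.val * w ^ v.w.val := ⟨_, fun _ => rfl⟩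
  obtain ⟨X, hX⟩ : ∃ X : Hs → G, ∀ u, X u = z ^ u.c.val * y ^ u.b.val * x ^ u.a.val := ⟨_, fun _ => rfl⟩
  obtain ⟨⟨c1, c2, c3, c4, c5, c6, c7, c8, c9⟩, ⟨a1, a2, a3, a4, a5⟩, ⟨b1, b2, b3, b4⟩, ⟨d1, d2, d3, d4, d5, d6⟩,
    ⟨z1, z2, z3⟩, ⟨e1, e2, e3, e4, e5, e6⟩, f1, f2, f3, f4, f5, f6⟩ := h
  have ga : ∀ v v', g (v + v') = g v * g v' := fun v v' => by
    simp only [hg, V.add_p, V.add_q, V.add_r, V.add_s, V.add_t, V.add_w, Hm.pw_add c1, Hm.pw_add c2, Hm.pw_add c3,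
      Hm.pw_add c4, Hm.pw_add c5, Hm.pw_add c6, mul_assoc, Hm.lc a1, Hm.lc a2, Hm.lc a3, Hm.lc a4, Hm.lc a5, Hm.lc b1,
      Hm.lc b2, Hm.lc b3, Hm.lc b4, Hm.lc d1, Hm.lc d2, Hm.lc d3, Hm.lc d4, Hm.lc d5, Hm.lc d6]
  have Xm : ∀ u u', X (u * u') = X u * X u' := fun u u' => by
    have k := Hm.heis z1 z2 z3 u.a.val u'.b.val
    rw [pow_eq_pow_mod _ c9, ← ZMod.val_mul] at k
    simp only [hX, Hs.mul_a, Hs.mul_b, Hs.mul_c, Hm.pw_add c7, Hm.pw_add c8, Hm.pw_add c9, mul_assoc, Hm.lc z2.symm,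
      Hm.lc z3.symm]
    rw [← mul_assoc (x ^ _), k]
    simp only [mul_assoc, Hm.lc z3.symm]
  have v0 : (0 : K).val = 0 := rfl
  have v1 : (1 : K).val = 1 := rfl
  have gb : g ep = p ∧ g eq' = q ∧ g er = r ∧ g es = s ∧ g et = t ∧ g ew = w ∧ g 0 = 1 ∧ X x1 = x ∧ X x2 = y ∧ X 1 = 1 := by
    simp only [hg, hX, ep, eq', er, es, et, ew, x1, x2, V.zero_p, V.zero_q, V.zero_r, V.zero_s, V.zero_t, V.zero_w,
      Hs.one_a, Hs.one_b, Hs.one_c, v0, v1, pow_zero, pow_one, mul_one, one_mul, and_self]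
  have ad : ∀ u v v', X u * g v = g (act u v) * X u → X u * g v' = g (act u v') * X u →
      X u * g (v + v') = g (act u (v + v')) * X u := fun u v v' k k' => by
    rw [act_add, ga, ga, ← mul_assoc, k, mul_assoc, k', mul_assoc]
  let T : Submonoid Hs :=
    { carrier := {u | ∀ v, X u * g v = g (act u v) * X u}
      one_mem' := fun v => by rw [gb.2.2.2.2.2.2.2.2.2, act_one, one_mul, mul_one]
      mul_mem' := fun {u u'} k k' v => by rw [Xm, act_mul, mul_assoc, k', ← mul_assoc, k, mul_assoc] }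
  have k1 : act x1 ep = ep ∧ act x1 eq' = ep + ep + eq' ∧ act x1 er = er ∧ act x1 es = ep + eq' + es ∧
    act x1 et = er + et ∧ act x1 ew = ew ∧ act x2 ep = ep ∧ act x2 eq' = eq' ∧ act x2 er = eq' + er ∧ act x2 es = es ∧
    act x2 et = es + es + et ∧ act x2 ew = es + et + ew := by decide
  have t1 : x1 ∈ T := by refine Hm.ind (ad x1) ?_ ?_ ?_ ?_ ?_ ?_ <;> simp only [k1, ga, gb] <;> assumption
  have t2 : x2 ∈ T := by refine Hm.ind (ad x2) ?_ ?_ ?_ ?_ ?_ ?_ <;> simp only [k1, ga, gb] <;> assumption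
  have ta : ∀ u, u ∈ T := fun u => by
    rw [(by decide +kernel : ∀ u : Hs, u = (x1 * x2 * x1 ^ 2 * x2 ^ 2) ^ u.c.val * x2 ^ u.b.val * x1 ^ u.a.val) u]
    exact mul_mem (mul_mem (pow_mem (mul_mem (mul_mem (mul_mem t1 t2) (pow_mem t1 2)) (pow_mem t2 2)) _) (pow_mem t2 _))
      (pow_mem t1 _)
  let f : S →* G := MonoidHom.mk' (fun a => g a.j * X a.u) fun a b => by
    rw [S.mul_j, S.mul_u, ga, Xm, mul_assoc, ← mul_assoc (g (act _ _)), ← ta a.u b.j]
    simp only [mul_assoc]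
  have fl : ∀ v, f (inl v) = g v := fun v => (congrArg (g v * ·) gb.2.2.2.2.2.2.2.2.2).trans (mul_one _)
  refine ⟨f, (MonoidHom.ker_eq_bot_iff f).1 (by_contra fun n => hp ?_), fun v => (fl v).trans (hg v),
    fun u => (congrArg (· * X u) gb.2.2.2.2.2.2.1).trans ((one_mul _).trans (hX u))⟩
  exact gb.1.symm.trans ((fl ep).symm.trans (ep_mem (fun a b k => f.normal_ker.conj_mem b k a) n))

end Cfsg.Agent.C3F
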