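import Cfsg.Agent.C3F.Api

/-! Linear algebra for `LD`, the case `|R'| = 9` (for S5227).  `[v, u] = act u v - v`.  If `R' ≤ R` has order `9` then
`R = R'` or `R = ⊤` (`sub_cases`). -/

set_option autoImplicit false
set_option linter.unusedSimpArgs false

namespace Cfsg.Agent.C3F

open Subgroup Cfsg.Agent.Fus Cfsg.FusionSystem Cfsg.Agent.SpF

variable {W D : AddSubgroup V} {R R' : Subgroup Hs}

theorem la1_R (h : R' ≤ R) (h9 : Nat.card R' = 9) : R = R' ∨ R = ⊤ := by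
  obtain ⟨k, hk, e⟩ := (Nat.dvd_prime_pow Nat.prime_three (m := 3)).1 (Hs.card ▸ R.card_subgroup_dvd_card :)
  have := Subgroup.card_le_of_le h
  interval_cases k
  · omega
  · omega
  · exact Or.inl (Subgroup.eq_of_le_of_card_ge h (by omega)).symm
  · exact Or.inr (R.eq_top_of_card_eq (e.trans Hs.card.symm))

theorem la1_unit {k : K} (hk : k ≠ 0) {x : V} (h : k • x ∈ W) : x ∈ W := by
  have := smul_mem3 k h
  rwa [smul_smul, (by decide : ∀ k : K, k ≠ 0 → k * k = 1) k hk, one_smul] at this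

theorem la1_Z2 (h1 : ep ∈ W) (h2 : eq' ∈ W) : Z2v ≤ W := fun v hv => by
  rw [mem_Z2v] at hv
  convert W.add_mem (smul_mem3 v.p h1) (smul_mem3 v.q h2) using 1
  ext <;> simp [ep, eq', hv]

theorem la1_ep (h : ∀ u, ∀ v ∈ W, act u v ∈ W) {v : V} (hv : v ∈ W) (h1 : v ∈ Z2v) (h2 : v.q ≠ 0) : ep ∈ W := by
  rw [mem_Z2v] at h1
  refine la1_unit (k := 2 * v.q) (mul_ne_zero (by decide) h2) ?_
  convert W.sub_mem (h x1 v hv) hv using 1
  ext <;> simp [ep, act, x1, h1]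

theorem la1_V3 (h : ∀ u, ∀ v ∈ W, act u v ∈ W) {v : V} (hv : v ∈ W) (h1 : v ∈ V3) (h2 : v.s ≠ 0) : V3 ≤ W := by
  rw [mem_V3] at h1
  have a1 := W.sub_mem (h x1 v hv) hv
  have a2 := la1_ep h a1 (by simp [act, x1, h1]) (by simpa [act, x1, h1] using h2)
  have a3 : eq' ∈ W := la1_unit h2 (by
    convert W.sub_mem a1 (smul_mem3 (2 * v.q + v.s) a2) using 1
    ext <;> simp [ep, eq', act, x1, h1]
    ring)
  have a4 : es ∈ W := la1_unit h2 (by
    convert W.sub_mem hv (la1_Z2 a2 a3 (x := ⟨v.p, v.q, 0, 0, 0, 0⟩) (by simp)) using 1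
    ext <;> simp [es, h1])
  intro y hy
  rw [mem_V3] at hy
  convert W.add_mem (smul_mem3 y.s a4) (la1_Z2 a2 a3 (x := ⟨y.p, y.q, 0, 0, 0, 0⟩) (by simp)) using 1
  ext <;> simp [es, hy]

theorem LD.la1_hK (h : LD W D ⊤ R') (h1 : eq' ∈ W) {f j : V} {y : Hs} (h2 : f ∈ W) (h3 : act y f - f ∈ Z2v)
    (h4 : (act y f - f).q = 1) (h5 : j ∉ W) : ¬ ∀ u, act u j - j ∈ Z2v := fun h6 => by
  obtain ⟨u, -, hu⟩ := h.hK j h5
  have a1 : ep ∈ AddSubgroup.closure {y | ∃ x ∈ (⊤ : Subgroup Hs), ∃ v ∈ W, y = act x v - v} :=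
    la1_unit (k := 2) (by decide) (AddSubgroup.subset_closure ⟨x1, trivial, eq', h1, by decide⟩)
  refine hu (la1_Z2 a1 ?_ (h6 u))
  rw [mem_Z2v] at h3
  have a2 : act y f - f ∈ AddSubgroup.closure {z | ∃ x ∈ (⊤ : Subgroup Hs), ∃ v ∈ W, z = act x v - v} :=
    AddSubgroup.subset_closure ⟨y, trivial, f, h2, rfl⟩
  convert AddSubgroup.sub_mem _ a2 (smul_mem3 (act y f - f).p a1) using 1
  generalize act y f - f = z at h3 h4
  ext <;> simp [ep, eq', h3, h4]

theorem LD.la1_diag (h : LD W D R R') (e : K) : ¬ ∀ u, u ∈ R' ↔ u.b = e * u.a := fun hR => by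
  have h30 : (3 : K) = 0 := rfl
  have hz : zz ∈ R' := (hR _).2 (by simp [zz])
  have hy : (⟨1, e, 0⟩ : Hs) ∈ R' := (hR _).2 (by simp)
  have h9 := card_diag hR
  have hD : D ≤ Zv := fun v hv => fix_zz_a (u := ⟨1, e, 0⟩) one_ne_zero (h.fix _ hz v hv) (h.fix _ hy v hv)
  let g : V →+ V := AddMonoidHom.mk' (fun v => ⟨v.p, v.q, v.r, v.s + e * v.r, v.t, v.w⟩) fun x y => by
    ext <;> simp
    ring
  have hg : ∀ v, v ∈ Vp.comap g ↔ v.s + e * v.r = 0 ∧ v.t = 0 ∧ v.w = 0 := fun v => mem_Vp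
  have h1 : W ≤ Vp.comap g := fun v hv => by
    have a := mem_Zv.1 (hD (h.cm _ hz v hv))
    have b := (mem_Zv.1 (hD (h.cm _ hy v hv))).1
    simp [act, zz] at a b
    rw [hg]
    exact ⟨by linear_combination b - e * a.1, a⟩
  have h2 : Nat.card D = 3 := by
    refine ((Nat.dvd_prime Nat.prime_three).1 (card_Zv ▸ AddSubgroup.card_dvd_of_le hD)).resolve_left fun h2 => ?_
    have h3 : W ≤ Zv := fun v hv => by
      have a := congrArg V.p (AddSubgroup.mem_bot.1 ((AddSubgroup.card_eq_one.1 h2).le (h.cm _ hz v hv)))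
      have b := congrArg V.p (AddSubgroup.mem_bot.1 ((AddSubgroup.card_eq_one.1 h2).le (h.cm _ hy v hv)))
      obtain ⟨c1, c2, c3⟩ := (hg v).1 (h1 hv)
      simp [act, zz, c3] at a b
      have d : v.r = 0 := a.resolve_left (by decide)
      have d' : v.s = 0 := by simpa [d] using c1
      exact mem_Zv.2 ⟨by linear_combination 2 * b - 2 * d' - v.q * h30, d, d', c2, c3⟩
    have := AddSubgroup.card_le_of_le h3
    rw [h.card, h2, h9, card_Zv] at this
    omega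
  have h3 : W = Vp.comap g := AddSubgroup.eq_of_le_of_card_ge h1 (by
    rw [h.card, h2, h9]
    refine Nat.le_of_dvd (by norm_num) (card_Vp ▸ AddSubgroup.card_comap_dvd_of_injective Vp g ?_ :)
    refine (injective_iff_map_eq_zero g).2 fun v hv => ?_
    have a := V.ext_iff.1 hv
    simp [g] at a
    ext <;> simp [a]
    simpa [a.2.2.1] using a.2.2.2.1)
  rcases la1_R h.leR h9 with rfl | rfl
  · refine h.hT es et (fun u _ => ?_) (fun u hu => ?_) ?_ ?_ ?_ ?_ zz hz (by decide) ?_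
    any_goals rw [h3, hg]
    · simp [act, es]
    · simp [act, et, (hR u).1 hu]
      linear_combination e * u.a * h30
    any_goals simp [es, et]
    rw [show act zz ⟨0, 0, 0, 1, 0, 0⟩ - ⟨0, 0, 0, 1, 0, 0⟩ = 0 by decide]
    exact D.zero_mem
  · refine h.la1_hK (f := ⟨0, 0, 1, -e, 0, 0⟩) (y := x2) (j := es) ?_ ?_ ?_ ?_ ?_ fun u => ?_
    any_goals rw [h3, hg]
    all_goals simp [act, es, eq', x2]

/-- `D ≤ Zv` (`fix_Apt`), `|W| = 9 |D|`.  `[W, Apt] ≤ D ≤ Zv` forces `W ≤ Vp` (coordinates `q, r` of `[v, x1], [v, zz]`).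
If `|D| = 1` then `W ≤ Zv` has order `9`, absurd; so `|W| = 27`, `W = Vp`.  If `R = ⊤`: `hK` fails for `j = es`, since
`[es, u] = a² ep + a eq'` and `eq' = [er, x2]`, `2 ep = [eq', x1]`.  If `R = Apt`: `hT` fails for `j1 = es`, `j2 = et`, `x = zz`
(`[es, zz] = 0`). -/
theorem LD.not_Apt (h : LD W D R R') : R' ≠ Apt := fun e => h.la1_diag 0 fun u => by simp [e]

/-- `R' = {b = e a}`: as for `Apt` with `D ≤ Zv` (`fix_zz_a`), `W = {t = w = 0, e r + s = 0}` (order `27`; an upper bound for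
the order of any subgroup of it suffices: inject by `(p, q, r)`; then `ep, eq', f = er - e es ∈ W` by counting), `j = es`;
`eq' = [f, x2]`; for `R = R'` take `j2 = et` (`[et, u] = a f + ⋯`). -/
theorem LD.not_diag (h : LD W D R R') {e : K} (he : e ≠ 0) : ¬ ∀ u, u ∈ R' ↔ u.b = e * u.a :=
  (fun _ => h.la1_diag e) he

theorem LD.not_top (h : LD W D R R') : R' ≠ ⊤ := fun e =>
  absurd (h.comm x1 (e ▸ mem_top _) x2 (e ▸ mem_top _)) (by decide)

/-- `R' = ⊥` gives `D = W` (`card`, `le`), and `hF` fails for `j` from `exists_fix_mod`. -/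
theorem LD.not_bot (h : LD W D R R') : R' ≠ ⊥ := fun e => by
  obtain ⟨j, h1, h2⟩ := exists_fix_mod h.ne
  obtain ⟨x, h3, h4⟩ := h.hF j h1 fun u _ => h2 u
  rw [e, mem_bot] at h3
  rw [h3, act_one, sub_self] at h4
  exact h4 D.zero_mem

/-- `D ≤ V3` (`fix_Aln`), `[W, Aln] ≤ D ≤ V3` gives `W ≤ J5`; `|W| = 9 |D|`, `|D| ∈ {1, 3, 9, 27}` (`card_sub`).
`27`: first case.  If `R = Aln`: `V3 ≤ W` (`cen`), so `|D| = 9` (second case) or `3` (third).  Let `R = ⊤`.
`9`: if some `v ∈ W` has `t ≠ 0`, invariance gives `W = J5` (`[v, x1]` has `r ≠ 0 = t`, `[v, x2]` has `s ≠ 0`, then `eq', ep`),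
too big; so `W ≤ Z3v`, equal by order, `V3 ≤ W`.  `3`: `D` is invariant, nonzero in `V3`, so contains `ep`
(apply `[·, x1]` at most twice), `D = Zv`; `[W, Aln] ≤ Zv` gives `W ≤ V3`, `W = V3`, and `hK` fails for `j = er`
(`[er, u] ∈ Z2v`, `2 ep = [eq', x1]`, `ep + eq' = [es, x1]`).  `1`: `W ≤ V3` invariant of order `9`; an element with `s ≠ 0` would
generate `V3`; so `W = Z2v` and `hF` fails for `j = es` (`[es, Aln] = 0`). -/
theorem LD.of_Aln (h : LD W D R R') (e : R' = Aln) : (W = J5 ∧ D = V3) ∨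
    (V3 ≤ W ∧ W ≤ J5 ∧ Nat.card W = 81 ∧ Nat.card D = 9) ∨ (R = Aln ∧ W = V3 ∧ Nat.card D = 3) := by
  subst e
  have hD : D ≤ V3 := fun v hv => fix_Aln.1 fun u hu => h.fix u hu v hv
  have hW : W ≤ J5 := fun v hv => by simpa [act, zz] using (mem_V3.1 (hD (h.cm zz rfl v hv))).1
  have hc := h.card
  obtain ⟨k, hk, e⟩ := (Nat.dvd_prime_pow Nat.prime_three (m := 3)).1 (card_V3 ▸ AddSubgroup.card_dvd_of_le hD :)
  rw [card_Aln, e] at hc
  obtain rfl | hk := hk.eq_or_lt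
  · exact Or.inl ⟨AddSubgroup.eq_of_le_of_card_ge hW (by rw [card_J5, hc]; rfl),
      AddSubgroup.eq_of_le_of_card_ge hD (by rw [card_V3, e]; rfl)⟩
  right
  rcases la1_R h.leR card_Aln with rfl | rfl
  · have h1 : V3 ≤ W := fun v hv => h.cen v (fix_Aln.2 hv)
    have h2 := AddSubgroup.card_le_of_le h1
    rw [card_V3] at h2
    interval_cases k
    · omega
    · exact Or.inr ⟨rfl, (AddSubgroup.eq_of_le_of_card_ge h1 (by rw [card_V3, hc]; rfl)).symm, e⟩
    · exact Or.inl ⟨h1, hW, hc, e⟩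
  have iW : ∀ u, ∀ v ∈ W, act u v ∈ W := fun u => h.invW u trivial
  have iD : ∀ u, ∀ v ∈ D, act u v ∈ D := fun u => h.invD u trivial
  obtain rfl | hk := (Nat.le_of_lt_succ hk).eq_or_lt
  · refine Or.inl ⟨?_, hW, hc, e⟩
    by_cases h1 : W ≤ Z3v
    · rw [AddSubgroup.eq_of_le_of_card_ge h1 (by rw [card_Z3v, hc]; rfl)]
      exact fun v hv => mem_Z3v.2 (mem_V3.1 hv).2
    obtain ⟨v, hv, h2⟩ := SetLike.not_le_iff_exists.1 h1
    have h3 := mem_J5.1 (hW hv)
    refine la1_V3 iW (W.sub_mem (iW x2 v hv) hv) (by simp [act, x2, h3]) fun h4 => h2 (mem_Z3v.2 ⟨?_, h3⟩)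
    simp [act, x2, h3] at h4
    exact h4.resolve_left (by decide)
  exfalso
  have h3 : Nat.card D ≤ 3 := by interval_cases k <;> omega
  have h1 : D ≤ Zv := fun v hv => by
    have a := mem_V3.1 (hD hv)
    have b : v.s = 0 := by_contra fun b => by
      have := AddSubgroup.card_le_of_le (la1_V3 iD hv (hD hv) b)
      rw [card_V3] at this
      omega
    by_contra c
    have d := la1_ep iD hv (mem_Z2v.2 ⟨a.1, b, a.2⟩) fun d => c (mem_Zv.2 ⟨d, a.1, b, a.2⟩)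
    have d' : Zv ≤ D := fun y hy => by
      rcases mem_Zv_iff.1 hy with rfl | rfl | rfl
      exacts [D.zero_mem, d, D.neg_mem d]
    exact c ((AddSubgroup.eq_of_le_of_card_ge d' (card_Zv ▸ h3)).ge hv)
  have h2 : W ≤ V3 := fun v hv => by
    have a := (mem_Zv.1 (h1 (h.cm zz rfl v hv))).1
    have b := (mem_Zv.1 (h1 (h.cm x2 rfl v hv))).1
    simp [act, zz, x2] at a b
    exact mem_V3.2 ⟨b, a, mem_J5.1 (hW hv)⟩
  interval_cases k
  · have h4 : W ≤ Z2v := fun v hv => by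
      have a := mem_V3.1 (h2 hv)
      refine mem_Z2v.2 ⟨a.1, by_contra fun b => ?_, a.2⟩
      have := AddSubgroup.card_le_of_le (la1_V3 iW hv (h2 hv) b)
      rw [card_V3] at this
      omega
    obtain rfl := AddSubgroup.eq_of_le_of_card_ge h4 (by rw [card_Z2v, hc]; rfl)
    obtain ⟨x, hx, h5⟩ := h.hF es (by simp [es]) fun u _ => by simp [act, es]
    refine h5 ?_
    convert D.zero_mem
    ext <;> simp [act, es, mem_Aln.1 hx]
  · obtain rfl := AddSubgroup.eq_of_le_of_card_ge h2 (by rw [card_V3, hc]; rfl)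
    refine h.la1_hK (f := es) (y := x1) (j := er) ?_ ?_ ?_ ?_ ?_ fun u => ?_ <;> simp [act, es, eq', er, x1]

end Cfsg.Agent.C3F
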