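import Cfsg.Agent.C3F.Star

/-! The normalizer of `ρ Apt` in `Γ` (for S5227).  Conjugation on `Apt ∋ (a, 0, c)`: `ρ x2 : (a, c) ↦ (a, c - a)`,
`y2 : (a, c) ↦ (a - c, c)`, `t2 : (a, c) ↦ (-a, -c)`. -/

set_option autoImplicit false
set_option linter.unusedSimpArgs false

namespace Cfsg.Agent.C3F

open Subgroup Cfsg.Agent.Fus Cfsg.FusionSystem Cfsg.Agent.SpF

variable {Γ : Subgroup GV}

theorem y2_conj (a c : K) : y2 * ρ ⟨a, 0, c⟩ * y2⁻¹ = ρ ⟨a - c, 0, c⟩ := by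
  rw [mul_inv_eq_iff_eq_mul]
  refine LinearEquiv.ext fun v => ?_
  ext <;> simp only [GV.mul_apply, ρ_apply, y2, mkA_apply, act] <;> ring

/-- `γ` acts on `Apt` by the matrix `[[p, q], [r, s]]` -/
def AcA (γ : GV) (p q r s : K) : Prop := ∀ a c, γ * ρ ⟨a, 0, c⟩ * γ⁻¹ = ρ ⟨p * a + q * c, 0, r * a + s * c⟩

namespace AcA

variable {γ δ : GV} {p q r s p' q' r' s' : K}

theorem cg (h : AcA γ p q r s) (e : p = p' ∧ q = q' ∧ r = r' ∧ s = s') : AcA γ p' q' r' s' := by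
  obtain ⟨rfl, rfl, rfl, rfl⟩ := e
  exact h

theorem uq (h : AcA γ p q r s) (h' : AcA γ p' q' r' s') : p = p' ∧ q = q' ∧ r = r' ∧ s = s' := by
  have a := ρ_inj ((h 1 0).symm.trans (h' 1 0))
  have b := ρ_inj ((h 0 1).symm.trans (h' 0 1))
  simp only [Hs.mk.injEq, mul_one, mul_zero, add_zero, zero_add, true_and] at a b
  exact ⟨a.1, b.1, a.2, b.2⟩

theorem mul (h : AcA γ p q r s) (h' : AcA δ p' q' r' s') :
    AcA (γ * δ) (p * p' + q * r') (p * q' + q * s') (r * p' + s * r') (r * q' + s * s') := fun a c => by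
  rw [show γ * δ * ρ ⟨a, 0, c⟩ * (γ * δ)⁻¹ = γ * (δ * ρ ⟨a, 0, c⟩ * δ⁻¹) * γ⁻¹ by group, h', h]
  congr 2 <;> ring

theorem det (h : AcA γ p q r s) : p * s - q * r ≠ 0 := fun e => by
  obtain ⟨a, c, n, e1, e2⟩ := (by decide : ∀ p q r s : K, p * s - q * r = 0 → ∃ a c : K, (⟨a, 0, c⟩ : Hs) ≠ 1 ∧
    p * a + q * c = 0 ∧ r * a + s * c = 0) p q r s e
  have := h a c
  rw [e1, e2, show (⟨0, 0, 0⟩ : Hs) = 1 from rfl, map_one, conj_eq_one_iff] at this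
  exact n (ρ_inj (this.trans (map_one ρ).symm))

theorem inv (h : AcA γ p q r s) : AcA γ⁻¹ ((p * s - q * r) * s) (-((p * s - q * r) * q)) (-((p * s - q * r) * r))
    ((p * s - q * r) * p) := fun a c => by
  have d := (by decide : ∀ d : K, d ≠ 0 → d * d = 1) _ h.det
  rw [inv_inv, mul_assoc, inv_mul_eq_iff_eq_mul, ← eq_mul_inv_iff_mul_eq, h]
  congr 2
  · linear_combination (-a) * d
  · linear_combination (-c) * d

theorem cen (h : AcA γ 1 0 0 1) : ∀ u ∈ Apt, γ * ρ u = ρ u * γ := fun ⟨a, b, c⟩ e => by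
  obtain rfl : b = 0 := e
  rw [← mul_inv_eq_iff_eq_mul, h]
  simp

theorem hs (u : Hs) : AcA (ρ u) 1 0 (-u.b) 1 := fun a c => by
  rw [← map_inv, ← map_mul, ← map_mul]
  congr 1
  ext <;> simp
  ring

theorem yy : AcA y2 1 (-1) 0 1 := fun a c => by
  rw [y2_conj]
  congr 2 <;> ring

theorem tt (e1 e2 e3 : Kˣ) : AcA (tV e1 e2 e3) e1 0 0 (e1 * e2) := fun a c => by
  rw [tV_conj]
  congr 2 <;> ring

theorem of_nm (h : Nm Apt γ) : ∃ p q r s, AcA γ p q r s := by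
  obtain ⟨⟨p, _, r⟩, (rfl : _ = 0), e1⟩ := h x1 rfl
  obtain ⟨⟨q, _, s⟩, (rfl : _ = 0), e2⟩ := h zz rfl
  refine ⟨p, q, r, s, fun a c => ?_⟩
  rw [(by decide : ∀ a c : K, (⟨a, 0, c⟩ : Hs) = x1 ^ a.val * zz ^ c.val) a c, map_mul, map_pow, map_pow, ← conj_mul,
    ← conj_pow, ← conj_pow, e1, e2, ← map_pow, ← map_pow, ← map_mul]
  congr 1
  revert p q r s a c
  exact fun p r _ q s _ a c => (by decide +kernel : ∀ p q r s a c : K,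
    (⟨p, 0, r⟩ : Hs) ^ a.val * ⟨q, 0, s⟩ ^ c.val = ⟨p * a + q * c, 0, r * a + s * c⟩) p q r s a c

end AcA

/-- the stabilizer of `ep` -/
def FeA : Subgroup GV := MulAction.stabilizer GV ep

theorem mem_FeA {γ : GV} : γ ∈ FeA ↔ γ ep = ep := Iff.rfl

theorem ρ_FeA (u : Hs) : ρ u ∈ FeA := act_ep u

theorem y2_FeA : y2 ∈ FeA := mem_FeA.2 (by decide)

theorem t2_FeA : t2 ∈ FeA := mem_FeA.2 (by decide)

theorem locA_pm {γ : GV} (hz : γ ep ∈ Zv) : γ ep = ep ∨ γ ep = -ep :=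
  (mem_Zv_iff.1 hz).resolve_left fun e => absurd (γ.map_eq_zero_iff.1 e) (by decide)

theorem cj_FeA {γ δ : GV} (hz : γ ep ∈ Zv) (h : δ ∈ FeA) : γ * δ * γ⁻¹ ∈ FeA := by
  have k : δ (γ⁻¹ ep) = γ⁻¹ ep := by
    rcases locA_pm hz with e | e
    · rw [← e, GV.inv_apply_self]; exact h
    · rw [← neg_neg ep, ← e, map_neg, GV.inv_apply_self, map_neg, mem_FeA.1 h]
  rw [mem_FeA, GV.mul_apply, GV.mul_apply, k, GV.apply_inv_self]

theorem mul_Zv {γ δ : GV} (h : δ ∈ FeA) (hz : γ ep ∈ Zv) : (δ * γ) ep ∈ Zv := by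
  rcases locA_pm hz with e | e <;> rw [GV.mul_apply, e]
  · rw [mem_FeA.1 h]; simp [ep]
  · rw [map_neg, mem_FeA.1 h]; simp [ep]

theorem ng_ng : ng * ng = 1 := by rw [ng, tV_mul, ← tV_one]; rfl

/-- `δ` commutes with `n_a = act a - 1`.  For `v ∈ Vp = im n_a`, `δ v ∈ Vp` (`im_Apt`) and `n_a (δ v) = δ (n_a v) = n_a v ∈ Zv` for all
`a ∈ Apt`, so `δ v - v ∈ Zv` (`fix_Apt`); for any `v`, `n_a (δ v - v) = δ (n_a v) - n_a v ∈ Zv` for all `a`, so `δ v - v ∈ Vp`. -/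
theorem cenA_lin {δ : GV} (hc : ∀ u ∈ Apt, δ * ρ u = ρ u * δ) (h1 : δ ep = ep) : ChV δ ⊥ [Zv, Vp] := by
  have c : ∀ u ∈ Apt, ∀ v, act u (δ v - v) - (δ v - v) = δ (act u v - v) - (act u v - v) := fun u hu v => by
    rw [map_sub, act_sub, show δ (act u v) = act u (δ v) from DFunLike.congr_fun (hc u hu) v]
    abel
  have a1 : ∀ v ∈ Zv, δ v - v = 0 := fun v hv => by
    rcases mem_Zv_iff.1 hv with rfl | rfl | rfl <;> simp [h1]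
  have a2 : ∀ v ∈ Vp, δ v - v ∈ Zv := fun v hv => fix_Apt.1 fun u hu => sub_eq_zero.1 ((c u hu v).trans (a1 _ (by
    rw [mem_Vp] at hv
    simp [act, hv, mem_Apt.1 hu])))
  refine ⟨bot_le, a1, fun v hv => ?_, a2, fun v => ?_⟩
  · rw [mem_Zv] at hv
    exact mem_Vp.2 hv.2.2
  · have k1 := c x1 rfl v ▸ a2 _ (show act x1 v - v ∈ Vp by simp [act, x1])
    have k2 := c zz rfl v ▸ a2 _ (show act zz v - v ∈ Vp by simp [act, zz])
    generalize δ v - v = w at k1 k2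
    simp [act, x1, zz] at k1 k2
    exact mem_Vp.2 ⟨k1.1, k1.2, k2.2⟩

theorem GH.cenA1 (h : GH Γ) {γ : GV} (hγ : γ ∈ Γ) (hc : ∀ u ∈ Apt, γ * ρ u = ρ u * γ) (h1 : γ ep = ep) :
    ∃ u ∈ Apt, γ = ρ u := by
  exact h.k0 hγ (cenA_lin hc h1)

/-- `γ ep = ± ep` (`fix_Apt`); if `-`, then `δ = γ ng` satisfies `cenA_lin`, so `δ³ = 1` (chain of length three, characteristic `3`),
`γ³ = ng ∈ Γ`. -/
theorem GH.cenA (h : GH Γ) {γ : GV} (hγ : γ ∈ Γ) (hc : ∀ u ∈ Apt, γ * ρ u = ρ u * γ) :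
    ∃ u ∈ Apt, γ = ρ u ∨ (ng ∈ Γ ∧ γ = ρ u * ng) := by
  rcases locA_pm (γ := γ) (fix_Apt.1 fun u hu => (DFunLike.congr_fun (hc u hu) ep).symm.trans
    (congrArg γ (act_ep u))) with e | e
  · obtain ⟨u, hu, k⟩ := h.cenA1 hγ hc e
    exact ⟨u, hu, Or.inl k⟩
  have h1 : ∀ u ∈ Apt, γ * ng * ρ u = ρ u * (γ * ng) := fun u hu => by
    rw [mul_assoc, ← ng_comm, ← mul_assoc, hc u hu, mul_assoc]
  have h2 : (γ * ng) ep = ep := by rw [GV.mul_apply, ng_apply, map_neg, e, neg_neg]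
  obtain ⟨N, hN, k⟩ := exists_chv (cenA_lin h1 h2).one
  obtain ⟨i, hi⟩ := hN ⟨_, (k _).2 (cenA_lin h1 h2)⟩
  obtain ⟨j, hj⟩ : Odd (3 ^ i) := Odd.pow (by decide)
  have h3 : (γ * ng) ^ 3 ^ i = 1 := congrArg Subtype.val hi
  rw [Commute.mul_pow (ng_comm γ), hj, pow_succ ng, pow_mul ng, pow_two, ng_ng, one_pow, one_mul] at h3
  have h4 : ng ∈ Γ := by rw [eq_inv_of_mul_eq_one_right h3]; exact inv_mem (pow_mem hγ _)
  obtain ⟨u, hu, k⟩ := h.cenA1 (mul_mem hγ h4) h1 h2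
  exact ⟨u, hu, Or.inr ⟨h4, by rw [← k, mul_assoc, ng_ng, mul_one]⟩⟩

/-- If `γ` fixes `Zv` and normalizes `⟨ρ zz⟩`: `γ ρ x1 γ⁻¹ = ρ (a, 0, c)` with `a ≠ 0`, and for a sign `e` the element
`γ ρ x2 γ⁻¹ (ρ x2^e)⁻¹` centralizes `ρ x1, ρ zz` and fixes `ep`; `cenA1`; `Hs` is generated by `x1, x2`. -/
theorem GH.nmA (h : GH Γ) {γ : GV} (hγ : γ ∈ Γ) (hz : γ ep ∈ Zv) {c : K} (hc : γ * ρ zz * γ⁻¹ = ρ ⟨0, 0, c⟩) : Nm ⊤ γ := by
  obtain ⟨p, q, r, s, a⟩ := AcA.of_nm (h.star hγ hz)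
  obtain rfl : q = 0 := by simpa using congrArg Hs.a (ρ_inj ((a 0 1).symm.trans hc))
  obtain ⟨u, -, e⟩ := h.cenA1 (mul_mem (mul_mem (mul_mem hγ (h.ρ_mem x2)) (inv_mem hγ)) (h.ρ_mem ⟨0, -(s * p), 0⟩))
    ((((a.mul (AcA.hs x2)).mul a.inv).mul (AcA.hs _)).cg (by
      have := a.det
      revert this
      generalize p = p, r = r, s = s
      revert p r s
      decide)).cen (mul_mem (cj_FeA hz (ρ_FeA _)) (ρ_FeA _))
  rw [← eq_mul_inv_iff_mul_eq, ← map_inv, ← map_mul] at e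
  intro v _
  rw [(by decide : ∀ v : Hs, v = ⟨v.a, 0, v.c - v.a * v.b⟩ * x2 ^ v.b.val) v, map_mul, map_pow, ← conj_mul,
    ← conj_pow, a, e, ← map_pow, ← map_mul]
  exact ⟨_, trivial, rfl⟩

/-- If `δ` is trivial on the chain and commutes with `t2`, then `δ` fixes `ep, eq', er` and moves `es, et, ew` by multiples `l1, l2, l3` of `ep`;
the braid relation evaluated on the basis forces `(l1, l2, l3) = (k, -k, 0)` (checked by computer), i.e. `y = ηV k y2 (ηV k)⁻¹`. -/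
theorem braidA {y : GV} (h1 : ChV (y2⁻¹ * y) ⊥ [Zv, Vp]) (h2 : y * t2 = t2 * y)
    (h3 : ρ x2 * y⁻¹ * ρ x2 = y⁻¹ * ρ x2 * y⁻¹) : ∃ k, y = ηV k * y2 * (ηV k)⁻¹ := by
  obtain ⟨δ, rfl⟩ : ∃ δ, y = y2 * δ := ⟨y2⁻¹ * y, (mul_inv_cancel_left _ _).symm⟩
  rw [inv_mul_cancel_left] at h1
  obtain ⟨-, a1, -, a2, a3⟩ := h1
  have c0 : y2 * t2 = t2 * y2 := LinearEquiv.ext fun v => by ext <;> simp [y2, t2, tv]; ring
  rw [← mul_assoc t2, ← c0, mul_assoc, mul_assoc, mul_right_inj] at h2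
  have c : ∀ v, δ (t2 v) = t2 (δ v) := DFunLike.congr_fun h2
  have n : ∀ x : K, -x = x → x = 0 := by decide
  have b1 : δ ep = ep := sub_eq_zero.1 (a1 ep (by simp [ep]))
  have b2 : ∀ v ∈ Vp, t2 v = -v → δ v = v := fun v hv e => by
    have k := a2 v hv
    have k1 := congrArg V.p (c v)
    have k2 := congrArg V.p e
    rw [e, map_neg] at k1
    simp only [mem_Zv, V.sub_q, V.sub_r, V.sub_s, V.sub_t, V.sub_w, sub_eq_zero] at k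
    simp [t2, tv] at k1 k2
    exact V.ext ((n _ k1).trans (n _ k2.symm).symm) k.1 k.2.1 k.2.2.1 k.2.2.2.1 k.2.2.2.2
  have b3 : ∀ v, t2 v = v → δ v = { v with p := (δ v).p } := fun v e => by
    have k := a3 v
    have k1 := c v
    have k2 := congrArg V.q e
    have k3 := congrArg V.r e
    rw [e] at k1
    have k4 := congrArg V.q k1
    have k5 := congrArg V.r k1
    simp only [mem_Vp, V.sub_s, V.sub_t, V.sub_w, sub_eq_zero] at k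
    simp [t2, tv] at k2 k3 k4 k5
    exact V.ext rfl ((n _ k4.symm).trans (n _ k2).symm) ((n _ k5.symm).trans (n _ k3).symm) k.1 k.2.1 k.2.2
  have e1 := b3 es (by decide)
  have e2 := b3 et (by decide)
  have e3 := b3 ew (by decide)
  generalize (δ es).p = l1 at e1
  generalize (δ et).p = l2 at e2
  generalize (δ ew).p = l3 at e3
  have d : ∀ v, δ v = { v with p := v.p + l1 * v.s + l2 * v.t + l3 * v.w } := fun v => by
    conv_lhs => rw [v.decomp]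
    simp only [map_add, map_smul, b1, b2 eq' (by simp [eq']) (by decide), b2 er (by simp [er]) (by decide), e1, e2, e3]
    ext <;> simp [ep, eq', er, es, et, ew]
    ring
  have h4 : ρ x2⁻¹ * (y2 * δ) * ρ x2⁻¹ = y2 * δ * ρ x2⁻¹ * (y2 * δ) := by
    rw [map_inv, ← inv_inj]
    simp only [mul_inv_rev, inv_inv, mul_assoc] at h3 ⊢
    exact h3
  have k1 := congrArg V.p (DFunLike.congr_fun h4 es)
  have k2 := congrArg V.p (DFunLike.congr_fun h4 et)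
  have k3 := congrArg V.p (DFunLike.congr_fun h4 ew)
  simp only [GV.mul_apply, ρ_apply, d, y2, mkA_apply, act, es, et, ew, x2, Hs.inv_a, Hs.inv_b, Hs.inv_c] at k1 k2 k3
  obtain ⟨rfl, rfl⟩ : l2 = 2 * l1 ∧ l3 = 0 := by
    revert k1 k2 k3
    generalize l1 = l1, l2 = l2, l3 = l3
    revert l1 l2 l3
    decide
  refine ⟨l1, LinearEquiv.ext fun v => ?_⟩
  ext <;> simp [d, y2, ηV]
  ring

/-- By `star`, `nmA`: `γ ρ zz γ⁻¹ = ρ (a, 0, c)`, `a ≠ 0`; `g = ρ x2^i γ` has `g ρ zz g⁻¹ = ρ (a, 0, 0)`; for a sign `e`, `y' = g ρ x2^e g⁻¹`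
fixes `ep` and conjugates `ρ x1, ρ zz` like `y2`.  `σ = (y' ρ x2⁻¹ y')²` inverts `ρ x1, ρ zz` and fixes `ep`, so (`nmA`, `bor'`)
`σ = ρ u tV (-1) 1 1`: `t2 ∈ Γ`.  `y' t2 y'⁻¹ t2⁻¹ = ρ a` (`cenA1`), and `y = ρ a y'` commutes with `t2` (`t2` inverts `a`, `a³ = 1`).
`(ρ x2 y⁻¹ ρ x2) (y⁻¹ ρ x2 y⁻¹)⁻¹` centralizes `ρ Apt` (the relation holds for `y2`), fixes `ep`, commutes with `t2`, so it is `1`.
`cenA_lin` for `y2⁻¹ y`, `braidA`. -/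
theorem GH.actA (h : GH Γ) {γ : GV} (hγ : γ ∈ Γ) (hz : γ ep ∈ Zv) (hn : ¬ Nm ⊤ γ) :
    t2 ∈ Γ ∧ ∃ k, ηV k * y2 * (ηV k)⁻¹ ∈ Γ := by
  obtain ⟨p, q, r, s, a⟩ := AcA.of_nm (h.star hγ hz)
  have q0 : q ≠ 0 := fun e => hn (h.nmA hγ hz (c := s) ((a 0 1).trans (by simp [e])))
  have a1 := (AcA.hs ⟨0, s * q, 0⟩).mul a
  obtain ⟨y', y1, y3, y4⟩ : ∃ y' ∈ Γ, y' ∈ FeA ∧ AcA y' 1 (-1) 0 1 :=
    ⟨_, mul_mem (mul_mem (mul_mem (h.ρ_mem _) hγ) (h.ρ_mem ⟨0, q * (r - s * q * p), 0⟩))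
      (inv_mem (mul_mem (h.ρ_mem _) hγ)), cj_FeA (mul_Zv (ρ_FeA _) hz) (ρ_FeA _),
      ((a1.mul (AcA.hs _)).mul a1.inv).cg (by
        have := a.det
        revert this q0
        generalize p = p, q = q, r = r, s = s
        revert p q r s
        decide)⟩
  have b1 := (y4.mul (AcA.hs x2⁻¹)).mul y4
  have b2 := mul_mem (mul_mem y1 (h.ρ_mem x2⁻¹)) y1
  have b3 := mul_mem (mul_mem y3 (ρ_FeA x2⁻¹)) y3
  have b4 := (b1.mul b1).cg (p' := -1) (q' := 0) (r' := 0) (s' := -1) (by decide)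
  obtain ⟨u, e1, e2, e3, e⟩ := h.bor' (mul_mem b2 b2) (h.nmA (mul_mem b2 b2)
    (by rw [mem_FeA.1 (mul_mem b3 b3)]; simp [ep]) (c := -1) ((b4 0 1).trans (by simp)))
  have h2 : t2 ∈ Γ := by
    have k1 := (e ▸ b4).uq ((AcA.hs u).mul (AcA.tt e1 e2 e3))
    have k2 := congrArg V.p (mem_FeA.1 ((FeA.mul_mem_cancel_left (ρ_FeA u)).1 (e ▸ mul_mem b3 b3)))
    have k3 := (Γ.mul_mem_cancel_left (h.ρ_mem u)).1 (e ▸ mul_mem b2 b2)
    simp only [one_mul, zero_mul, mul_zero, add_zero, zero_add] at k1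
    have k4 : e1 = -1 ∧ e2 = 1 ∧ e3 = 1 := by
      have k5 := k1.1
      have k6 := k1.2.2.2
      revert k2 k5 k6
      generalize e1 = e1, e2 = e2, e3 = e3
      revert e1 e2 e3
      decide
    rwa [k4.1, k4.2.1, k4.2.2] at k3
  have c1 : AcA t2 (-1) 0 0 (-1) := (AcA.tt (-1) 1 1).cg (by decide)
  have c2 : ∀ a ∈ Apt, t2 * ρ a = ρ a⁻¹ * t2 := fun ⟨a, b, c⟩ e => by
    obtain rfl : b = 0 := e
    rw [← mul_inv_eq_iff_eq_mul, c1]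
    congr 1
    ext <;> simp
  obtain ⟨v, hv, k⟩ := h.cenA1 (mul_mem (mul_mem (mul_mem y1 h2) (inv_mem y1)) (inv_mem h2))
    ((((y4.mul c1).mul y4.inv).mul c1.inv).cg (by decide)).cen
    (mul_mem (mul_mem (mul_mem y3 t2_FeA) (inv_mem y3)) (inv_mem t2_FeA))
  obtain ⟨y, y1, y3, y4, y5⟩ : ∃ y ∈ Γ, y ∈ FeA ∧ AcA y 1 (-1) 0 1 ∧ y * t2 = t2 * y :=
    ⟨ρ v * y', mul_mem (h.ρ_mem v) y1, mul_mem (ρ_FeA v) y3, ((AcA.hs v).mul y4).cg (by simp [mem_Apt.1 hv]), by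
      rw [← mul_assoc t2, c2 v hv, show v⁻¹ = v * v from inv_eq_of_mul_eq_one_right (pow_three v ▸ v.cube), map_mul,
        mul_assoc (ρ v) (ρ v), ← k]
      group⟩
  have x := AcA.hs x2
  obtain ⟨w, hw, k⟩ := h.cenA1 (γ := ρ x2 * y⁻¹ * ρ x2 * (y⁻¹ * ρ x2 * y⁻¹)⁻¹)
    (mul_mem (mul_mem (mul_mem (h.ρ_mem _) (inv_mem y1)) (h.ρ_mem _))
      (inv_mem (mul_mem (mul_mem (inv_mem y1) (h.ρ_mem _)) (inv_mem y1))))
    ((((x.mul y4.inv).mul x).mul ((y4.inv.mul x).mul y4.inv).inv).cg (by decide)).cen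
    (mul_mem (mul_mem (mul_mem (ρ_FeA _) (inv_mem y3)) (ρ_FeA _))
      (inv_mem (mul_mem (mul_mem (inv_mem y3) (ρ_FeA _)) (inv_mem y3))))
  have d1 : Commute t2 (ρ x2) := mul_inv_eq_iff_eq_mul.1 ((tV_conj _ _ _ _).trans (congrArg ρ (by decide)))
  have d2 : Commute t2 y⁻¹ := (Commute.symm y5).inv_right
  have d3 := ((d1.mul_right d2).mul_right d1).mul_right ((d2.mul_right d1).mul_right d2).inv_right
  rw [k, Commute, SemiconjBy, c2 w hw, mul_left_inj] at d3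
  rw [(by decide : ∀ w : Hs, w⁻¹ = w → w = 1) w (ρ_inj d3), map_one, mul_inv_eq_one] at k
  obtain ⟨l, rfl⟩ := braidA (cenA_lin ((AcA.yy.inv.mul y4).cg (by decide)).cen (mul_mem (inv_mem y2_FeA) y3)) y5 k
  exact ⟨h2, l, y1⟩

theorem ρ_mem_PZ (u : Hs) : ρ u ∈ PZ := by
  have h1 : ρ x1 ∈ PZ := subset_closure (by simp)
  have h2 : ρ x2 ∈ PZ := subset_closure (by simp)
  rw [(by decide : ∀ u : Hs, u = x1 ^ u.a.val * x2 ^ u.b.val * (x1 * x2 * x1⁻¹ * x2⁻¹) ^ (u.c - u.a * u.b).val) u]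
  simp only [map_mul, map_pow, map_inv]
  exact mul_mem (mul_mem (pow_mem h1 _) (pow_mem h2 _))
    (pow_mem (mul_mem (mul_mem (mul_mem h1 h2) (inv_mem h1)) (inv_mem h2)) _)

/-- If `γ ρ zz γ⁻¹ = ρ (a, 0, c)` with `a ≠ 0`, replace `γ` by `w⁻¹ γ`, `w = ρ x2^i y2 ∈ PZ`; then `nmA`, `bor'`, and
`tV e1 e2 e3 = tV e1 e2 1 * tV 1 1 e3` with `tV e1 e2 1 ∈ ⟨t2, t3⟩`. -/
theorem GH.stabZ (h : GH Γ) (h1 : y2 ∈ Γ) (h2 : t2 ∈ Γ) {γ : GV} (hγ : γ ∈ Γ) (hz : γ ep ∈ Zv) :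
    γ ∈ PZ ∨ (ng ∈ Γ ∧ γ * ng ∈ PZ) := by
  have le : PZ ≤ Γ := (closure_le _).2 (by
    rintro _ (rfl | rfl | rfl | rfl | rfl)
    exacts [h.ρ_mem _, h.ρ_mem _, h1, h2, h.t3])
  have tP : ∀ e1 e2, tV e1 e2 1 ∈ PZ := fun e1 e2 => by
    have k2 : t2 ∈ PZ := subset_closure (by simp)
    have k3 : C3F.t3 ∈ PZ := subset_closure (by simp)
    rcases units_K e1 with rfl | rfl <;> rcases units_K e2 with rfl | rfl
    · exact tV_one ▸ one_mem _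
    · exact k3
    · exact k2
    · simpa [t2, C3F.t3, tV_mul] using mul_mem k2 k3
  obtain ⟨p, q, r, s, a⟩ := AcA.of_nm (h.star hγ hz)
  obtain ⟨w, w1, w2, c, w3⟩ : ∃ w ∈ PZ, w ∈ FeA ∧ ∃ c, w * γ * ρ zz * (w * γ)⁻¹ = ρ ⟨0, 0, c⟩ := by
    by_cases q0 : q = 0
    · exact ⟨1, one_mem _, one_mem _, s, by rw [one_mul]; exact (a 0 1).trans (by simp [q0])⟩
    refine ⟨y2 * ρ ⟨0, s * q - 1, 0⟩, mul_mem (subset_closure (by simp)) (ρ_mem_PZ _), mul_mem y2_FeA (ρ_FeA _), _,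
      ((AcA.yy.mul (AcA.hs _)).mul a 0 1).trans (congrArg ρ (Hs.ext ?_ rfl rfl))⟩
    have := (by decide : ∀ d : K, d ≠ 0 → d * d = 1) q q0
    change _ = (0 : K)
    linear_combination s * this
  obtain ⟨u, e1, e2, e3, e⟩ := h.bor' (mul_mem (le w1) hγ) (h.nmA (mul_mem (le w1) hγ) (mul_Zv w2 hz) w3)
  have k := mul_mem (ρ_mem_PZ u) (tP e1 e2)
  rcases units_K e3 with rfl | rfl
  · exact Or.inl ((PZ.mul_mem_cancel_left w1).1 (e ▸ k))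
  · rw [show tV e1 e2 (-1) = tV e1 e2 1 * ng by simp [ng, tV_mul], ← mul_assoc] at e
    exact Or.inr ⟨(Γ.mul_mem_cancel_left (le k)).1 (e ▸ mul_mem (le w1) hγ), (PZ.mul_mem_cancel_left w1).1 (by
      rwa [← mul_assoc, e, mul_assoc, ng_ng, mul_one])⟩

end Cfsg.Agent.C3F
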