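import Cfsg.Agent.C3F.Star

/-! The normalizer of `ρ Aln` in `Γ` (for S5227; same pattern as `LocA`).  Conjugation on `Aln ∋ (0, b, c)`:
`ρ x1 : (b, c) ↦ (b, c + b)`, `y1 : (b, c) ↦ (b + c, c)`, `t3 : (b, c) ↦ (-b, -c)`. -/

set_option autoImplicit false
set_option linter.unusedSimpArgs false

namespace Cfsg.Agent.C3F

open Subgroup Cfsg.Agent.Fus Cfsg.FusionSystem Cfsg.Agent.SpF

variable {Γ : Subgroup GV}

theorem y1_conj (b c : K) : y1 * ρ ⟨0, b, c⟩ * y1⁻¹ = ρ ⟨0, b + c, c⟩ := by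
  rw [mul_inv_eq_iff_eq_mul]
  exact LinearEquiv.ext fun v => by ext <;> simp [y1, act] <;> ring
theorem c1_conj (k b c : K) : c1 k * ρ ⟨0, b, c⟩ * (c1 k)⁻¹ = ρ ⟨0, b + c, c⟩ := by
  rw [c1, show ∀ x, ηV k * y1 * (ηV k)⁻¹ * x * (ηV k * y1 * (ηV k)⁻¹)⁻¹ =
    ηV k * (y1 * ((ηV k)⁻¹ * (x * ηV k)) * y1⁻¹) * (ηV k)⁻¹ from fun x => by group, ← ηV_comm_ρ,
    inv_mul_cancel_left, y1_conj, ηV_comm_ρ, mul_inv_cancel_right]

theorem LB.nm_inv {R : Subgroup Hs} {γ : GV} (h : Nm R γ) : Nm R γ⁻¹ := fun u hu => by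
  have : γ ∈ normalizer (R.map ρ : Set GV) := mem_normalizer_fintype (by
    rintro _ ⟨u, hu, rfl⟩
    obtain ⟨v, hv, e⟩ := h u hu
    exact ⟨v, hv, e.symm⟩)
  obtain ⟨v, hv, e⟩ := (mem_normalizer_iff.1 (inv_mem this) _).1 (mem_map_of_mem ρ hu)
  exact ⟨v, hv, e.symm⟩

theorem LB.n_J5 {u : Hs} (hu : u ∈ Aln) {v : V} (hv : v ∈ J5) : act u v - v ∈ V3 := by
  simp [act, mem_Aln.1 hu, mem_J5.1 hv]

/-- A normalizer of `ρ Aln` preserves `V3` (`fix_Aln`) and `J5 = {v | ∀ u ∈ Aln, act u v - v ∈ V3}`. -/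
theorem Nm.V3 {γ : GV} (h : Nm Aln γ) : (∀ v ∈ V3, γ v ∈ V3) ∧ ∀ v ∈ J5, γ v ∈ J5 := by
  have k : ∀ u ∈ Aln, ∃ u' ∈ Aln, ∀ v, act u (γ v) - γ v = γ (act u' v - v) := fun u hu => by
    obtain ⟨u', h1, h2⟩ := LB.nm_inv h u hu
    refine ⟨u', h1, fun v => ?_⟩
    rw [map_sub, ← ρ_apply u', ← h2]
    simp
  have a : ∀ v ∈ C3F.V3, γ v ∈ C3F.V3 := fun v hv => fix_Aln.1 fun u hu => by
    obtain ⟨u', h1, h2⟩ := k u hu
    rw [← sub_eq_zero, h2, fix_Aln.2 hv u' h1, sub_self, map_zero]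
  refine ⟨a, fun v hv => ?_⟩
  obtain ⟨u', h1, h2⟩ := k zz rfl
  have := a _ (LB.n_J5 h1 hv)
  rw [← h2] at this
  simpa [act, zz] using (mem_V3.1 this).1

theorem Nm.inv {R : Subgroup Hs} {γ : GV} (h : Nm R γ) : Nm R γ⁻¹ := LB.nm_inv h
theorem Nm.mul {R : Subgroup Hs} {γ δ : GV} (h : Nm R γ) (h' : Nm R δ) : Nm R (γ * δ) := fun u hu => by
  obtain ⟨v, hv, e⟩ := h' u hu
  obtain ⟨w, hw, e'⟩ := h v hv
  exact ⟨w, hw, by rw [← e', ← e]; group⟩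

/-- `d = δ ew - ew ∈ J5`, `n_u = act u - 1`.  `V3` is spanned by the `n_u n_u' ew` (`u, u' ∈ {x2, zz}`), which `δ` fixes since `n_u n_u' d = 0`;
`δ (n_u ew) - n_u ew = n_u d ∈ V3` and `J5 = V3 + ⟨n_zz ew, n_x2 ew⟩`. -/
theorem cenB_lin {δ : GV} (hc : ∀ u ∈ Aln, δ * ρ u = ρ u * δ) (h1 : (δ ew).w = 1) : ChV δ ⊥ [V3, J5] := by
  have k : ∀ u ∈ Aln, ∀ v, δ (act u v - v) - (act u v - v) = act u (δ v - v) - (δ v - v) := fun u hu v => by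
    rw [map_sub, act_sub, show δ (act u v) = act u (δ v) from DFunLike.congr_fun (hc u hu) v]
    abel
  have d0 : δ ew - ew ∈ J5 := by rw [mem_J5, V.sub_w, h1]; exact sub_self _
  have n1 : ∀ u ∈ Aln, δ (act u ew - ew) - (act u ew - ew) ∈ V3 := fun u hu => k u hu ew ▸ LB.n_J5 hu d0
  have n2 : ∀ u ∈ Aln, ∀ u' ∈ Aln, ∀ v, act u (act u' ew - ew) - (act u' ew - ew) = v → δ v = v := by
    rintro u hu u' hu' _ rfl
    rw [← sub_eq_zero, k u hu, fix_Aln.2 (n1 u' hu') u hu, sub_self]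
  have a1 := n2 zz⁻¹ rfl zz rfl ep (by decide)
  have a2 := n2 x2 rfl zz rfl eq' (by decide)
  have a3 := n2 x2⁻¹ rfl x2 rfl es (by decide)
  have a4 := n1 zz rfl
  have a5 := n1 x2 rfl
  rw [show act zz ew - ew = ep + er by decide, map_add, a1, add_sub_add_left_eq_sub] at a4
  rw [show act x2 ew - ew = es + et by decide, map_add, a3, add_sub_add_left_eq_sub] at a5
  have e : ∀ v, δ v - v = v.r • (δ er - er) + v.t • (δ et - et) + v.w • (δ ew - ew) := fun v => by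
    conv_lhs => rw [v.decomp]
    simp only [map_add, map_smul, a1, a2, a3, smul_sub]
    abel
  have l : V3 ≤ J5 := fun v hv => mem_J5.2 (mem_V3.1 hv).2.2
  refine ⟨bot_le, fun v hv => ?_, l, fun v hv => ?_, fun v => ?_⟩ <;> rw [e]
  · obtain ⟨b1, b2, b3⟩ := mem_V3.1 hv
    simp [b1, b2, b3]
  · rw [mem_J5.1 hv, zero_smul, add_zero]
    exact add_mem (smul_mem3 _ a4) (smul_mem3 _ a5)
  · exact add_mem (add_mem (smul_mem3 _ (l a4)) (smul_mem3 _ (l a5))) (smul_mem3 _ d0)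

theorem GH.cenB1 (h : GH Γ) {γ : GV} (hγ : γ ∈ Γ) (hc : ∀ u ∈ Aln, γ * ρ u = ρ u * γ) (h1 : (γ ew).w = 1) :
    ∃ u ∈ Aln, γ = ρ u := by
  obtain ⟨u, rfl⟩ := chv_mem_U0 h.le h.syl (l := [V3, J5]) (by
    simp only [List.mem_cons, List.not_mem_nil, or_false]
    rintro _ (rfl | rfl) u y hy <;> simp_all [act]) hγ (cenB_lin hc h1)
  have := hc x2 rfl
  rw [← map_mul, ← map_mul] at this
  exact ⟨u, by simpa [x2] using congrArg Hs.c (ρ_inj this), rfl⟩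

theorem GH.cenB (h : GH Γ) {γ : GV} (hγ : γ ∈ Γ) (hc : ∀ u ∈ Aln, γ * ρ u = ρ u * γ) :
    ∃ u ∈ Aln, γ = ρ u ∨ (ng ∈ Γ ∧ γ = ρ u * ng) := by
  have n : Nm Aln γ := fun u hu => ⟨u, hu, by rw [hc u hu, mul_inv_cancel_right]⟩
  have g2 : ng * ng = 1 := LinearEquiv.ext fun v => by simp [ng_apply]
  rcases K3 (γ ew).w with e | e | e
  · have := n.inv.V3.2 _ (mem_J5.2 e)
    simp [ew] at this
  · exact (h.cenB1 hγ hc e).imp fun u hu => ⟨hu.1, .inl hu.2⟩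
  have c : ∀ u ∈ Aln, γ * ng * ρ u = ρ u * (γ * ng) := fun u hu => by
    rw [mul_assoc, ← ng_comm, ← mul_assoc, hc u hu, mul_assoc]
  have w : ((γ * ng) ew).w = 1 := by simp [ng_apply, e]
  obtain ⟨k, hk⟩ := chv_pgroup (cenB_lin c w) (cenB_lin c w) ⟨_, subset_closure (.inl rfl)⟩
  replace hk : (γ * ng) ^ 3 ^ k = 1 := congrArg Subtype.val hk
  obtain ⟨j, hj⟩ : Odd (3 ^ k) := Odd.pow (by decide)
  rw [Commute.mul_pow (ng_comm γ), hj, pow_succ ng, pow_mul, _root_.sq, g2, one_pow, one_mul] at hk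
  have m : ng ∈ Γ := by
    rw [eq_inv_of_mul_eq_one_right hk]
    exact inv_mem (pow_mem hγ _)
  obtain ⟨u, hu, e⟩ := h.cenB1 (mul_mem hγ m) c w
  exact ⟨u, hu, .inr ⟨m, by rw [← e, mul_assoc, g2, mul_one]⟩⟩

namespace LB

/-- the matrix of the action on `Aln` -/
def Ac (γ : GV) (m1 m2 m3 m4 : K) : Prop :=
  ∀ b c, γ * ρ ⟨0, b, c⟩ * γ⁻¹ = ρ ⟨0, m1 * b + m2 * c, m3 * b + m4 * c⟩

/-- `γ` preserves the last coordinate -/
def Wp (γ : GV) : Prop := ∀ v, (γ v).w = v.w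

variable {γ δ : GV} {m1 m2 m3 m4 n1 n2 n3 n4 : K}

theorem Ac.mul (h : Ac γ m1 m2 m3 m4) (h' : Ac δ n1 n2 n3 n4) :
    Ac (γ * δ) (m1 * n1 + m2 * n3) (m1 * n2 + m2 * n4) (m3 * n1 + m4 * n3) (m3 * n2 + m4 * n4) := fun b c => by
  rw [show ∀ x, γ * δ * x * (γ * δ)⁻¹ = γ * (δ * x * δ⁻¹) * γ⁻¹ from fun x => by group, h', h]
  congr 2 <;> ring

theorem Ac.inv (h : Ac γ m1 m2 m3 m4) {d : K} (hd : d * (m1 * m4 - m2 * m3) = 1) :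
    Ac γ⁻¹ (d * m4) (-(d * m2)) (-(d * m3)) (d * m1) := fun b c => by
  have := h (d * m4 * b + -(d * m2) * c) (-(d * m3) * b + d * m1 * c)
  rw [show m1 * _ + m2 * _ = b by linear_combination b * hd,
    show m3 * _ + m4 * _ = c by linear_combination c * hd] at this
  rw [← this]; group

theorem Ac.of_eq (h : Ac γ m1 m2 m3 m4) (e : m1 = n1 ∧ m2 = n2 ∧ m3 = n3 ∧ m4 = n4) : Ac γ n1 n2 n3 n4 := by
  obtain ⟨rfl, rfl, rfl, rfl⟩ := e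
  exact h

theorem Ac.cen (h : Ac γ m1 m2 m3 m4) (e : m1 = 1 ∧ m2 = 0 ∧ m3 = 0 ∧ m4 = 1) :
    ∀ u ∈ Aln, γ * ρ u = ρ u * γ := by
  rintro ⟨a, b, c⟩ (rfl : a = 0)
  simpa [mul_inv_eq_iff_eq_mul] using h.of_eq e b c

theorem ac_ρ (u : Hs) : Ac (ρ u) 1 0 u.a 1 := fun b c => by
  rw [← map_inv, ← map_mul, ← map_mul]
  congr 1
  ext <;> simp
  ring

theorem nm_ρ (u : Hs) : Nm Aln (ρ u) := by
  rintro ⟨a, b, c⟩ (rfl : a = 0)
  exact ⟨_, rfl, ac_ρ u b c⟩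

theorem ac_t3 : Ac t3 (-1) 0 0 (-1) := fun b c => (tV_conj _ _ _ _).trans (by simp)

theorem ac_y1 : Ac y1 1 1 0 1 := fun b c => (y1_conj b c).trans (by simp)

theorem exists_ac (h : Nm Aln γ) : ∃ m1 m2 m3 m4 d, d * (m1 * m4 - m2 * m3) = 1 ∧ Ac γ m1 m2 m3 m4 := by
  obtain ⟨⟨_, m1, m3⟩, (rfl : _ = 0), e1⟩ := h x2 rfl
  obtain ⟨⟨_, m2, m4⟩, (rfl : _ = 0), e2⟩ := h zz rfl
  have a : Ac γ m1 m2 m3 m4 := fun b c => by
    rw [(by decide +kernel : ∀ b c : K, (⟨0, b, c⟩ : Hs) = x2 ^ b.val * zz ^ c.val) b c, map_mul, map_pow, map_pow,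
      ← conj_mul, ← conj_pow, ← conj_pow, e1, e2, ← map_pow, ← map_pow, ← map_mul]
    exact congrArg ρ ((by decide +kernel : ∀ m1 m2 m3 m4 b c : K, (⟨0, m1, m3⟩ : Hs) ^ b.val * ⟨0, m2, m4⟩ ^ c.val =
      ⟨0, m1 * b + m2 * c, m3 * b + m4 * c⟩) _ _ _ _ _ _)
  refine ⟨m1, m2, m3, m4, _, (by decide +kernel : ∀ m1 m2 m3 m4 : K, (∀ b c : K,
    (⟨0, m1 * b + m2 * c, m3 * b + m4 * c⟩ : Hs) = 1 → (⟨0, b, c⟩ : Hs) = 1) →
      (m1 * m4 - m2 * m3) * (m1 * m4 - m2 * m3) = 1) _ _ _ _ fun b c e => ρ_inj ?_, a⟩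
  have := a b c
  rwa [e, map_one, conj_eq_one_iff, ← map_one ρ] at this

theorem Wp.mul (h : Wp γ) (h' : Wp δ) : Wp (γ * δ) := fun v => (h _).trans (h' v)

theorem Wp.inv (h : Wp γ) : Wp γ⁻¹ := fun v => by rw [← h, GV.apply_inv_self]

theorem Wp.conj (h : Wp γ) (h' : Nm Aln δ) : Wp (δ * γ * δ⁻¹) := fun v => by
  have := h'.V3.2 (γ (δ⁻¹ v) - δ⁻¹ v) (by simp [h _])
  simpa [sub_eq_zero] using this

theorem wp_ρ (u : Hs) : Wp (ρ u) := fun _ => rfl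
theorem wp_t3 : Wp t3 := fun _ => one_mul _
theorem wp_y1 : Wp y1 := fun _ => rfl

theorem cen (h : GH Γ) (hγ : γ ∈ Γ) (a : Ac γ m1 m2 m3 m4) (e : m1 = 1 ∧ m2 = 0 ∧ m3 = 0 ∧ m4 = 1) (w : Wp γ) :
    ∃ u ∈ Aln, γ = ρ u := h.cenB1 hγ (a.cen e) (w ew)

end LB

theorem GH.nmB (h : GH Γ) {γ : GV} (hγ : γ ∈ Γ) (hz : Nm Aln γ) {c : K} (hc : γ * ρ zz * γ⁻¹ = ρ ⟨0, 0, c⟩) : Nm ⊤ γ := by
  obtain ⟨m1, m2, m3, m4, d, hd, a⟩ := LB.exists_ac hz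
  obtain rfl : m2 = 0 := by simpa using congrArg Hs.b (ρ_inj ((a 0 1).symm.trans hc))
  obtain ⟨u, -, e⟩ := LB.cen h (mul_mem (h.ρ_mem ⟨-(d * m4 * m4), 0, 0⟩) (mul_mem (mul_mem hγ (h.ρ_mem x1))
    (inv_mem hγ))) ((LB.ac_ρ _).mul ((a.mul (LB.ac_ρ _)).mul (a.inv hd))) (by
      clear a; revert m1 m3 m4 d; decide +kernel) ((LB.wp_ρ _).mul ((LB.wp_ρ _).conj hz))
  rw [← eq_inv_mul_iff_mul_eq, ← map_inv, ← map_mul] at e
  intro v _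
  rw [(by decide +kernel : ∀ v : Hs, v = ⟨0, v.b, v.c⟩ * x1 ^ v.a.val) v, map_mul, map_pow, ← conj_mul, a,
    ← conj_pow, e, ← map_pow, ← map_mul]
  exact ⟨_, trivial, rfl⟩

/-- `y1⁻¹ y` fixes `V3`, `er`, `et` (eigenvalue `-1` of `t3`) and moves `ew` by a vector `(l1, l2, 0, l3, 0, 0)` of `V3`; the braid relation forces
`(l1, l2, l3) = (0, -k, k)` (checked by computer). -/
theorem braidB {y : GV} (h1 : ChV (y1⁻¹ * y) ⊥ [V3, J5]) (h2 : y * t3 = t3 * y)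
    (h3 : ρ x1 * y⁻¹ * ρ x1 = y⁻¹ * ρ x1 * y⁻¹) : ∃ k, y = c1 k := by
  obtain ⟨-, a, -, b, c⟩ := h1
  have t : y1⁻¹ * y * t3 = t3 * (y1⁻¹ * y) := by
    rw [mul_assoc, h2, ← mul_assoc, ← mul_assoc]
    congr 1
    exact LinearEquiv.ext fun v => by ext <;> simp [y1, t3, tv] <;> ring
  have hy : y = y1 * (y1⁻¹ * y) := by group
  generalize y1⁻¹ * y = δ at a b c t hy
  have a' : ∀ v ∈ V3, δ v = v := fun v hv => sub_eq_zero.1 (AddSubgroup.mem_bot.1 (a v hv))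
  have z : ∀ x : K, x = -x → x = 0 := by decide
  have b' : ∀ v ∈ J5, t3 v = -v → δ v = v := fun v hv e => by
    have e1 : δ (t3 v) = t3 (δ v) := DFunLike.congr_fun t v
    have e2 : t3 (δ v - v) = -(δ v - v) := by rw [map_sub, ← e1, e, map_neg]; abel
    have e3 := mem_V3.1 (b v hv)
    rw [← sub_eq_zero]
    generalize δ v - v = x at e2 e3
    exact V.ext (z _ (by simpa [t3, tv] using congrArg V.p e2)) (z _ (by simpa [t3, tv] using congrArg V.q e2)) e3.1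
      (z _ (by simpa [t3, tv] using congrArg V.s e2)) e3.2.1 e3.2.2
  have e1 : δ ew = t3 (δ ew) := (congrArg δ (by decide : ew = t3 ew)).trans (DFunLike.congr_fun t ew)
  obtain ⟨l1, l2, l3, e2⟩ : ∃ l1 l2 l3, δ ew = ⟨l1, l2, 0, l3, 0, 1⟩ := ⟨_, _, _, V.ext rfl rfl
    (z _ (by simpa [t3, tv] using congrArg V.r e1)) rfl (z _ (by simpa [t3, tv] using congrArg V.t e1))
    (by simpa [ew, sub_eq_zero] using c ew)⟩
  have f : ∀ v, y v = y1 (v + v.w • ⟨l1, l2, 0, l3, 0, 0⟩) := fun v => by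
    rw [hy, GV.mul_apply]
    congr 1
    conv_lhs => rw [v.decomp]
    simp only [map_add, map_smul, a' ep (by simp [ep]), a' eq' (by simp [eq']), a' es (by simp [es]),
      b' er (by simp [er]) (by decide), b' et (by simp [et]) (by decide), e2]
    ext <;> simp [ep, eq', er, es, et]
  have g : ρ x1⁻¹ * y * ρ x1⁻¹ = y * ρ x1⁻¹ * y := by
    simpa only [mul_inv_rev, inv_inv, map_inv, mul_assoc] using congrArg (·⁻¹) h3
  have g1 : act x1⁻¹ (y (act x1⁻¹ ew)) = y (act x1⁻¹ (y ew)) := DFunLike.congr_fun g ew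
  simp only [f] at g1
  obtain ⟨rfl, rfl⟩ : l1 = 0 ∧ l2 = -l3 := by
    clear e2 f; revert l1 l2 l3; decide +kernel
  exact ⟨l3, LinearEquiv.ext fun v => by rw [f]; ext <;> simp [c1, ηV, y1] <;> ring⟩

/-- As `GH.actA`: `g = ρ x1^i γ` with `g ρ zz g⁻¹ = ρ (0, b, 0)`, `y' = g ρ x1^e g⁻¹` conjugates `ρ x2, ρ zz` like `y1` and preserves the
`w`-coordinate (`g` preserves `J5`); make it commute with `t3 ∈ Γ`; braid relation; `braidB`. -/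
theorem GH.actB (h : GH Γ) {γ : GV} (hγ : γ ∈ Γ) (hz : Nm Aln γ) (hn : ¬ Nm ⊤ γ) : ∃ k, c1 k ∈ Γ := by
  obtain ⟨m1, m2, m3, m4, d, hd, a⟩ := LB.exists_ac hz
  have n : m2 ≠ 0 := fun e => hn (h.nmB hγ hz (c := m4) (by simpa [e, zz] using a 0 1))
  have g1 := mul_mem (h.ρ_mem ⟨-(m4 * m2), 0, 0⟩) hγ
  have g2 := (LB.nm_ρ ⟨-(m4 * m2), 0, 0⟩).mul hz
  have g3 := (LB.ac_ρ ⟨-(m4 * m2), 0, 0⟩).mul a
  generalize ρ ⟨-(m4 * m2), 0, 0⟩ * γ = g at g1 g2 g3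
  have y1' := mul_mem (mul_mem g1 (h.ρ_mem ⟨-d, 0, 0⟩)) (inv_mem g1)
  have y2' := (LB.wp_ρ ⟨-d, 0, 0⟩).conj g2
  have y3' : LB.Ac _ 1 1 0 1 := ((g3.mul (LB.ac_ρ ⟨-d, 0, 0⟩)).mul (g3.inv (d := d) (by
    clear a g3 y1' y2'; revert m1 m2 m3 m4 d; decide +kernel))).of_eq (by
      clear a g3 y1' y2'; revert m1 m2 m3 m4 d; decide +kernel)
  generalize g * ρ ⟨-d, 0, 0⟩ * g⁻¹ = y at y1' y2' y3'
  have ti : ∀ u ∈ Aln, C3F.t3 * ρ u = ρ u⁻¹ * C3F.t3 := fun u hu => by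
    rw [← mul_inv_eq_iff_eq_mul, C3F.t3, tV_conj]
    congr 1
    ext <;> simp [mem_Aln.1 hu]
  obtain ⟨u, hu, e⟩ := LB.cen h (mul_mem (mul_mem (mul_mem y1' h.t3) (inv_mem y1')) (inv_mem h.t3))
    (((y3'.mul LB.ac_t3).mul (y3'.inv (d := 1) (by decide))).mul (LB.ac_t3.inv (d := 1) (by decide))) (by decide)
    (((y2'.mul LB.wp_t3).mul y2'.inv).mul LB.wp_t3.inv)
  have z1 := mul_mem (h.ρ_mem u) y1'
  have z2 := (LB.wp_ρ u).mul y2'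
  have z3 : LB.Ac _ 1 1 0 1 := ((LB.ac_ρ u).mul y3').of_eq (by simp [mem_Aln.1 hu])
  have z4 : Commute (ρ u * y) C3F.t3 :=
    calc _ = ρ u * (y * C3F.t3 * y⁻¹ * C3F.t3⁻¹) * C3F.t3 * y := by group
      _ = ρ u⁻¹ * C3F.t3 * y := by
        rw [e, ← map_mul, eq_inv_of_mul_eq_one_left (show u * u * u = 1 by rw [← u.cube, pow_three'])]
      _ = _ := by rw [← ti u hu, mul_assoc]
  generalize ρ u * y = y at z1 z2 z3 z4
  have x4 : Commute (ρ x1) C3F.t3 :=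
    (mul_inv_eq_iff_eq_mul.1 ((tV_conj _ _ _ _).trans (congrArg ρ (by decide)))).symm
  have i3 := z3.inv (d := 1) (by decide)
  obtain ⟨v, hv, e'⟩ := LB.cen h (mul_mem (mul_mem (mul_mem (h.ρ_mem x1) (inv_mem z1)) (h.ρ_mem x1))
    (inv_mem (mul_mem (mul_mem (inv_mem z1) (h.ρ_mem x1)) (inv_mem z1))))
    ((((LB.ac_ρ x1).mul i3).mul (LB.ac_ρ x1)).mul (((i3.mul (LB.ac_ρ x1)).mul i3).inv (d := 1) (by decide)))
    (by decide) ((((LB.wp_ρ x1).mul z2.inv).mul (LB.wp_ρ x1)).mul ((z2.inv.mul (LB.wp_ρ x1)).mul z2.inv).inv)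
  have c := ((x4.mul_left z4.inv_left).mul_left x4).mul_left
    ((z4.inv_left.mul_left x4).mul_left z4.inv_left).inv_left
  rw [e'] at c
  obtain rfl := (by decide +kernel : ∀ v : Hs, v = v⁻¹ → v = 1) v
    (ρ_inj (mul_right_cancel (c.eq.trans (ti v hv))))
  obtain ⟨k, rfl⟩ := braidB (cenB_lin (((LB.ac_y1.inv (d := 1) (by decide)).mul z3).cen (by decide))
    ((LB.wp_y1.inv.mul z2) ew)) z4 (mul_inv_eq_one.1 (e'.trans (map_one ρ)))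
  exact ⟨k, z1⟩

end Cfsg.Agent.C3F
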