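import Cfsg.Agent.C3F.Tool

/-! The stabilizer of `Zv` in `Γ` normalizes `ρ Apt` (for S5227).  `n_u v = act u v - v`. -/

set_option autoImplicit false
set_option linter.unusedSimpArgs false

namespace Cfsg.Agent.C3F

open Subgroup Cfsg.Agent.Fus Cfsg.FusionSystem Cfsg.Agent.SpF

variable {Γ : Subgroup GV}

theorem GH.bor' (h : GH Γ) {γ : GV} (hγ : γ ∈ Γ) (hn : Nm ⊤ γ) : ∃ (u : Hs) (e1 e2 e3 : Kˣ), γ = ρ u * tV e1 e2 e3 :=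
  h.bor γ hγ (by
    rintro _ ⟨u, rfl⟩
    obtain ⟨u', -, e⟩ := hn u trivial
    exact ⟨u', e.symm⟩)

namespace Sr

theorem epZ : ep ∈ Zv := by simp [ep]

theorem zv_map {γ : GV} (h : γ ep ∈ Zv) {v : V} (hv : v ∈ Zv) : γ v ∈ Zv := by
  have : v = v.p • ep := by
    rw [mem_Zv] at hv
    ext <;> simp [ep, hv]
  rw [this, map_smul]
  exact smul_mem3 _ h

theorem zv_inv {γ : GV} (h : γ ep ∈ Zv) : γ⁻¹ ep ∈ Zv := by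
  obtain ⟨N, hN⟩ := tool_sub (fun γ : GV => γ ep ∈ Zv) epZ fun a b ha hb => zv_map ha hb
  exact (hN _).1 (inv_mem ((hN _).2 h))

theorem act_Zv (u : Hs) {v : V} (hv : v ∈ Zv) : act u v = v := by
  rw [mem_Zv] at hv
  ext <;> simp [act, hv]

theorem act_Vp (u : Hs) {v : V} (hv : v ∈ Vp) : act u v ∈ Vp := by
  rw [mem_Vp] at hv ⊢
  simp [act, hv]

theorem n_Vp {u : Hs} (hu : u ∈ Apt) {v : V} (hv : v ∈ Vp) : act u v - v ∈ Zv := by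
  rw [mem_Vp] at hv
  simp [act, hv, mem_Apt.1 hu]

theorem n_top {u : Hs} (hu : u ∈ Apt) (v : V) : act u v - v ∈ Vp := by
  simp [act, mem_Apt.1 hu]

theorem ZV : Zv ≤ Vp := fun v hv => by
  rw [mem_Zv] at hv
  simp [hv]

theorem ne1 {u : Hs} (hu : u ∈ Apt) : u ≠ 1 ↔ ¬ (u.a = 0 ∧ u.c = 0) :=
  not_congr ⟨fun e => by simp [e], fun e => Hs.ext e.1 hu e.2⟩

theorem sup_n {α : GV} {A B L : AddSubgroup V} (h1 : ∀ v ∈ A, α v - v ∈ L) (h2 : ∀ v ∈ B, α v - v ∈ L) :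
    ∀ v ∈ A ⊔ B, α v - v ∈ L := fun v hv => by
  obtain ⟨x, hx, y, hy, rfl⟩ := AddSubgroup.mem_sup.1 hv
  rw [map_add, add_sub_add_comm]
  exact add_mem (h1 x hx) (h2 y hy)

theorem zm_n {α : GV} {y : V} {L : AddSubgroup V} (h : α y - y ∈ L) :
    ∀ v ∈ AddSubgroup.zmultiples y, α v - v ∈ L := by
  rintro _ ⟨n, rfl⟩
  simp only [map_zsmul, ← smul_sub]
  exact zsmul_mem h n

theorem f1 {x : V} (hx : x ∈ Vp) (hx' : x ∉ Zv) :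
    ∃ x2 ∈ Vp, ∀ z ∈ Vp, ∃ k l m : K, z = k • ep + l • x + m • x2 := by
  rw [mem_Vp] at hx
  obtain ⟨q2, r2, h⟩ := (by decide : ∀ q r : K, ¬ (q = 0 ∧ r = 0) → ∃ q2 r2 : K, ∀ q' r' : K, ∃ l m : K,
    q' = l * q + m * q2 ∧ r' = l * r + m * r2) x.q x.r fun e => hx' (by simp [e, hx])
  refine ⟨⟨0, q2, r2, 0, 0, 0⟩, by simp, fun z hz => ?_⟩
  rw [mem_Vp] at hz
  obtain ⟨l, m, e1, e2⟩ := h z.q z.r
  exact ⟨z.p - l * x.p, l, m, by ext <;> simp [ep, hx, hz, ← e1, ← e2]⟩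

theorem f2 {x : V} (hx : x ∈ Vp) (hx' : x ∉ Zv) (y : V) :
    ∃ a ∈ Apt, a ≠ 1 ∧ ∃ k l : K, act a y - y = k • ep + l • x := by
  rw [mem_Vp] at hx
  obtain ⟨a, c, l, h, e1, e2⟩ := (by decide +kernel : ∀ q r s t w : K, ¬ (q = 0 ∧ r = 0) → ∃ a c l : K,
    ¬ (a = 0 ∧ c = 0) ∧ a * s + c * t = l * q ∧ a * t + c * w = l * r) x.q x.r y.s y.t y.w
    fun e => hx' (by simp [e, hx])
  refine ⟨⟨a, 0, c⟩, rfl, (ne1 rfl).2 h, (act ⟨a, 0, c⟩ y - y).p - l * x.p, l, ?_⟩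
  ext <;> simp [ep, hx, act, ← e1, ← e2] <;> ring

end Sr

open Sr

theorem GH.ρ_mem (h : GH Γ) (u : Hs) : ρ u ∈ Γ := h.le ⟨u, rfl⟩

/-- The stabilizer of the line `Zv`; `U0` is Sylow in it (`SylIn.of_le`). -/
theorem GH.exists_stab (h : GH Γ) : ∃ P : Subgroup GV, (∀ γ, γ ∈ P ↔ γ ∈ Γ ∧ γ ep ∈ Zv) ∧ U0 ≤ P ∧ SylIn 3 U0 P := by
  obtain ⟨P, hP⟩ := tool_sub (fun γ : GV => γ ∈ Γ ∧ γ ep ∈ Zv) ⟨one_mem _, epZ⟩
    fun a b ha hb => ⟨mul_mem ha.1 hb.1, zv_map ha.2 hb.2⟩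
  have le : U0 ≤ P := by
    rintro _ ⟨u, rfl⟩
    exact (hP _).2 ⟨h.ρ_mem u, by rw [ρ_apply, act_Zv u epZ]; exact epZ⟩
  exact ⟨P, hP, le, h.syl.of_le le fun γ hγ => ((hP γ).1 hγ).1⟩

theorem n2_iff {u : Hs} : (∀ v, act u (act u v - v) - (act u v - v) ∈ Zv) ↔ u ∈ Apt := by
  refine ⟨fun h => ?_, fun h v => n_Vp h (n_top h v)⟩
  have := (mem_Zv.1 (h ew)).2.2.1
  simp only [act, ew, V.sub_s, V.sub_t, V.sub_w] at this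
  exact (by decide : ∀ b : K, 2 * b * b = 0 → b = 0) u.b (by linear_combination this)

theorem im_Apt {u : Hs} (h : u ∈ Apt) (h1 : u ≠ 1) {v : V} : v ∈ Vp ↔ ∃ x, v = act u x - x := by
  refine ⟨fun hv => ?_, fun ⟨x, e⟩ => e ▸ n_top h x⟩
  rw [ne1 h] at h1
  obtain ⟨a, b, c⟩ := u
  obtain rfl : b = 0 := h
  obtain ⟨p, q, r, s, t, w⟩ := v
  obtain ⟨rfl, rfl, rfl⟩ : s = 0 ∧ t = 0 ∧ w = 0 := mem_Vp.1 hv
  by_cases e : a = 0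
  · refine ⟨⟨0, 0, 2 * c * (p - c * r), 0, c * q, c * r⟩, ?_⟩
    clear hv
    revert a c p q r
    decide +kernel
  · refine ⟨⟨0, 2 * a * (p - a * (q - c * a * r) - 2 * c * r), 0, a * (q - c * a * r), a * r, 0⟩, ?_⟩
    clear hv h1
    revert a c p q r
    decide +kernel

theorem n2_Apt {u : Hs} (h : u ∈ Apt) (h1 : u ≠ 1) : ∃ x, act u (act u x - x) - (act u x - x) = ep := by
  rw [ne1 h] at h1
  obtain ⟨a, b, c⟩ := u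
  obtain rfl : b = 0 := h
  by_cases e : a = 0
  · refine ⟨⟨0, 0, 0, 0, 0, 2⟩, ?_⟩
    revert a c
    decide +kernel
  · refine ⟨⟨0, 0, 0, 2, 0, 0⟩, ?_⟩
    revert a c
    decide +kernel

/-- `chv_mem_U0`, then `b = 0` from the `t`-coordinate of `act u ew`. -/
theorem GH.k0 (h : GH Γ) {γ : GV} (hγ : γ ∈ Γ) (hc : ChV γ ⊥ [Zv, Vp]) : ∃ u ∈ Apt, γ = ρ u := by
  obtain ⟨u, rfl⟩ := chv_mem_U0 h.le h.syl (l := [Zv, Vp]) (by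
    simp only [List.forall_mem_cons, List.not_mem_nil, false_imp_iff, implies_true, and_true]
    exact ⟨fun u y hy => by rwa [act_Zv u hy], fun u y hy => act_Vp u hy⟩) hγ hc
  refine ⟨u, ?_, rfl⟩
  simpa [act, ew] using (mem_Vp.1 (hc.2.2.2.2 ew)).2.1

theorem Sr.tr {δ : GV} (hz : δ ep ∈ Zv) {a b : Hs} (ha : a ∈ Apt) (ha1 : a ≠ 1) (e : ρ b = δ * ρ a * δ⁻¹)
    (v : V) : δ v ∈ Vp ↔ v ∈ Vp := by
  have k : ∀ x, act b (δ x) - δ x = δ (act a x - x) := fun x => by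
    rw [← ρ_apply, e, map_sub]; simp
  have hb : b ∈ Apt := n2_iff.1 fun w => by
    obtain ⟨x, rfl⟩ := δ.surjective w
    rw [k, k]
    exact zv_map hz (n2_iff.2 ha x)
  have hb1 : b ≠ 1 := fun r => ha1 (ρ_inj (by
    rw [r, map_one, eq_comm, conj_eq_one_iff] at e
    rw [e, map_one]))
  rw [im_Apt hb hb1, im_Apt ha ha1]
  refine ⟨fun ⟨x, r⟩ => ?_, fun ⟨x, r⟩ => ⟨δ x, by rw [k, r]⟩⟩
  obtain ⟨x, rfl⟩ := δ.surjective x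
  exact ⟨x, δ.injective (r.trans (k x))⟩

/-- Conjugate the `3`-group into `U0` by `g ∈ P` (`exists_stab`, `SylIn.exists_conj`): `g ρ a g⁻¹ = ρ b`, `g γ ρ a' γ⁻¹ g⁻¹ = ρ b'` with
`b, b' ∈ Apt \ 1` (`n2_iff`, `g` and `g γ` preserve `Zv`); by `im_Apt`, `g Vp = Vp = g γ Vp`. -/
theorem GH.k2 (h : GH Γ) {γ : GV} (hγ : γ ∈ Γ) (hz : γ ep ∈ Zv) {a a' : Hs} (ha : a ∈ Apt) (ha1 : a ≠ 1) (ha' : a' ∈ Apt)
    (ha1' : a' ≠ 1) (hp : IsPGroup 3 (closure ({ρ a, γ * ρ a' * γ⁻¹} : Set GV))) : ∀ v ∈ Vp, γ v ∈ Vp := by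
  obtain ⟨P, hP, le, sy⟩ := h.exists_stab
  have m := (hP γ).2 ⟨hγ, hz⟩
  obtain ⟨g, hg, k⟩ := sy.exists_conj hp (tool_pair (le ⟨a, rfl⟩) (mul_mem (mul_mem m (le ⟨a', rfl⟩)) (inv_mem m)))
  obtain ⟨b, e⟩ := k _ (subset_closure (.inl rfl))
  obtain ⟨b', e'⟩ := k _ (subset_closure (.inr rfl))
  intro v hv
  exact (tr ((hP g).1 hg).2 ha ha1 e _).1 ((tr (δ := g * γ) ((hP _).1 (mul_mem hg m)).2 ha' ha1'
    (e'.trans (by group)) v).2 hv)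

/-- Let `v = γ x`, `x ∈ Vp \ Zv`, `Vp = ⟨ep, x, x2'⟩`, `v2 = γ x2'`, `y = n_a v2`, `n' = γ n_{a'} γ⁻¹`.  The map
`a' ↦ n_{a'} (γ⁻¹ y) mod ⟨ep, x⟩` is a homomorphism `Apt → Vp/⟨ep, x⟩` (order `9 → 3`), so some `a' ≠ 1` has `n' y ∈ ⟨ep, v⟩`
(for fixed `x` and `y' = γ⁻¹ y` this is a linear condition on `(a'.a, a'.c)`).  Then `ρ a` and `γ ρ a' γ⁻¹` stabilize the chain
`Zv ≤ L2 = ⟨ep, v⟩ ≤ L3 = L2 + ⟨y⟩ ≤ L4 = L3 + ⟨v2⟩ ≤ L5 = L4 ⊔ Vp`: `n_a V ≤ Vp`, `n_a Vp ≤ Zv`, `n_a v2 = y ∈ Vp`, `n_a v ∈ Zv`;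
`n' V ≤ γ Vp ≤ L4`, `n' v2, n' v ∈ Zv`, `n' y ∈ L2`.  `chv_pgroup`, `k2`. -/
theorem GH.case1 (h : GH Γ) {γ : GV} (hγ : γ ∈ Γ) (hz : γ ep ∈ Zv) {a : Hs} (ha : a ∈ Apt) (ha1 : a ≠ 1) {x : V}
    (hx : x ∈ Vp) (hx' : x ∉ Zv) (hv : act a (γ x) - γ x ∈ Zv) : ∀ v ∈ Vp, γ v ∈ Vp := by
  obtain ⟨x2, h2, d⟩ := f1 hx hx'
  obtain ⟨y, hy⟩ : ∃ y, y = act a (γ x2) - γ x2 := ⟨_, rfl⟩
  obtain ⟨a', ha', ha1', k, l, e⟩ := f2 hx hx' (γ⁻¹ y)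
  obtain ⟨L2, e2⟩ : ∃ L, L = Zv ⊔ AddSubgroup.zmultiples (γ x) := ⟨_, rfl⟩
  obtain ⟨L3, e3⟩ : ∃ L, L = L2 ⊔ AddSubgroup.zmultiples y := ⟨_, rfl⟩
  obtain ⟨L4, e4⟩ : ∃ L, L = L3 ⊔ AddSubgroup.zmultiples (γ x2) := ⟨_, rfl⟩
  have l2 : Zv ≤ L2 := e2 ▸ le_sup_left
  have l3 : L2 ≤ L3 := e3 ▸ le_sup_left
  have l4 : L3 ≤ L4 := e4 ▸ le_sup_left
  have m2 : γ x ∈ L2 := e2 ▸ AddSubgroup.mem_sup_right (AddSubgroup.mem_zmultiples _)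
  have m3 : y ∈ L3 := e3 ▸ AddSubgroup.mem_sup_right (AddSubgroup.mem_zmultiples _)
  have m4 : γ x2 ∈ L4 := e4 ▸ AddSubgroup.mem_sup_right (AddSubgroup.mem_zmultiples _)
  have a1 : ∀ v ∈ Zv, ρ a v - v ∈ (⊥ : AddSubgroup V) := fun v hv => by simp [act_Zv a hv]
  have a2 : ∀ v ∈ L2, ρ a v - v ∈ Zv := e2 ▸ sup_n (fun v hv => bot_le (a := Zv) (a1 v hv)) (zm_n hv)
  have a3 : ∀ v ∈ L3, ρ a v - v ∈ L2 :=
    e3 ▸ sup_n (fun v hv => l2 (a2 v hv)) (zm_n (l2 (n_Vp ha (hy ▸ n_top ha _))))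
  have a4 : ∀ v ∈ L4, ρ a v - v ∈ L3 := e4 ▸ sup_n (fun v hv => l3 (a3 v hv)) (zm_n (by rw [ρ_apply, ← hy]; exact m3))
  have n : ∀ v, (γ * ρ a' * γ⁻¹) v - v = γ (act a' (γ⁻¹ v) - γ⁻¹ v) := fun v => by simp
  have b0 : ∀ z ∈ Vp, (γ * ρ a' * γ⁻¹) (γ z) - γ z ∈ Zv := fun z hz' => by
    rw [n, GV.inv_apply_self]; exact zv_map hz (n_Vp ha' hz')
  have b1 : ∀ v ∈ Zv, (γ * ρ a' * γ⁻¹) v - v ∈ (⊥ : AddSubgroup V) := fun v hv => by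
    rw [n, act_Zv a' (zv_map (zv_inv hz) hv), sub_self, map_zero]; exact zero_mem _
  have b2 : ∀ v ∈ L2, (γ * ρ a' * γ⁻¹) v - v ∈ Zv :=
    e2 ▸ sup_n (fun v hv => bot_le (a := Zv) (b1 v hv)) (zm_n (b0 x hx))
  have b3 : ∀ v ∈ L3, (γ * ρ a' * γ⁻¹) v - v ∈ L2 := e3 ▸ sup_n (fun v hv => l2 (b2 v hv)) (zm_n (by
    rw [n, e, map_add, map_smul, map_smul]
    exact add_mem (smul_mem3 _ (l2 hz)) (smul_mem3 _ m2)))
  have b4 : ∀ v ∈ L4, (γ * ρ a' * γ⁻¹) v - v ∈ L3 :=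
    e4 ▸ sup_n (fun v hv => l3 (b3 v hv)) (zm_n (l3 (l2 (b0 x2 h2))))
  have b5 : ∀ v, (γ * ρ a' * γ⁻¹) v - v ∈ L4 := fun v => by
    obtain ⟨k, l, m, r⟩ := d _ (n_top ha' (γ⁻¹ v))
    rw [n, r, map_add, map_add, map_smul, map_smul, map_smul]
    exact add_mem (add_mem (smul_mem3 _ (l4 (l3 (l2 hz)))) (smul_mem3 _ (l4 (l3 m2)))) (smul_mem3 _ m4)
  exact h.k2 hγ hz ha ha1 ha' ha1' (chv_pgroup (l := [Zv, L2, L3, L4, L4 ⊔ Vp])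
    ⟨bot_le, a1, l2, a2, l3, a3, l4, a4, le_sup_left,
      sup_n (fun v hv => l4 (a4 v hv)) fun v hv => l4 (l3 (l2 (n_Vp ha hv))),
      fun v => AddSubgroup.mem_sup_right (n_top ha v)⟩
    ⟨bot_le, b1, l2, b2, l3, b3, l4, b4, le_sup_left, fun v _ => b5 v, fun v => AddSubgroup.mem_sup_left (b5 v)⟩)

/-- The set `Ω = {v | ∀ a ∈ Apt, a ≠ 1 → n_a v ∉ Zv}` has `486` elements (`decide +kernel`) and is `U`-invariant. -/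
theorem card_Ω : Nat.card {v : V // ∀ a ∈ Apt, a ≠ 1 → act a v - v ∉ Zv} = 486 := by
  have k : ∀ s t w : K, (∀ a c : K, ¬ (a = 0 ∧ c = 0) → ¬ (a * s + c * t = 0 ∧ a * t + c * w = 0)) ↔ s * w ≠ t * t := by
    decide +kernel
  have m : ∀ (v : V) (a : Hs), a ∈ Apt → (act a v - v ∈ Zv ↔ a.a * v.s + a.c * v.t = 0 ∧ a.a * v.t + a.c * v.w = 0) :=
    fun v a ha => by simp [act, mem_Apt.1 ha, add_assoc]
  rw [Nat.card_congr (Equiv.subtypeEquivRight (q := fun v : V => v.s * v.w ≠ v.t * v.t) fun v => ?_),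
    Nat.card_eq_fintype_card, Fintype.card_subtype]
  · decide +kernel
  rw [← k]
  exact ⟨fun h a c n => (m v ⟨a, 0, c⟩ rfl).not.1 (h ⟨a, 0, c⟩ rfl ((ne1 rfl).2 n)),
    fun h a ha n => (m v a ha).not.2 (h _ _ ((ne1 ha).1 n))⟩

/-- If `u ≠ 1` and `n_u v ∈ Zv` then `n_a v ∈ Zv` for some `a ∈ Apt \ 1` (`a = u` or `a = zz`). -/
theorem exists_Apt {u : Hs} (hu : u ≠ 1) {v : V} (h : act u v - v ∈ Zv) : ∃ a ∈ Apt, a ≠ 1 ∧ act a v - v ∈ Zv := by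
  by_cases e : u.b = 0
  · exact ⟨u, e, hu, h⟩
  obtain ⟨-, -, h1, h2, -⟩ := mem_Zv.1 h
  have hw : v.w = 0 := by simpa [act, e] using h2
  have ht : v.t = 0 := by
    simp only [act, V.sub_s, hw] at h1
    exact (mul_eq_zero.1 (show 2 * u.b * v.t = 0 by linear_combination h1)).resolve_left
      (mul_ne_zero (by decide) e)
  exact ⟨zz, rfl, by decide, by simp [act, zz, hw, ht]⟩

/-- Suppose not.  By `case1` (for `ρ u * γ`, which also moves `Vp`), `act u (γ x) ∈ Ω` for all `u`, `x ∈ Vp \ Zv`.  The map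
`(u, x) ↦ act u (γ x)` from `Hs × (Vp \ Zv)` (`27 · 24 = 648`) to `Ω` is not injective: `act u (γ x) = γ x'` with `(u, x) ≠ (1, x')`, so `u ≠ 1`.
Then `g = γ⁻¹ ρ u γ ∈ Γ` fixes `ep` and `g x = x' ∈ Vp`, so by `case1` (`a = zz`) `g Vp = Vp`; `g` has `(g - 1)³ = 0`, so it fixes some
`x0 ∈ Vp \ Zv` modulo `Zv` (the last of `x, (g-1) x, (g-1)² x` not in `Zv`); `n_u (γ x0) ∈ Zv`, and `exists_Apt` contradicts `γ x0 ∈ Ω`. -/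
theorem GH.vp (h : GH Γ) {γ : GV} (hγ : γ ∈ Γ) (hz : γ ep ∈ Zv) : ∀ v ∈ Vp, γ v ∈ Vp := by
  by_contra hn
  have H : ∀ u, ∀ x ∈ Vp, x ∉ Zv → ∀ a ∈ Apt, a ≠ 1 → act a (act u (γ x)) - act u (γ x) ∉ Zv :=
    fun u x hx hx' a ha ha1 r => hn fun v hv => by
      have := act_Vp u⁻¹ (h.case1 (mul_mem (h.ρ_mem u) hγ) (by
        rw [GV.mul_apply, ρ_apply, act_Zv u hz]; exact hz) ha ha1 hx hx' r v hv)
      rwa [GV.mul_apply, ρ_apply, ← act_mul, inv_mul_cancel, act_one] at this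
  have c24 : Nat.card {x : V // x ∈ Vp ∧ x ∉ Zv} = 24 := by
    simp only [mem_Vp, mem_Zv]
    rw [Nat.card_eq_fintype_card, Fintype.card_subtype]
    decide +kernel
  obtain ⟨⟨u1, x1, h1, h1'⟩, ⟨u2, x2, h2, h2'⟩, e, ne⟩ := Function.not_injective_iff.1 fun r => by
    have := Nat.card_le_card_of_injective (fun z : Hs × {x : V // x ∈ Vp ∧ x ∉ Zv} =>
      (⟨act z.1 (γ z.2), H z.1 z.2 z.2.2.1 z.2.2.2⟩ : {v : V // ∀ a ∈ Apt, a ≠ 1 → act a v - v ∉ Zv})) r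
    rw [card_Ω, Nat.card_prod, Hs.card, c24] at this
    exact absurd this (by norm_num)
  replace e : act (u2⁻¹ * u1) (γ x1) = γ x2 := by
    rw [act_mul, show act u1 (γ x1) = act u2 (γ x2) from congrArg Subtype.val e, ← act_mul, inv_mul_cancel, act_one]
  have u0 : u2⁻¹ * u1 ≠ 1 := fun r => ne (by
    rw [r, act_one] at e
    obtain rfl := γ.injective e
    obtain rfl := inv_mul_eq_one.1 r
    rfl)
  generalize u2⁻¹ * u1 = u at e u0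
  obtain ⟨g, hg⟩ : ∃ g, g = γ⁻¹ * ρ u * γ := ⟨_, rfl⟩
  have gp : ∀ v ∈ Vp, g v ∈ Vp := h.case1 (a := zz) (hg ▸ mul_mem (mul_mem (inv_mem hγ) (h.ρ_mem u)) hγ)
    (by rw [hg]; simpa [act_Zv u hz] using epZ) rfl (by decide) h1 h1' (n_Vp rfl (by rw [hg]; simpa [e] using h2))
  have g3 : ∀ v, g (g (g v)) = v := fun v => by
    have : u * (u * u) = 1 := (by decide : ∀ a b c : K, (⟨a, b, c⟩ : Hs) * (⟨a, b, c⟩ * ⟨a, b, c⟩) = 1) u.a u.b u.c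
    simp [hg, ← act_mul, this, act_one]
  have k : ∀ x ∈ Vp, x ∉ Zv → g x - x ∉ Zv := fun x hx hx' r => by
    obtain ⟨a, ha, ha1, r'⟩ := exists_Apt u0 (v := γ x) (by simpa [hg] using zv_map hz r)
    exact H 1 x hx hx' a ha ha1 (by rwa [act_one])
  have m1 := sub_mem (gp _ h1) h1
  refine k _ (sub_mem (gp _ m1) m1) (k _ m1 (k _ h1 h1')) ?_
  have : g (g (g x1 - x1) - (g x1 - x1)) - (g (g x1 - x1) - (g x1 - x1)) =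
      g x1 + g x1 + g x1 - (g (g x1) + g (g x1) + g (g x1)) := by
    simp only [map_sub, g3]; abel
  rw [this, V.three, V.three, sub_zero]
  exact zero_mem _

/-- `ChV.conj` and `k0`. -/
theorem GH.star (h : GH Γ) {γ : GV} (hγ : γ ∈ Γ) (hz : γ ep ∈ Zv) : Nm Apt γ := fun u hu =>
  h.k0 (mul_mem (mul_mem hγ (h.ρ_mem u)) (inv_mem hγ)) (ChV.conj (l := [Zv, Vp])
    ⟨bot_le, fun v hv => by simp [act_Zv u hv], ZV, fun _ hv => n_Vp hu hv, fun v => n_top hu v⟩ (by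
      simp only [List.forall_mem_cons, List.not_mem_nil, false_imp_iff, implies_true, and_true]
      exact ⟨fun y hy => zv_map hz hy, h.vp hγ hz⟩))

end Cfsg.Agent.C3F
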