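import Cfsg.Agent.C3F.Api

/-! Chain stabilizers and the tools for essential subgroups (for S5227).  `T = autInducedBy ⊤ E`. -/

set_option autoImplicit false
set_option linter.unusedSimpArgs false

namespace Cfsg.Agent.C3F

open Subgroup Cfsg.Agent.Fus Cfsg.FusionSystem Cfsg.Agent.SpF

/-- `α` acts trivially on the factors of the chain `L ≤ l₀ ≤ l₁ ≤ ⋯ ≤ ⊤` (intersected with `E`). -/
def Chn (E : Subgroup S) (α : MulAut E) : Subgroup S → List (Subgroup S) → Prop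
  | L, [] => ∀ y ∈ E, afn α y * y⁻¹ ∈ L
  | L, M :: l => L ≤ M ∧ (∀ y ∈ E, y ∈ M → afn α y * y⁻¹ ∈ L) ∧ Chn E α M l

/-- `γ` acts trivially on the factors of the chain `L ≤ l₀ ≤ l₁ ≤ ⋯ ≤ ⊤`. -/
def ChV (γ : GV) : AddSubgroup V → List (AddSubgroup V) → Prop
  | L, [] => ∀ v, γ v - v ∈ L
  | L, M :: l => L ≤ M ∧ (∀ v ∈ M, γ v - v ∈ L) ∧ ChV γ M l

variable {E : Subgroup S} {A H : Subgroup (MulAut E)}

theorem tool_sub {G : Type*} [Group G] [Finite G] (P : G → Prop) (h1 : P 1) (hm : ∀ a b, P a → P b → P (a * b)) :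
    ∃ N : Subgroup G, ∀ a, a ∈ N ↔ P a :=
  let M : Submonoid G := ⟨⟨{a | P a}, hm _ _⟩, h1⟩
  ⟨⟨M, fun {a} ha => (Submonoid.powers_le (P := M)).2 ha (mem_powers_iff_mem_zpowers.2 (inv_mem (mem_zpowers a)))⟩,
    fun _ => Iff.rfl⟩

theorem Chn.one {α : MulAut E} {l : List (Subgroup S)} : ∀ {L}, Chn E α L l → Chn E 1 L l := by
  induction l with
  | nil => exact fun _ y _ => by rw [afn_one, mul_inv_cancel]; exact one_mem _
  | cons M l ih => exact fun h => ⟨h.1, fun y _ _ => by rw [afn_one, mul_inv_cancel]; exact one_mem _, ih h.2.2⟩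

theorem tool_mul {α β : MulAut E} {y : S} (hy : y ∈ E) :
    afn (α * β) y * y⁻¹ = afn α (afn β y) * (afn β y)⁻¹ * (afn β y * y⁻¹) := by rw [afn_mul _ _ hy]; group

theorem Chn.mul {α β : MulAut E} {l : List (Subgroup S)} : ∀ {L}, Chn E α L l → Chn E β L l → Chn E (α * β) L l := by
  induction l with
  | nil => exact fun h k y hy => tool_mul hy ▸ mul_mem (h _ (afn_mem β hy)) (k y hy)
  | cons M l ih => exact fun h k => ⟨h.1, fun y hy hM => tool_mul hy ▸ mul_mem (h.2.1 _ (afn_mem β hy)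
      ((mul_mem_cancel_right (inv_mem hM)).1 (k.1 (k.2.1 y hy hM)))) (k.2.1 y hy hM), ih h.2.2 k.2.2⟩

theorem Chn.fix {α : MulAut E} (hα : (orderOf α).Coprime 3) {l : List (Subgroup S)} :
    ∀ {L}, Chn E α L l → (∀ y ∈ E, y ∈ L → afn α y = y) → ∀ y ∈ E, afn α y = y := by
  induction l with
  | nil => exact fun h k y hy => fix_of_step (isPGroup_S.to_subgroup E) hα k hy (h y hy)
  | cons M l ih => exact fun h k => ih h.2.2 fun y hy hM => fix_of_step (isPGroup_S.to_subgroup E) hα k hy (h.2.1 y hy hM)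

theorem tool_conj {α κ : MulAut E} {y : S} (hy : y ∈ E) :
    afn (κ * α * κ⁻¹) y * y⁻¹ = afn κ (afn α (afn κ⁻¹ y) * (afn κ⁻¹ y)⁻¹) := by
  have := afn_mem κ⁻¹ hy
  rw [afn_map_mul κ (afn_mem α this) (inv_mem this), afn_map_inv κ this, afn_afn_inv κ hy, afn_mul _ _ hy, afn_mul _ _ this]

theorem Chn.conj' {α κ : MulAut E} {l : List (Subgroup S)} (hκ : ∀ L ∈ l, ∀ y ∈ E, y ∈ L → afn κ y ∈ L) :
    ∀ {L}, Chn E α L l → (∀ y ∈ E, y ∈ L → afn κ y ∈ L) → Chn E (κ * α * κ⁻¹) L l := by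
  have m : ∀ y ∈ E, afn α (afn κ⁻¹ y) * (afn κ⁻¹ y)⁻¹ ∈ E := fun y hy =>
    mul_mem (afn_mem α (afn_mem _ hy)) (inv_mem (afn_mem _ hy))
  induction l with
  | nil => exact fun {_} h k y hy => tool_conj hy ▸ k _ (m y hy) (h _ (afn_mem _ hy))
  | cons M l ih =>
    have a := hκ M List.mem_cons_self
    obtain ⟨N, hN⟩ := tool_sub (fun κ : MulAut E => ∀ y ∈ E, y ∈ M → afn κ y ∈ M) (fun y _ h => by rwa [afn_one])
      fun a b ha hb y hy h => afn_mul a b hy ▸ ha _ (afn_mem b hy) (hb y hy h)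
    exact fun {_} h k => ⟨h.1, fun y hy hM => tool_conj hy ▸ k _ (m y hy) (h.2.1 _ (afn_mem _ hy)
      ((hN _).1 (inv_mem ((hN κ).2 a)) y hy hM)), ih (fun L hL => hκ L (List.mem_cons_of_mem _ hL)) h.2.2 a⟩

theorem ChV.one {α : GV} {l : List (AddSubgroup V)} : ∀ {L}, ChV α L l → ChV 1 L l := by
  induction l with
  | nil => exact fun _ y => by rw [GV.one_apply, sub_self]; exact zero_mem _
  | cons M l ih => exact fun h => ⟨h.1, fun y _ => by rw [GV.one_apply, sub_self]; exact zero_mem _, ih h.2.2⟩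

theorem ChV.mul {α β : GV} {l : List (AddSubgroup V)} : ∀ {L}, ChV α L l → ChV β L l → ChV (α * β) L l := by
  induction l with
  | nil => exact fun h k y => by simpa using add_mem (h (β y)) (k y)
  | cons M l ih => exact fun h k => ⟨h.1, fun y hM => by
      simpa using add_mem (h.2.1 (β y) (by simpa using add_mem (k.1 (k.2.1 y hM)) hM)) (k.2.1 y hM), ih h.2.2 k.2.2⟩

theorem tool_step {α : GV} (hα : (orderOf α).Coprime 3) {L : AddSubgroup V} (h : ∀ y ∈ L, α y = y) {y : V}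
    (k : α y - y ∈ L) : α y = y := by
  have e : α y = y + (α y - y) := by simp
  generalize α y - y = c at k e
  have : α ^ 3 ∈ MulAction.stabilizer GV y := by
    change (α ^ 3) y = y
    simp only [pow_succ, pow_zero, one_mul, GV.mul_apply, e, map_add, h c k]
    rw [add_assoc, add_assoc, ← add_assoc c, V.three, add_zero]
  exact e ▸ e.symm.trans (zpowers_le.2 this (mem_zpowers_pow_iff.2 hα.symm))

theorem ChV.fix {α : GV} (hα : (orderOf α).Coprime 3) {l : List (AddSubgroup V)} :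
    ∀ {L}, ChV α L l → (∀ y ∈ L, α y = y) → ∀ y, α y = y := by
  induction l with
  | nil => exact fun h k y => tool_step hα k (h y)
  | cons M l ih => exact fun h k => ih h.2.2 fun y hM => tool_step hα k (h.2.1 y hM)

theorem ChV.conj' {α κ : GV} {l : List (AddSubgroup V)} (hκ : ∀ L ∈ l, ∀ y ∈ L, κ y ∈ L) :
    ∀ {L}, ChV α L l → (∀ y ∈ L, κ y ∈ L) → ChV (κ * α * κ⁻¹) L l := by
  induction l with
  | nil => exact fun {_} h k y => by simpa using k _ (h (κ⁻¹ y))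
  | cons M l ih =>
    have a := hκ M List.mem_cons_self
    obtain ⟨N, hN⟩ := tool_sub (fun κ : GV => ∀ y ∈ M, κ y ∈ M) (fun _ h => h) fun _ _ ha hb y h => ha _ (hb y h)
    exact fun {_} h k => ⟨h.1, fun y hM => by simpa using k _ (h.2.1 _ ((hN _).1 (inv_mem ((hN κ).2 a)) y hM)),
      ih (fun L hL => hκ L (List.mem_cons_of_mem _ hL)) h.2.2 a⟩

theorem tool_pair {G : Type*} [Group G] {N : Subgroup G} {a b : G} (ha : a ∈ N) (hb : b ∈ N) : closure {a, b} ≤ N :=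
  (closure_le _).2 (Set.pair_subset ha hb)

/-- Closed under products: induction on `l` with the extra hypothesis that `α` maps `L ∩ E` into `L`
(`αβ y y⁻¹ = α (β y y⁻¹) · α y y⁻¹`); under inverses since `α⁻¹` is a positive power.  A `3`-group by
`isPGroup_of_coprime_eq_one` and `fix_of_step` (Fus/Normal).  No normality is needed. -/
theorem exists_chn (E : Subgroup S) {l : List (Subgroup S)} (h : Chn E 1 ⊥ l) :
    ∃ N : Subgroup (MulAut E), IsPGroup 3 N ∧ ∀ α, α ∈ N ↔ Chn E α ⊥ l := by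
  obtain ⟨N, hN⟩ := tool_sub (fun α => Chn E α ⊥ l) h fun _ _ => Chn.mul
  exact ⟨N, isPGroup_of_coprime_eq_one fun α hα c => aut_ext fun y hy => (((hN α).1 hα).fix c
    (fun y _ k => by rw [mem_bot.1 k, (homOn_afn α).map_one]) y hy).trans (afn_one y).symm, hN⟩

theorem chn_pgroup {l : List (Subgroup S)} {α β : MulAut E} (h : Chn E α ⊥ l) (h' : Chn E β ⊥ l) :
    IsPGroup 3 (closure ({α, β} : Set (MulAut E))) :=
  let ⟨_, hN, k⟩ := exists_chn E h.one; hN.to_le (tool_pair ((k _).2 h) ((k _).2 h'))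

/-- Conjugation by an automorphism preserving the chain (use finiteness to see that `κ⁻¹` preserves it too). -/
theorem Chn.conj {l : List (Subgroup S)} {α κ : MulAut E} (h : Chn E α ⊥ l)
    (hκ : ∀ L ∈ l, ∀ y ∈ E, y ∈ L → afn κ y ∈ L) : Chn E (κ * α * κ⁻¹) ⊥ l :=
  h.conj' hκ fun y _ k => by rw [mem_bot.1 k, (homOn_afn κ).map_one]; exact one_mem _

theorem exists_chv {l : List (AddSubgroup V)} (h : ChV 1 ⊥ l) :
    ∃ N : Subgroup GV, IsPGroup 3 N ∧ ∀ γ, γ ∈ N ↔ ChV γ ⊥ l := by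
  obtain ⟨N, hN⟩ := tool_sub (fun α => ChV α ⊥ l) h fun _ _ => ChV.mul
  exact ⟨N, isPGroup_of_coprime_eq_one fun α hα c => LinearEquiv.ext (((hN α).1 hα).fix c
    fun y k => by rw [AddSubgroup.mem_bot.1 k, map_zero]), hN⟩

theorem chv_pgroup {l : List (AddSubgroup V)} {α β : GV} (h : ChV α ⊥ l) (h' : ChV β ⊥ l) :
    IsPGroup 3 (closure ({α, β} : Set GV)) :=
  let ⟨_, hN, k⟩ := exists_chv h.one; hN.to_le (tool_pair ((k _).2 h) ((k _).2 h'))

theorem ChV.conj {l : List (AddSubgroup V)} {α κ : GV} (h : ChV α ⊥ l) (hκ : ∀ L ∈ l, ∀ y ∈ L, κ y ∈ L) :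
    ChV (κ * α * κ⁻¹) ⊥ l :=
  h.conj' hκ fun y k => by rw [AddSubgroup.mem_bot.1 k, map_zero]; exact zero_mem _

/-- If `U0` is Sylow in `Γ` and stabilizes the chain, an element of `Γ` trivial on the factors lies in `U0`:
`N ⊓ Γ` is a `3`-group normalized by `U0`, so `U0 ⊔ (N ⊓ Γ)` is a `3`-group (`IsPGroup.to_sup_of_normal_right'`), `SylIn.eq_of_le`. -/
theorem chv_mem_U0 {Γ : Subgroup GV} (hle : U0 ≤ Γ) (hs : SylIn 3 U0 Γ) {l : List (AddSubgroup V)}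
    (hl : ∀ L ∈ l, ∀ u, ∀ y ∈ L, act u y ∈ L) {γ : GV} (hγ : γ ∈ Γ) (h : ChV γ ⊥ l) : ∃ u, γ = ρ u := by
  obtain ⟨N, hN, k⟩ := exists_chv h.one
  have n : U0 ≤ normalizer ((N ⊓ Γ : Subgroup GV) : Set GV) := by
    rintro _ ⟨u, rfl⟩
    exact mem_normalizer_of_conj_mem fun x hx => mem_inf.2 ⟨(k _).2 (((k x).1 hx.1).conj fun L hL => hl L hL u),
      mul_mem (mul_mem (hle ⟨u, rfl⟩) (mem_inf.1 hx).2) (inv_mem (hle ⟨u, rfl⟩))⟩
  obtain ⟨u, hu⟩ := (hs.eq_of_le hle ((hs.isPGroup hle).to_sup_of_normal_right' hN.to_inf_left n) le_sup_left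
    (sup_le hle inf_le_right)).le (mem_sup_right ⟨(k _).2 h, hγ⟩)
  exact ⟨u, hu.symm⟩

/-- From `cond_of_spe` (Fus/Essential, see the proof of `essential_cond`) and `sat_fullyAutomized`; `H` the image of `K`. -/
theorem es_of_essential {F : FusionSystem (⊤ : Subgroup S)} (hF : F.IsSaturated 3) (hE : F.IsEssential 3 E) :
    ∃ H, Es E (F.autGroup E) H := by
  have ha := sat_fullyAutomized p3 hF hE.2.1
  have le := autInducedBy_le_autGroup F (le_top (a := E))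
  obtain ⟨hc, -, _, X, hX⟩ := hE
  obtain ⟨T, hT⟩ := ha.2
  obtain ⟨-, K, hK, h2⟩ := cond_of_spe _ T hX
  refine ⟨K.map (F.autGroup E).subtype, fun x h => isCentric_self hc ⟨trivial, h⟩, le, ha.2, fun k => hK ?_,
    fun α hα β hβ n c => ⟨⟨α, hα⟩, h2 _ ⟨β, le hβ⟩ (by rw [hT]; exact hβ) n (by rw [hT]; exact c), rfl⟩⟩
  exact eq_top_iff.2 fun α _ => PLocal.Amb.mem_map_subtype.1 (k α.2)

/-- Conjugation by an element normalizing `E`. -/
theorem Es.exists_cj (h : Es E A H) {g : S} (hg : ∀ x ∈ E, g * x * g⁻¹ ∈ E) :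
    ∃ β ∈ autInducedBy ⊤ E, (∀ x ∈ E, afn β x = g * x * g⁻¹) ∧ (β ∈ Inn E → g ∈ E) :=
  have n : g ∈ normalizerIn ⊤ E := ⟨trivial, mem_normalizer_of_conj_mem hg⟩
  ⟨_, conjAut_mem_autInducedBy n, fun _ => afn_conjAut _, (conjAut_mem_inn_iff le_top (fun x hx => h.cen x hx.2) n).1⟩

/-- By Sylow `a N a⁻¹ ≤ T` for some `a ∈ A`; `se` gives `a ∈ H` and `a κ ∈ H`. -/
theorem Es.tool1 (h : Es E A H) {N : Subgroup (MulAut E)} (hN : IsPGroup 3 N) (hle : N ≤ A) {β κ : MulAut E} (h1 : β ∈ N)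
    (h2 : β ∈ autInducedBy ⊤ E) (h3 : β ∉ Inn E) (hκ : κ ∈ A) (hn : κ * β * κ⁻¹ ∈ N) : κ ∈ H := by
  obtain ⟨a, ha, k⟩ := h.syl.exists_conj hN hle
  exact (mul_mem_cancel_left (h.se a ha β h2 h3 (k β h1))).1
    (h.se _ (mul_mem ha hκ) β h2 h3 (by simpa [mul_assoc] using k _ hn))

/-- `T ≤ H ⊓ A` (by `se`) is Sylow in `H ⊓ A`; conjugate the `3`-element `α β α⁻¹` into `T` by `k ∈ H ⊓ A`: `k α ∈ H`. -/
theorem Es.tool2 (h : Es E A H) {α β : MulAut E} (hα : α ∈ A) (h2 : β ∈ autInducedBy ⊤ E) (h3 : β ∉ Inn E)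
    (hc : α * β * α⁻¹ ∈ H) : α ∈ H := by
  have le : autInducedBy ⊤ E ≤ H ⊓ A := fun t ht =>
    ⟨h.se t (h.le ht) β h2 h3 (mul_mem (mul_mem ht h2) (inv_mem ht)), h.le ht⟩
  obtain ⟨n, hn⟩ := h.syl.isPGroup h.le ⟨β, h2⟩
  obtain ⟨a, ha, k⟩ := (h.syl.of_le le inf_le_right).exists_conj (B := zpowers (α * β * α⁻¹))
    (PLocal.Amb.isPGroup_zpowers ⟨n, by rw [conj_pow, show β ^ 3 ^ n = 1 from congrArg Subtype.val hn, mul_one, mul_inv_cancel]⟩)
    (zpowers_le.2 (mem_inf.2 ⟨hc, mul_mem (mul_mem hα (h.le h2)) (inv_mem hα)⟩))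
  exact (mul_mem_cancel_left (mem_inf.1 ha).1).1
    (h.se _ (mul_mem (mem_inf.1 ha).2 hα) β h2 h3 (by simpa [mul_assoc] using k _ (mem_zpowers _)))

/-- As `tool1`: `a ∈ H` and `a α ∈ H`. -/
theorem Es.tool3 (h : Es E A H) {α β β' : MulAut E} (hα : α ∈ A) (h2 : β ∈ autInducedBy ⊤ E) (h3 : β ∉ Inn E)
    (h2' : β' ∈ autInducedBy ⊤ E) (h3' : β' ∉ Inn E)
    (hc : IsPGroup 3 (closure ({β, α * β' * α⁻¹} : Set (MulAut E)))) : α ∈ H := by
  obtain ⟨a, ha, k⟩ := h.syl.exists_conj hc (tool_pair (h.le h2) (mul_mem (mul_mem hα (h.le h2')) (inv_mem hα)))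
  exact (mul_mem_cancel_left (h.se a ha β h2 h3 (k β (subset_closure (.inl rfl))))).1
    (h.se _ (mul_mem ha hα) β' h2' h3' (by simpa [mul_assoc] using k _ (subset_closure (.inr rfl))))

/-- `tool1` for the chain group. -/
theorem Es.stab (h : Es E A H) {l : List (Subgroup S)} {β κ : MulAut E} (h1 : Chn E β ⊥ l)
    (h2 : β ∈ autInducedBy ⊤ E) (h3 : β ∉ Inn E) (hκ : κ ∈ A) (hl : ∀ L ∈ l, ∀ y ∈ E, y ∈ L → afn κ y ∈ L) : κ ∈ H :=
  let ⟨_, hN, k⟩ := exists_chn E h1.one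
  h.tool1 hN.to_inf_left inf_le_right ⟨(k _).2 h1, h.le h2⟩ h2 h3 hκ
    (mem_inf.2 ⟨(k _).2 (h1.conj hl), mul_mem (mul_mem hκ (h.le h2)) (inv_mem hκ)⟩)

/-- Burnside: the automorphisms of `E` trivial on `E/E'` form a normal `3`-subgroup (`E' ≤ Φ(E)`; `AC.isPGroup_flagKer`-style
or `AC.eq_one_of_fix₁` with `frattini_nongenerating` in Fus/AutCop, Fus/Flag; or use the chain of lower central series);
`tool1` puts every `κ ∈ A` into `H`. -/
theorem Es.burn (h : Es E A H) {β : MulAut E} (h2 : β ∈ autInducedBy ⊤ E) (h3 : β ∉ Inn E) :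
    ¬ ∀ y ∈ E, afn β y * y⁻¹ ∈ ⁅E, E⁆ := fun k => h.ne fun κ hκ => by
  have p := isPGroup_S.to_subgroup E
  have m : β ∈ AC.stabPairs A (fun _ : Unit => frattini E) (fun _ => ⊤) (fun _ => AC.inv_of_char _ _) fun _ => AC.inv_top _ :=
    ⟨h.le h2, fun _ y _ => Normal.mem_comm inferInstance (Grp.PFrattini.commutator_le_frattini p
      (PLocal.Amb.mem_map_subtype.1 (by rw [map_subtype_commutator]; simpa [afn_coe] using k y y.2)))⟩
  refine h.tool1 ?_ ?_ m h2 h3 hκ (AC.conj_mem_stabPairs hκ m)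
  · exact isPGroup_of_coprime_eq_one fun α hα c => AC.eq_one_of_frattini p c fun y => hα.2 () y trivial
  · exact fun _ k => k.1

theorem comm_inl_eq (j : V) (x : S) : inl j * x * (inl j)⁻¹ * x⁻¹ = inl (j - act x.u j) := by
  rw [← inl_neg, mul_assoc, mul_assoc, ← mul_assoc x, conj_inl, ← inl_add, act_neg, sub_eq_add_neg]

/-- If `J ⊄ E`, the stabilizer of `E ∩ J` lies in `H`: take `j ∉ dn E` from `exists_fix_mod`; `inl j` normalizes `E`
(`inl j * x * (inl j)⁻¹ * x⁻¹ = inl (j - act x.u j)`), chain `[Js]`, `Es.stab`. -/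
theorem Es.stabJ (h : Es E A H) (hJ : ¬ Js ≤ E) {κ : MulAut E} (hκ : κ ∈ A) (hl : ∀ y ∈ E, y ∈ Js → afn κ y ∈ Js) :
    κ ∈ H := by
  obtain ⟨j, hj, k⟩ := exists_fix_mod (W := dn E) fun e => hJ fun x hx => eq_inl hx ▸ (e.ge trivial : x.j ∈ dn E)
  obtain ⟨β, h2, e, h3⟩ := h.exists_cj (g := inl j) fun x hx => (mul_mem_cancel_right (inv_mem hx)).1 (by
    rw [comm_inl_eq, ← neg_sub]
    exact neg_mem (k x.u))
  refine h.stab (l := [Js]) ⟨bot_le, fun y hy hu => ?_, fun y hy => ?_⟩ h2 (fun i => hj (h3 i)) hκ (by simpa using hl)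
  · rw [e y hy, comm_inl_eq, mem_Js.1 hu, act_one, sub_self]; exact one_mem _
  · rw [e y hy, comm_inl_eq]; exact inl_mem _

end Cfsg.Agent.C3F
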