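import Cfsg.Agent.C3F.Ext
import Cfsg.Agent.C3F.Core
import Cfsg.Agent.C3F.LocA
import Cfsg.Agent.C3F.LocB
import Cfsg.Agent.C3F.Orb

/-! A fusion system in normal form is determined by `Γ` (for S5227). -/

set_option autoImplicit false
set_option linter.unusedSimpArgs false

namespace Cfsg.Agent.C3F

open Subgroup Cfsg.Agent.Fus Cfsg.FusionSystem Cfsg.Agent.SpF

variable {F F' : FusionSystem (⊤ : Subgroup S)} {E : Subgroup S}

theorem uq_mem (hE : Js ≤ E) {x : S} (h : x.u ∈ E.map πu) : x ∈ E :=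
  (comap_map_eq_self (f := πu) hE).le h

theorem uq_conj (hE : Js ≤ E) {κ : MulAut E} {γ : GV} (h : ∀ v, afn κ (inl v) = inl (γ v)) {x : S} (hx : x ∈ E) :
    γ * ρ x.u * γ⁻¹ = ρ (afn κ x).u := by
  rw [mul_inv_eq_iff_eq_mul]
  refine LinearEquiv.ext fun v => inl_inj ?_
  have m := hE (inl_mem v)
  rw [GV.mul_apply, GV.mul_apply, ρ_apply, ρ_apply, ← h, ← conj_inl, ← conj_inl, ← h,
    afn_map_mul κ (mul_mem hx m) (inv_mem hx), afn_map_mul κ hx m, afn_map_inv κ hx]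

theorem uq_nm (hE : Js ≤ E) {κ : MulAut E} {γ : GV} (h : ∀ v, afn κ (inl v) = inl (γ v)) : Nm (E.map πu) γ := by
  rintro _ ⟨x, hx, rfl⟩
  exact ⟨_, ⟨_, afn_mem κ hx, rfl⟩, uq_conj hE h hx⟩

theorem uq_act {γ : GV} {u u' : Hs} (e : γ * ρ u * γ⁻¹ = ρ u') (v : V) : act u' (γ v) = γ (act u v) := by
  rw [← ρ_apply, ← e]
  simp

theorem uq_ne {γ : GV} {u u' : Hs} (e : γ * ρ u * γ⁻¹ = ρ u') (h : u ≠ 1) : u' ≠ 1 := by
  rintro rfl
  rw [map_one, conj_eq_one_iff, ← map_one ρ] at e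
  exact h (ρ_inj e)

theorem uq_fix {R : Subgroup Hs} {γ : GV} (h : Nm R γ) {u : Hs} (hu : u ∈ R) : act u (γ ep) = γ ep := by
  obtain ⟨u', -, e⟩ := h.inv u hu
  have := uq_act e (γ ep)
  rw [GV.inv_apply_self, act_ep] at this
  rw [← γ.apply_inv_self (act u (γ ep)), ← this]

theorem uq_comm (g : S) {y : S} (hy : y ∈ Js) : g * y * g⁻¹ * y⁻¹ = inl (act g.u y.j - y.j) := by
  conv_lhs => rw [eq_inl hy, conj_inl, ← inl_neg, ← inl_add, ← sub_eq_add_neg]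

/-- With `r` from `exists_resV`: `N = A ⊓ (Apt.map ρ).comap r` is a `3`-group (the kernel of `r` stabilizes the chain `[Js]`, `fixJ`, `exists_chn`;
`IsPGroup.comap_of_ker_isPGroup`), contains `β = c_{inr u} ∉ Inn` and is normalized by every `κ ∈ A`; `tool1`. -/
theorem Es.not_nm {A H : Subgroup (MulAut E)} (h : Es E A H) (hE : Js ≤ E)
    (hA : ∀ κ ∈ A, ∀ γ : GV, (∀ v, afn κ (inl v) = inl (γ v)) → Nm Apt γ) {u : Hs} (h1 : u ∈ Apt) (h2 : u ∉ E.map πu)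
    (h3 : ∀ x ∈ E.map πu, u * x * u⁻¹ ∈ E.map πu) : False := by
  obtain ⟨r, hr⟩ := exists_resV hE
  obtain ⟨β, hβ, b1, b2⟩ := h.exists_cj (g := inr u) fun x hx => uq_mem hE (h3 _ ⟨x, hx, rfl⟩)
  have c : ∀ α ∈ r.ker, Chn E α ⊥ [Js] := fun α hα => by
    have f : ∀ v, afn α (inl v) = inl v := fun v => by rw [← hr, MonoidHom.mem_ker.1 hα]; rfl
    refine ⟨bot_le, fun y _ hy => ?_, fun y hy => ?_⟩
    · rw [eq_inl hy, f, mul_inv_cancel]; exact one_mem _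
    · rw [fixJ hE f hy]; exact mul_inv_cancel y.u
  obtain ⟨C, hC, kC⟩ := exists_chn E (c 1 (one_mem _))
  have hN : IsPGroup 3 ((Apt.map ρ).comap r) := ((IsPGroup.of_card (n := 2) card_Apt).map ρ).comap_of_ker_isPGroup r
    (hC.to_le fun α hα => (kC α).2 (c α hα))
  have e : r β = ρ u := LinearEquiv.ext fun v => inl_inj (by rw [hr, b1 _ (hE (inl_mem v)), conj_inl]; rfl)
  refine h.ne fun κ hκ => h.tool1 hN.to_inf_left inf_le_right (β := β) ⟨⟨u, h1, e.symm⟩, h.le hβ⟩ hβ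
    (fun i => h2 ⟨_, b2 i, rfl⟩) hκ (mem_inf.2 ⟨?_, mul_mem (mul_mem hκ (h.le hβ)) (inv_mem hκ)⟩)
  obtain ⟨u', a1, a2⟩ := hA κ hκ (r κ) (fun v => (hr κ v).symm) u h1
  exact ⟨u', a1, by rw [map_mul, map_mul, map_inv, e, a2]⟩

/-- `R = ⟨x⟩`, `x ∈ Aln \ Apt`: each `κ ∈ A` restricts to `γ` with `γ ρ x γ⁻¹ = ρ x^{±1}`, so preserves `V3` (`fix_of_Aln`) and `J5 = ker (act x - 1)²`;
`Es.stab` with the chain `[up V3, up J5, Js]` and `β = c_{inr zz}`. -/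
theorem Es.not_tv {A H : Subgroup (MulAut E)} (h : Es E A H) (hE : Js ≤ E) {x : Hs} (ha : x.a = 0) (hb : x.b ≠ 0) :
    ¬ ∀ u, u ∈ E.map πu ↔ u = 1 ∨ u = x ∨ u = x⁻¹ := fun hR => by
  obtain ⟨r, hr⟩ := exists_resV hE
  have z : ∀ y : S, (inr zz * y * (inr zz)⁻¹).u = y.u := fun y => by
    rw [S.mul_u, S.mul_u, S.inv_u, inr_u, ← zz_comm, mul_inv_cancel_right]
  obtain ⟨β, hβ, b1, b2⟩ := h.exists_cj (g := inr zz) fun y hy => uq_mem hE ⟨y, hy, (z y).symm⟩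
  have x1 : x ≠ 1 := fun e => hb (by rw [e]; rfl)
  have l : V3 ≤ J5 := fun v hv => mem_J5.2 (mem_V3.1 hv).2.2
  refine h.ne fun κ hκ => h.stab (l := [up V3, up J5, Js]) ⟨bot_le, fun y hy k => ?_, fun y k => ⟨k.1, l k.2⟩,
    fun y hy k => ?_, fun y k => k.1, fun y hy k => ?_, fun y hy => ?_⟩ hβ (fun i => ?_) hκ ?_
  · rw [b1 y hy, uq_comm _ k.1, inr_u, fix_zz.2 k.2, sub_self]; exact one_mem _
  · rw [b1 y hy, uq_comm _ k.1]; exact ⟨rfl, LB.n_J5 (u := zz) rfl k.2⟩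
  · rw [b1 y hy, uq_comm _ k]; exact ⟨rfl, by simp [act]⟩
  · rw [b1 y hy, mem_Js, S.mul_u, z, S.inv_u, mul_inv_cancel]
  · rcases (hR zz).1 ⟨_, b2 i, rfl⟩ with e | e | e
    · exact absurd e (by decide)
    · exact hb (by rw [← e]; rfl)
    · exact hb (neg_eq_zero.1 (show x⁻¹.b = 0 by rw [← e]; rfl))
  obtain ⟨x', a1, a2⟩ := uq_nm hE (fun v => (hr κ v).symm) x ((hR x).2 (.inr (.inl rfl)))
  have a3 := uq_ne a2 x1
  have a4 : x'.a = 0 ∧ x'.b ≠ 0 := by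
    rcases (hR x').1 a1 with e | e | e
    · exact absurd e a3
    · exact e ▸ ⟨ha, hb⟩
    · rw [e]; simp [ha, hb]
  have a5 : ∀ v ∈ V3, r κ v ∈ V3 := fun v hv => (fix_of_Aln a4.1 a3).1 (by rw [uq_act a2, fix_Aln.2 hv x ha])
  simp only [List.forall_mem_cons, List.not_mem_nil, false_imp_iff, implies_true, and_true]
  refine ⟨fun y _ k => ?_, fun y _ k => ?_, fun y _ k => afn_J hE κ k⟩
  · rw [eq_inl k.1, ← hr]; exact ⟨rfl, a5 _ k.2⟩
  · rw [eq_inl k.1, ← hr]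
    have := a5 _ (LB.n_J5 (u := x) ha k.2)
    rw [map_sub, ← uq_act a2] at this
    exact ⟨rfl, mem_J5.2 (by simpa [act, a4.2] using (mem_V3.1 this).2.1)⟩

/-- `sub_cases` for `R = E.map πu` (`E = R.comap πu`; `R ≠ ⊤` by `essential_lt`).  In the remaining cases every restriction `γ ∈ Γ` (`res_map`) normalizes `ρ R` and
fixes `Zv`: `R = {b = e a}` (`fix_zz_a`; `u = x1`), `R = ⟨x⟩ ≤ Apt` (`n2_Apt`, `n2_iff`; `u ∈ {x1, zz}` outside `R`), `R = ⟨x⟩` with `a, b ≠ 0`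
(`lab_L`, `reg_L`; `u = zz`); so `star` and `not_nm` apply. -/
theorem NF.ess_L (h : NF F) (hL : Gam F = ΓL) (hE : F.IsEssential 3 E) (hJ : Js ≤ E) : E = Js ∨ E = E1 ∨ E = E2 := by
  obtain ⟨H, hs⟩ := es_of_essential h.sat hE
  have key : (∀ γ ∈ Gam F, Nm (E.map πu) γ → γ ep ∈ Zv) → ∀ u ∈ Apt, u ∉ E.map πu →
      (∀ x ∈ E.map πu, u * x * u⁻¹ ∈ E.map πu) → False := fun hz u h1 h2 h3 =>
    hs.not_nm hJ (fun κ hκ γ hγ => by
      obtain ⟨γ', g1, g2, -⟩ := res_map ((mem_autGroup le_top).1 hκ) hJ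
      obtain rfl : γ = γ' := LinearEquiv.ext fun v => inl_inj ((hγ v).symm.trans (g2 v))
      exact h.gh.star g1 (hz γ g1 (uq_nm hJ hγ))) h1 h2 h3
  have c := comap_map_eq_self (f := πu) hJ
  rcases sub_cases (E.map πu) with e | ⟨x, x1', e⟩ | e | e | ⟨k, k0, e⟩ | e
  · exact .inl (le_antisymm (api_bot e) hJ)
  · exfalso
    have hx := (e x).2 (.inr (.inl rfl))
    by_cases hb : x.b = 0
    · have l : ∀ u ∈ E.map πu, u ∈ Apt := fun u hu => by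
        rcases (e u).1 hu with rfl | rfl | rfl
        exacts [one_mem _, hb, inv_mem (show x ∈ Apt from hb)]
      obtain ⟨u, u1, u2⟩ : ∃ u ∈ Apt, ¬ (u = 1 ∨ u = x ∨ u = x⁻¹) := by
        by_cases ha : x.a = 0
        · refine ⟨x1, rfl, ?_⟩
          rintro (k | k | k) <;> have := congrArg Hs.a k <;> simp [x1, ha] at this
        · refine ⟨zz, rfl, ?_⟩
          rintro (k | k | k)
          · exact absurd k (by decide)
          · exact ha (by rw [← k]; rfl)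
          · exact ha (neg_eq_zero.1 (show x⁻¹.a = 0 by rw [← k]; rfl))
      refine key (fun γ _ n => ?_) u u1 (fun k => u2 ((e u).1 k)) fun y hy => ?_
      · obtain ⟨x', a1, a2⟩ := n x hx
        obtain ⟨v, hv⟩ := n2_Apt (show x ∈ Apt from hb) x1'
        rw [← hv, map_sub, ← uq_act a2, map_sub, ← uq_act a2]
        exact n2_iff.2 (l _ a1) _
      · rwa [show u * y = y * u by ext <;> simp [add_comm, mem_Apt.1 u1, mem_Apt.1 (l y hy)], mul_inv_cancel_right]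
    by_cases ha : x.a = 0
    · exact hs.not_tv hJ ha hb e
    refine key (fun γ g n => reg_L (lab_L (L_le_L2 (hL ▸ g)) (by rw [lab_ep]; decide)) ha hb (uq_fix n hx)) zz rfl
      (fun k => ?_) fun y hy => by rwa [← zz_comm, mul_inv_cancel_right]
    rcases (e zz).1 k with k | k | k
    · exact absurd k (by decide)
    · exact ha (by rw [← k]; rfl)
    · exact ha (neg_eq_zero.1 (show x⁻¹.a = 0 by rw [← k]; rfl))
  · exact .inr (.inl (by rw [← c, e]; rfl))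
  · exact .inr (.inr (by rw [← c, e]; rfl))
  · exact (key (fun γ _ n => fix_zz_a (u := ⟨1, k, 0⟩) one_ne_zero (uq_fix n ((e _).2 (by simp [zz])))
      (uq_fix n ((e _).2 (by simp)))) x1 rfl (fun i => k0 (by simpa [x1, eq_comm] using (e _).1 i))
      fun y hy => (e _).2 (by simpa [x1] using (e _).1 hy)).elim
  · exact absurd (by rw [← c, e, comap_top]) (essential_lt p3 h.sat hE).ne

/-- `γ t3 γ⁻¹ t3⁻¹` centralizes `ρ Aln` (both invert it), so is `ρ a` (`cenB`); `ρ a γ` commutes with `t3` (`a³ = 1`). -/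
theorem GH.commB {Γ : Subgroup GV} (h : GH Γ) (hn : ng ∉ Γ) {γ : GV} (hγ : γ ∈ Γ) (h1 : Nm Aln γ) :
    ∃ u ∈ Aln, ρ u * γ * C3F.t3 = C3F.t3 * (ρ u * γ) := by
  obtain ⟨m1, m2, m3, m4, d, hd, a⟩ := LB.exists_ac h1
  obtain ⟨u, hu, e | e⟩ := h.cenB (mul_mem (mul_mem (mul_mem hγ h.t3) (inv_mem hγ)) (inv_mem h.t3))
    ((((a.mul LB.ac_t3).mul (a.inv hd)).mul (LB.ac_t3.inv (d := 1) (by decide))).cen (by
      clear a; revert m1 m2 m3 m4 d; decide +kernel))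
  swap
  · exact absurd e.1 hn
  have ti : C3F.t3 * ρ u = ρ u⁻¹ * C3F.t3 := by
    rw [← mul_inv_eq_iff_eq_mul, C3F.t3, tV_conj]
    congr 1
    ext <;> simp [mem_Aln.1 hu]
  refine ⟨u, hu, ?_⟩
  calc _ = ρ u * (γ * C3F.t3 * γ⁻¹ * C3F.t3⁻¹) * C3F.t3 * γ := by group
    _ = ρ u⁻¹ * C3F.t3 * γ := by
      rw [e, ← map_mul, eq_inv_of_mul_eq_one_left (show u * u * u = 1 by rw [← u.cube, pow_three'])]
    _ = _ := by rw [← ti, mul_assoc]

theorem GH.commA {Γ : Subgroup GV} (h : GH Γ) (hn : ng ∉ Γ) (ht : t2 ∈ Γ) {γ : GV} (hγ : γ ∈ Γ) (h1 : Nm Apt γ) :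
    ∃ u ∈ Apt, ρ u * γ * t2 = t2 * (ρ u * γ) := by
  obtain ⟨p, q, r, s, a⟩ := AcA.of_nm h1
  have c1 : AcA t2 (-1) 0 0 (-1) := (AcA.tt (-1) 1 1).cg (by decide)
  obtain ⟨u, hu, e | e⟩ := h.cenA (mul_mem (mul_mem (mul_mem hγ ht) (inv_mem hγ)) (inv_mem ht))
    ((((a.mul c1).mul a.inv).mul c1.inv).cg (by
      have := a.det
      revert this
      generalize p = p, q = q, r = r, s = s
      revert p q r s
      decide +kernel)).cen
  swap
  · exact absurd e.1 hn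
  have ti : t2 * ρ u = ρ u⁻¹ * t2 := by
    rw [← mul_inv_eq_iff_eq_mul, t2, tV_conj]
    congr 1
    ext <;> simp [mem_Apt.1 hu]
  refine ⟨u, hu, ?_⟩
  calc _ = ρ u * (γ * t2 * γ⁻¹ * t2⁻¹) * t2 * γ := by group
    _ = ρ u⁻¹ * t2 * γ := by
      rw [e, ← map_mul, eq_inv_of_mul_eq_one_left (show u * u * u = 1 by rw [← u.cube, pow_three'])]
    _ = _ := by rw [← ti, mul_assoc]

/-- `alperin_le` as in `RFS.le_of`: `S` by `AS_le`; `E3` by `gen3`; `E ⊇ J` by `ext_gen` with `h1_ng` (`tS_mem_iff`, `ng_comm`), or for `ΓL` by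
`ess_L`, `autJ_le`, `h1_E1`, `h1_E2` (`t2 ∈ PZ ≤ ΓL`, `ng_not_L`). -/
theorem NF.le (h : NF F) (h' : NF F') (e : Gam F = Gam F') (hn : ng ∈ Gam F ∨ Gam F = ΓL) : F ≤ F' := by
  have hG : Gam F ≤ Gam F' := e.le
  have hA := AS_le h'.sat h.form h'.form hG
  have sj : Function.Surjective πu := fun u => ⟨inr u, rfl⟩
  refine alperin_le p3 h.sat F' ?_
  rintro P (rfl | hP)
  · intro α hα
    obtain ⟨φ, h1, h2⟩ := exists_AS ((mem_autGroup le_rfl).1 hα)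
    exact mem_autGroup_of_isMap (hA h1) fun x _ => (h2 x).symm
  rcases ess_cases h.sat hP with hJ | rfl
  · rcases hn with hn | hL
    · exact ext_gen h.sat h'.sat hG hJ (a := 1) (b := 1) (c := -1) ((tS_mem_iff h.sat h.form).2 hn)
        ((tS_mem_iff h'.sat h'.form).2 (hG hn)) (fun x hx => uq_mem hJ ⟨x, hx, by ext <;> simp [ts]⟩)
        (fun γ _ _ => ⟨1, one_mem _, ng_comm _⟩) (h1_ng hJ)
    have n : ng ∉ Gam F := hL ▸ ng_not_L
    rcases h.ess_L hL hP hJ with rfl | rfl | rfl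
    · exact autJ_le hG
    · refine ext_gen h.sat h'.sat hG hJ h.t3 h'.t3 (fun x hx => by simpa [ts] using hx) ?_ h1_E1
      rw [show E1.map πu = Aln from map_comap_eq_self_of_surjective sj _]
      exact fun γ g k => h.gh.commB n g k
    · have t : t2 ∈ Gam F := hL ▸ PZ_le_L (subset_closure (by simp))
      refine ext_gen h.sat h'.sat hG hJ ((tS_mem_iff h.sat h.form).2 t) ((tS_mem_iff h'.sat h'.form).2 (hG t))
        (fun x hx => by simpa [ts] using hx) ?_ h1_E2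
      rw [show E2.map πu = Apt from map_comap_eq_self_of_surjective sj _]
      exact fun γ g k => h.gh.commA n t g k
  intro α hα
  obtain ⟨φ, h1, h2, h3 | ⟨g, h3⟩⟩ := gen3 h.sat hP h.ω hα
  · exact mem_autGroup_of_isMap (IsMap.mono (hA h1) le_top) h3
  obtain ⟨α1, a1, a2⟩ := exists_res_AS (hA h1) h2
  obtain ⟨α2, b1, b2⟩ := exists_res_AS (conj_mem_AS F' g) fun x hx => conj_E3 g hx
  have : α = α2 * ω0 * α1 := aut_ext fun x hx => by
    rw [afn_mul _ _ hx, afn_mul _ _ (afn_mem _ hx), b2 _ (afn_mem _ (afn_mem _ hx)), afn_ω0 (afn_mem _ hx), a2 x hx,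
      h3 x hx]
    rfl
  exact this ▸ mul_mem (mul_mem b1 h'.ω) a1

theorem NF.eq (h : NF F) (h' : NF F') (e : Gam F = Gam F') (hn : ng ∈ Gam F ∨ Gam F = ΓL) : F = F' :=
  fs_le_antisymm (h.le h' e hn) (h'.le h e.symm (e ▸ hn))

end Cfsg.Agent.C3F
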